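import Groth.Agent.S4989
import Groth.Agent.HTopCov.Points
import Groth.Agent.FibDim.Comp
import Mathlib.AlgebraicGeometry.Morphisms.Smooth
import Mathlib.AlgebraicGeometry.Morphisms.UniversallyOpen
import Mathlib.AlgebraicGeometry.Morphisms.UniversallyInjective
import Mathlib.RingTheory.Valuation.ValuationRing

/-! # Generizations in connected components along sections of smooth morphisms -/

set_option autoImplicit false
set_option linter.style.haveILetI false

universe u

open CategoryTheory CategoryTheory.Limits AlgebraicGeometry Topology IsLocalRing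

namespace Groth.Agent.SGA7X.SheetGen

/-- In a connected noetherian sober space a nonempty set stable under generization and
specialization is everything. -/
theorem eq_univ_of_stable {α : Type u} [TopologicalSpace α] [TopologicalSpace.NoetherianSpace α]
    [QuasiSober α] [T0Space α] [PreconnectedSpace α] {C : Set α} (hne : C.Nonempty)
    (h : ∀ a b : α, a ⤳ b → (a ∈ C ↔ b ∈ C)) : C = Set.univ := by
  have key : ∀ D : Set α, (∀ a b : α, a ⤳ b → (a ∈ D ↔ b ∈ D)) → IsClosed D := by
    intro D hD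
    have hfin : {Z ∈ irreducibleComponents α | Z ⊆ D}.Finite :=
      TopologicalSpace.NoetherianSpace.finite_irreducibleComponents.subset fun _ hZ => hZ.1
    have e : D = ⋃ Z ∈ {Z ∈ irreducibleComponents α | Z ⊆ D}, Z := by
      refine Set.Subset.antisymm (fun x hx => ?_) (Set.iUnion₂_subset fun Z hZ => hZ.2)
      have hirr := (isIrreducible_irreducibleComponent : IsIrreducible (irreducibleComponent x))
      have hg := hirr.isGenericPoint_genericPoint isClosed_irreducibleComponent
      refine Set.mem_iUnion₂.2 ⟨irreducibleComponent x,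
        ⟨irreducibleComponent_mem_irreducibleComponents x, fun w hw => ?_⟩, mem_irreducibleComponent⟩
      exact (hD _ _ (hg.specializes hw)).1 ((hD _ _ (hg.specializes mem_irreducibleComponent)).2 hx)
    rw [e]
    exact hfin.isClosed_biUnion fun Z hZ => isClosed_of_mem_irreducibleComponents Z hZ.1
  have ho : IsOpen C := isClosed_compl_iff.1 (key Cᶜ fun a b hab => not_congr (h a b hab))
  exact IsClopen.eq_univ ⟨key C h, ho⟩ hne

/-- The local rings of the spectrum of an integrally closed domain. -/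
theorem stalk_spec_normal (V : CommRingCat.{u}) [IsDomain V] [IsIntegrallyClosed V] (t : Spec V) :
    IsDomain ((Spec V).presheaf.stalk t) ∧ IsIntegrallyClosed ((Spec V).presheaf.stalk t) := by
  let q : PrimeSpectrum V := t
  haveI : q.asIdeal.IsPrime := q.isPrime
  letI : Algebra V ((Spec V).presheaf.stalk t) := StructureSheaf.stalkAlgebra V q
  haveI : IsLocalization q.asIdeal.primeCompl ((Spec V).presheaf.stalk t) :=
    StructureSheaf.IsLocalization.to_stalk V q
  have hle : q.asIdeal.primeCompl ≤ nonZeroDivisors V := q.asIdeal.primeCompl_le_nonZeroDivisors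
  haveI := IsLocalization.isDomain_of_le_nonZeroDivisors ((Spec V).presheaf.stalk t) hle
  exact ⟨inferInstance, isIntegrallyClosed_of_isLocalization _ q.asIdeal.primeCompl hle⟩

theorem eq_bot_of_specializes {V : CommRingCat.{u}} [IsDomain V] {t : Spec V}
    (h : t ⤳ (⊥ : PrimeSpectrum V)) : t = (⊥ : PrimeSpectrum V) := by
  have h' : PrimeSpectrum.asIdeal t ≤ (⊥ : Ideal V) := (PrimeSpectrum.le_iff_specializes _ _).2 h
  exact PrimeSpectrum.ext (le_bot_iff.1 h')

/-- Two generizations of a point of a smooth scheme over a normal base have a common one. -/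
theorem exists_common_gen {V : CommRingCat.{u}} [IsDomain V] [IsIntegrallyClosed V] {X : Scheme.{u}}
    (f : X ⟶ Spec V) [Smooth f] {x γ γ' : X} (h : γ ⤳ x) (h' : γ' ⤳ x) : ∃ δ, δ ⤳ γ ∧ δ ⤳ γ' := by
  have hs : x ∈ f.smoothLocus := by rw [Scheme.Hom.smoothLocus_eq_top]; trivial
  haveI : IsDomain (X.presheaf.stalk x) :=
    ((Groth.Agent.S4989.result f x hs).2.2 (stalk_spec_normal V _)).1
  obtain ⟨a, ha⟩ : γ ∈ Set.range (X.fromSpecStalk x) := by rw [Scheme.range_fromSpecStalk]; exact h
  obtain ⟨b, hb⟩ : γ' ∈ Set.range (X.fromSpecStalk x) := by rw [Scheme.range_fromSpecStalk]; exact h'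
  let o : Spec (X.presheaf.stalk x) := (⊥ : PrimeSpectrum (X.presheaf.stalk x))
  have ho : ∀ c : Spec (X.presheaf.stalk x), o ⤳ c := fun c =>
    (PrimeSpectrum.le_iff_specializes o c).1 bot_le
  exact ⟨X.fromSpecStalk x o, ha ▸ (ho a).map (X.fromSpecStalk x).continuous,
    hb ▸ (ho b).map (X.fromSpecStalk x).continuous⟩

/-- A connected piece of a fibre of a smooth scheme over a valuation ring sees one component of the
generic fibre. -/
theorem mem_of_connected_piece {V : CommRingCat.{u}} [IsDomain V] [IsIntegrallyClosed V]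
    {X : Scheme.{u}} (f : X ⟶ Spec V) [Smooth f] (Γ : Set X)
    (hst : ∀ a b : X, f a = (⊥ : PrimeSpectrum V) → f b = (⊥ : PrimeSpectrum V) → a ⤳ b → (a ∈ Γ ↔ b ∈ Γ))
    {T : Scheme.{u}} [ConnectedSpace T] [TopologicalSpace.NoetherianSpace T] (j : T ⟶ X)
    {x γ : X} (hx : x ∈ Set.range j) (hγx : γ ⤳ x) (hγ : f γ = (⊥ : PrimeSpectrum V)) (hγΓ : γ ∈ Γ)
    {y γ' : X} (hy : y ∈ Set.range j) (hγy : γ' ⤳ y) (hγ' : f γ' = (⊥ : PrimeSpectrum V)) : γ' ∈ Γ := by
  let C : Set X := {w | ∀ δ, δ ⤳ w → f δ = (⊥ : PrimeSpectrum V) → δ ∈ Γ}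
  have hC : ∀ w δ, δ ⤳ w → f δ = (⊥ : PrimeSpectrum V) → δ ∈ Γ → w ∈ C := by
    intro w δ hδ hδ0 hδΓ δ' hδ' hδ'0
    obtain ⟨ε, he, he'⟩ := exists_common_gen f hδ hδ'
    have hε : f ε = (⊥ : PrimeSpectrum V) :=
      eq_bot_of_specializes ((he.map f.continuous).trans (specializes_of_eq hδ0))
    exact (hst ε δ' hε hδ'0 he').1 ((hst ε δ hε hδ0 he).2 hδΓ)
  have hgen : ∀ w, ∃ δ, δ ⤳ w ∧ f δ = (⊥ : PrimeSpectrum V) := fun w => by
    obtain ⟨δ, h1, h2⟩ := Flat.generalizingMap (f := f) (show ((⊥ : PrimeSpectrum V) : Spec V) ⤳ f w from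
      (PrimeSpectrum.le_iff_specializes _ _).1 bot_le)
    exact ⟨δ, h1, h2⟩
  have hstab : ∀ a b : X, a ⤳ b → (a ∈ C ↔ b ∈ C) := by
    refine fun a b hab => ⟨fun ha => ?_, fun hb δ hδ h0 => hb δ (hδ.trans hab) h0⟩
    obtain ⟨δ, hδ, h0⟩ := hgen a
    exact hC b δ (hδ.trans hab) h0 (ha δ hδ h0)
  obtain ⟨t, rfl⟩ := hx
  obtain ⟨t', rfl⟩ := hy
  have := eq_univ_of_stable (C := j ⁻¹' C) ⟨t, hC _ γ hγx hγ hγΓ⟩
    fun a b hab => hstab _ _ (hab.map j.continuous)
  exact (Set.eq_univ_iff_forall.1 this t') γ' hγy hγ'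

/-- A morphism from the spectrum of a field factors through the residue field of its image. -/
theorem exists_factor_residue {S : Scheme.{u}} {K : Type u} [Field K] (k : Spec (.of K) ⟶ S)
    {s : S} (hs : ∀ z, k z = s) :
    ∃ φ : Spec (.of K) ⟶ Spec (S.residueField s), φ ≫ S.fromSpecResidueField s = k := by
  have e := Scheme.descResidueField_stalkClosedPointTo_fromSpecResidueField K S k
  obtain rfl := hs (closedPoint K)
  exact ⟨_, e⟩

/-- Local constructibility of a sheet of an étale separated scheme over a scheme with sections in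
the fibres, from compactness of the constructible topology. -/
theorem isLocallyConstructible_sheet {E P S : Scheme.{u}} [CompactSpace S] [QuasiSeparatedSpace S]
    (π : E ⟶ P) [Etale π] [IsSeparated π] (p : P ⟶ S) [QuasiCompact p] [QuasiSeparated p]
    [LocallyOfFinitePresentation p] (e' : S ⟶ E) (W : Set E)
    (he' : ∀ s, p (π (e' s)) = s) (heW : ∀ s, e' s ∈ W)
    (hconn : ∀ s, _root_.IsPreconnected (p ⁻¹' {s}))
    (hopen : ∀ s, ∃ O : Set E, IsOpen O ∧ ∀ x, p (π x) = s → (x ∈ O ↔ x ∈ W))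
    (hclosed : ∀ s, ∃ O : Set E, IsOpen O ∧ ∀ x, p (π x) = s → (x ∈ O ↔ x ∉ W))
    (hsurj : ∀ y, ∃ x ∈ W, π x = y)
    (hcpt : ∀ s, IsCompact (W ∩ {x | p (π x) = s}))
    (hinj : ∀ (K : Type u) [Field K] (u v : Spec (.of K) ⟶ E),
      u ≫ π = v ≫ π → (∀ z, u z ∈ W) → (∀ z, v z ∈ W) → u = v) :
    IsLocallyConstructible W := by
  haveI : CompactSpace P := QuasiCompact.compactSpace_of_compactSpace p
  haveI : QuasiSeparatedSpace P := quasiSeparatedSpace_of_quasiSeparated p
  haveI : QuasiSeparatedSpace E := quasiSeparatedSpace_of_quasiSeparated π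
  haveI : QuasiCompact e' := quasiCompact_of_compactSpace e'
  -- compact opens cutting out `W` in a given fibre
  have hO : ∀ s, ∃ O : E.Opens, IsCompact (O : Set E) ∧ ∀ x, p (π x) = s → (x ∈ O ↔ x ∈ W) := by
    intro s
    obtain ⟨O, hO, hOs⟩ := hopen s
    obtain ⟨c, hc, hcfin⟩ : ∃ c : Set E.affineOpens, (W ∩ {x | p (π x) = s}) ⊆ ⋃ U ∈ c, (U : Set E) ∧
        c.Finite ∧ ∀ U ∈ c, (U : Set E) ⊆ O := by
      have hcov : W ∩ {x | p (π x) = s} ⊆ ⋃ U : {U : E.affineOpens // (U : Set E) ⊆ O}, (U.1 : Set E) := by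
        rintro x ⟨hx, hxs⟩
        obtain ⟨_, ⟨U, hU, rfl⟩, hxU, hUO⟩ :=
          E.isBasis_affineOpens.exists_subset_of_mem_open ((hOs x hxs).2 hx) hO
        exact Set.mem_iUnion.2 ⟨⟨⟨U, hU⟩, hUO⟩, hxU⟩
      obtain ⟨F, hF⟩ := (hcpt s).elim_finite_subcover _ (fun U => U.1.1.2) hcov
      refine ⟨Subtype.val '' (↑F : Set {U : E.affineOpens // (U : Set E) ⊆ O}), fun x hx => ?_,
        F.finite_toSet.image Subtype.val, ?_⟩
      · obtain ⟨U, hU, hxU⟩ := Set.mem_iUnion₂.1 (hF hx)
        exact Set.mem_iUnion₂.2 ⟨U.1, ⟨U, hU, rfl⟩, hxU⟩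
      · rintro _ ⟨U, -, rfl⟩; exact U.2
    refine ⟨⟨⋃ U ∈ c, (U : Set E), isOpen_biUnion fun U _ => U.1.2⟩, hcfin.1.isCompact_biUnion fun U _ => U.2.isCompact,
      fun x hx => ⟨fun h => (hOs x hx).1 (?_), fun h => hc ⟨h, hx⟩⟩⟩
    obtain ⟨U, hU, hxU⟩ := Set.mem_iUnion₂.1 h
    exact hcfin.2 U hU hxU
  choose O hOc hOs using hO
  -- the good loci
  have key : ∀ s₀, ∃ L : Set S, IsConstructible L ∧ s₀ ∈ L ∧
      ∀ x, p (π x) ∈ L → (x ∈ O s₀ ↔ x ∈ W) := by
    intro s₀
    let U := O s₀
    haveI : CompactSpace U := isCompact_iff_compactSpace.1 (hOc s₀)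
    let f : (U : Scheme.{u}) ⟶ P := U.ι ≫ π
    haveI : QuasiCompact f := quasiCompact_of_compactSpace f
    let D := pullback f f
    haveI : CompactSpace D := QuasiCompact.compactSpace_of_compactSpace (pullback.fst f f)
    haveI : QuasiSeparatedSpace (U : Scheme.{u}) := quasiSeparatedSpace_of_quasiSeparated f
    haveI : QuasiSeparatedSpace D := quasiSeparatedSpace_of_quasiSeparated (pullback.fst f f)
    let R : Set D := (Set.range (pullback.diagonal f))ᶜ
    have hR : IsConstructible R := by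
      refine IsCompact.isConstructible ?_ ?_
      · exact ((pullback.diagonal f).isOpenEmbedding.isOpen_range.isClosed_compl).isCompact
      · exact (pullback.diagonal f).isClosedEmbedding.isClosed_range.isOpen_compl
    let B : Set P := (pullback.fst f f ≫ f) '' R
    have hB : IsConstructible B := (pullback.fst f f ≫ f).isConstructible_image hR
    have hπU : IsConstructible (π '' (U : Set E)) :=
      ((hOc s₀).image π.continuous).isConstructible (π.isOpenMap _ U.2)
    have hU' : IsConstructible (e' ⁻¹' (U : Set E)) :=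
      (e'.isCompact_preimage (hOc s₀)).isConstructible (U.2.preimage e'.continuous)
    refine ⟨e' ⁻¹' (U : Set E) \ p '' (B ∪ (π '' (U : Set E))ᶜ),
      hU'.sdiff (p.isConstructible_image (hB.union hπU.compl)), ⟨?_, ?_⟩, ?_⟩
    · exact (hOs s₀ _ (he' s₀)).2 (heW s₀)
    · rintro ⟨z, hz, hzs⟩
      rcases hz with ⟨d, hd, rfl⟩ | hz
      · apply hd
        let K := D.residueField d
        let i := D.fromSpecResidueField d
        have hmem : ∀ (a : D ⟶ (U : Scheme.{u})), a ≫ f = pullback.fst f f ≫ f →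
            ∀ z, (i ≫ a ≫ U.ι) z ∈ W := fun a ha z => by
          refine (hOs s₀ _ ?_).1 ?_
          · have h1 := congrArg (fun g : D ⟶ P => p (g (i z))) ha
            refine h1.trans ?_
            rw [show i z = d from Scheme.fromSpecResidueField_apply d z]
            exact hzs
          · exact (a (i z)).2
        have huv := hinj K (i ≫ pullback.fst f f ≫ U.ι) (i ≫ pullback.snd f f ≫ U.ι)
          (by simp only [Category.assoc]
              exact congrArg (i ≫ ·) pullback.condition)
          (hmem _ rfl) (hmem _ pullback.condition.symm)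
        simp only [← Category.assoc] at huv
        rw [cancel_mono U.ι] at huv
        refine ⟨(i ≫ pullback.fst f f) (default : Spec (D.residueField d)), ?_⟩
        have : i = (i ≫ pullback.fst f f) ≫ pullback.diagonal f := by
          refine pullback.hom_ext ?_ ?_
          · rw [Category.assoc, pullback.diagonal_fst, Category.comp_id]
          · rw [Category.assoc, pullback.diagonal_snd, Category.comp_id, huv]
        rw [← Scheme.Hom.comp_apply, ← this]
        exact Scheme.fromSpecResidueField_apply d _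
      · obtain ⟨x, hx, rfl⟩ := hsurj z
        exact hz ⟨x, (hOs s₀ x hzs).2 hx, rfl⟩
    · rintro x ⟨hex, hLx⟩
      set t := p (π x) with ht
      have hinjU : ∀ a b, a ∈ U → b ∈ U → p (π a) = t → π a = π b → a = b := by
        intro a b ha hb hat hab
        obtain ⟨d, hd1, hd2⟩ := Scheme.Pullback.exists_preimage_pullback (f := f) (g := f) ⟨a, ha⟩ ⟨b, hb⟩ hab
        by_contra hne
        refine hLx ⟨π a, Or.inl ⟨d, ?_, ?_⟩, hat⟩
        · rintro ⟨c, rfl⟩
          rw [← Scheme.Hom.comp_apply, pullback.diagonal_fst] at hd1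
          rw [← Scheme.Hom.comp_apply, pullback.diagonal_snd] at hd2
          exact hne (congrArg Subtype.val (hd1.symm.trans hd2))
        · rw [Scheme.Hom.comp_apply, hd1]; rfl
      have hsub : ∀ a, a ∈ U → p (π a) = t → a ∈ W := by
        obtain ⟨A, hA, hAs⟩ := hopen t
        obtain ⟨A', hA', hA's⟩ := hclosed t
        by_contra hcon
        push Not at hcon
        obtain ⟨a, haU, hat, haW⟩ := hcon
        have hcov : p ⁻¹' {t} ⊆ π '' ((U : Set E) ∩ A) ∪ π '' ((U : Set E) ∩ A') := fun z hz => by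
          obtain ⟨w, hw, rfl⟩ : z ∈ π '' (U : Set E) := by
            by_contra hz'
            exact hLx ⟨z, Or.inr hz', hz⟩
          by_cases hwW : w ∈ W
          · exact Or.inl ⟨w, ⟨hw, (hAs w hz).2 hwW⟩, rfl⟩
          · exact Or.inr ⟨w, ⟨hw, (hA's w hz).2 hwW⟩, rfl⟩
        obtain ⟨z, hz, ⟨w, ⟨hwU, hwA⟩, rfl⟩, w', ⟨hw'U, hw'A⟩, e⟩ := hconn t _ _
          (π.isOpenMap _ (U.2.inter hA)) (π.isOpenMap _ (U.2.inter hA')) hcov
          ⟨π (e' t), he' t, _, ⟨hex, (hAs _ (he' t)).2 (heW t)⟩, rfl⟩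
          ⟨π a, hat, _, ⟨haU, (hA's a hat).2 haW⟩, rfl⟩
        have hz' : p (π w') = t := (congrArg p e).trans hz
        obtain rfl := hinjU w' w hw'U hwU hz' e
        exact (hA's w' hz').1 hw'A ((hAs w' hz).1 hwA)
      refine ⟨fun hx => hsub x hx rfl, fun hx => ?_⟩
      obtain ⟨a, haU, hax⟩ : π x ∈ π '' (U : Set E) := by
        by_contra hz'
        exact hLx ⟨π x, Or.inr hz', rfl⟩
      have hat : p (π a) = t := congrArg p hax
      have haW := hsub a haU hat
      obtain ⟨d, hd1, hd2⟩ := Scheme.Pullback.exists_preimage_pullback (f := π) (g := π) a x hax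
      have huv := hinj ((pullback π π).residueField d) ((pullback π π).fromSpecResidueField d ≫ pullback.fst π π)
        ((pullback π π).fromSpecResidueField d ≫ pullback.snd π π)
        (by simp only [Category.assoc, pullback.condition])
        (fun z => by rw [Scheme.Hom.comp_apply, Scheme.fromSpecResidueField_apply, hd1]; exact haW)
        (fun z => by rw [Scheme.Hom.comp_apply, Scheme.fromSpecResidueField_apply, hd2]; exact hx)
      have : a = x := by
        rw [← hd1, ← hd2, ← Scheme.fromSpecResidueField_apply d default, ← Scheme.Hom.comp_apply,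
          ← Scheme.Hom.comp_apply, huv]
      exact this ▸ haU
  choose L hL hLs hLW using key
  obtain ⟨F, hF⟩ : ∃ F : Finset S, Set.univ ⊆ ⋃ s ∈ F, L s := by
    haveI hc : @CompactSpace S (constructibleTopology S) := ProConsLib.compactSpace_cons
    exact @IsCompact.elim_finite_subcover S (constructibleTopology S) Set.univ S
      (@isCompact_univ S (constructibleTopology S) hc) L
      (fun s => by
        have h := ProConsLib.consClosed_of_isConstructible (hL s).compl
        exact (@isClosed_compl_iff S (constructibleTopology S) (L s)).1 h)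
      (fun s _ => Set.mem_iUnion.2 ⟨s, hLs s⟩)
  have e : W = ⋃ s ∈ F, ((O s : Set E) ∩ (π ≫ p) ⁻¹' L s) := by
    ext x
    obtain ⟨s, hs, hxs⟩ := Set.mem_iUnion₂.1 (hF (Set.mem_univ (p (π x))))
    refine ⟨fun hx => Set.mem_iUnion₂.2 ⟨s, hs, (hLW s x hxs).2 hx, by simpa using hxs⟩, fun hx => ?_⟩
    obtain ⟨s', -, hx1, hx2⟩ := Set.mem_iUnion₂.1 hx
    exact (hLW s' x (by simpa using hx2)).1 hx1
  rw [e]
  refine IsLocallyConstructible.biUnion F.finite_toSet fun s _ => ?_
  let i := (O s).ι
  haveI : CompactSpace (O s) := isCompact_iff_compactSpace.1 (hOc s)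
  haveI : QuasiCompact i := quasiCompact_of_compactSpace i
  haveI : QuasiCompact (i ≫ π ≫ p) := quasiCompact_of_compactSpace _
  have h := i.isLocallyConstructible_image ((i ≫ π ≫ p).isConstructible_preimage (hL s)).isLocallyConstructible
  have e : ((O s : Set E) ∩ (π ≫ p) ⁻¹' L s) = i '' ((i ≫ π ≫ p) ⁻¹' L s) := by
    rw [show ((i ≫ π ≫ p) ⁻¹' L s : Set _) = i ⁻¹' ((π ≫ p) ⁻¹' L s) from rfl,
      Set.image_preimage_eq_inter_range, Scheme.Opens.range_ι, Set.inter_comm]
  exact e ▸ h

end Groth.Agent.SGA7X.SheetGen
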