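import Mathlib.CategoryTheory.Monoidal.Tor
import Mathlib.Algebra.Category.ModuleCat.Monoidal.Basic
import Mathlib.Algebra.Category.ModuleCat.Abelian
import Mathlib.Algebra.Category.ModuleCat.Projective
import Mathlib.Algebra.Homology.HomologySequence
import Mathlib.Algebra.Homology.HomologicalComplexAbelian
import Mathlib.RingTheory.Flat.Basic
import Mathlib.Algebra.Homology.ShortComplex.ModuleCat

/-!
# Vanishing of Tor in short exact sequences in the first variable
-/

universe u

open CategoryTheory Limits MonoidalCategory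

namespace Groth.Agent.SGA7X

variable {R : Type u} [CommRing R]

/-- The tensor product of a module with a projective resolution. -/
noncomputable abbrev TC (M : ModuleCat.{u} R) {N : ModuleCat.{u} R} (Q : ProjectiveResolution N) :
    ChainComplex (ModuleCat.{u} R) ℕ :=
  (((tensoringLeft (ModuleCat.{u} R)).obj M).mapHomologicalComplex (ComplexShape.down ℕ)).obj Q.complex

theorem shortExact_tensor {S : ShortComplex (ModuleCat.{u} R)} (hS : S.ShortExact)
    (P : ModuleCat.{u} R) [Projective P] :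
    ∃ (w : S.f ▷ P ≫ S.g ▷ P = 0), (ShortComplex.mk (S.f ▷ P) (S.g ▷ P) w).ShortExact := by
  haveI : Module.Projective R P := (IsProjective.iff_projective _).2 inferInstance
  have hinj : Function.Injective S.f.hom := (ModuleCat.mono_iff_injective _).1 hS.mono_f
  have hsurj : Function.Surjective S.g.hom := (ModuleCat.epi_iff_surjective _).1 hS.epi_g
  have hexact : Function.Exact S.f.hom S.g.hom :=
    (ShortComplex.ShortExact.moduleCat_exact_iff_function_exact _).1 hS.exact
  refine ⟨by rw [← MonoidalCategory.comp_whiskerRight, S.zero]; exact MonoidalPreadditive.zero_whiskerRight, ?_⟩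
  refine { exact := ?_, mono_f := ?_, epi_g := ?_ }
  · exact (ShortComplex.ShortExact.moduleCat_exact_iff_function_exact _).2
      (rTensor_exact P hexact hsurj)
  · exact (ModuleCat.mono_iff_injective _).2
      (Module.Flat.rTensor_preserves_injective_linearMap S.f.hom hinj)
  · exact (ModuleCat.epi_iff_surjective _).2 (LinearMap.rTensor_surjective P hsurj)

theorem exists_torSeq {S : ShortComplex (ModuleCat.{u} R)} (hS : S.ShortExact)
    (N : ModuleCat.{u} R) :
    ∃ T : ShortComplex (ChainComplex (ModuleCat.{u} R) ℕ), T.ShortExact ∧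
      ∀ i, Nonempty (((Tor (ModuleCat.{u} R) i).obj S.X₁).obj N ≅ T.X₁.homology i) ∧
        Nonempty (((Tor (ModuleCat.{u} R) i).obj S.X₂).obj N ≅ T.X₂.homology i) ∧
        Nonempty (((Tor (ModuleCat.{u} R) i).obj S.X₃).obj N ≅ T.X₃.homology i) := by
  let Q : ProjectiveResolution N := ProjectiveResolution.of N
  let φ : TC S.X₁ Q ⟶ TC S.X₂ Q := (NatTrans.mapHomologicalComplex
    ((tensoringLeft (ModuleCat.{u} R)).map S.f) (ComplexShape.down ℕ)).app Q.complex
  let ψ : TC S.X₂ Q ⟶ TC S.X₃ Q := (NatTrans.mapHomologicalComplex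
    ((tensoringLeft (ModuleCat.{u} R)).map S.g) (ComplexShape.down ℕ)).app Q.complex
  have w : φ ≫ ψ = 0 := by
    ext1 j
    haveI := Q.projective j
    exact (shortExact_tensor hS (Q.complex.X j)).1
  refine ⟨ShortComplex.mk φ ψ w, HomologicalComplex.shortExact_of_degreewise_shortExact _ fun j => ?_,
    fun i => ⟨⟨Q.isoLeftDerivedObj _ i⟩, ⟨Q.isoLeftDerivedObj _ i⟩, ⟨Q.isoLeftDerivedObj _ i⟩⟩⟩
  haveI := Q.projective j
  exact (shortExact_tensor hS (Q.complex.X j)).2

theorem isZero_tor_left {S : ShortComplex (ModuleCat.{u} R)} (hS : S.ShortExact)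
    (N : ModuleCat.{u} R) (i : ℕ)
    (h2 : IsZero (((Tor (ModuleCat.{u} R) i).obj S.X₂).obj N))
    (h3 : IsZero (((Tor (ModuleCat.{u} R) (i + 1)).obj S.X₃).obj N)) :
    IsZero (((Tor (ModuleCat.{u} R) i).obj S.X₁).obj N) := by
  obtain ⟨T, hT, hi⟩ := exists_torSeq hS N
  obtain ⟨⟨e1⟩, ⟨e2⟩, -⟩ := hi i
  obtain ⟨-, -, ⟨e3⟩⟩ := hi (i + 1)
  refine IsZero.of_iso ?_ e1
  refine (hT.homology_exact₁ (i + 1) i rfl).isZero_of_both_zeros ?_ ?_
  · exact (h3.of_iso e3.symm).eq_of_src _ _
  · exact (h2.of_iso e2.symm).eq_of_tgt _ _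

theorem isZero_tor_middle {S : ShortComplex (ModuleCat.{u} R)} (hS : S.ShortExact)
    (N : ModuleCat.{u} R) (i : ℕ)
    (h1 : IsZero (((Tor (ModuleCat.{u} R) i).obj S.X₁).obj N))
    (h3 : IsZero (((Tor (ModuleCat.{u} R) i).obj S.X₃).obj N)) :
    IsZero (((Tor (ModuleCat.{u} R) i).obj S.X₂).obj N) := by
  obtain ⟨T, hT, hi⟩ := exists_torSeq hS N
  obtain ⟨⟨e1⟩, ⟨e2⟩, ⟨e3⟩⟩ := hi i
  refine IsZero.of_iso ?_ e2
  refine (hT.homology_exact₂ i).isZero_of_both_zeros ?_ ?_
  · exact (h1.of_iso e1.symm).eq_of_src _ _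
  · exact (h3.of_iso e3.symm).eq_of_tgt _ _

theorem isZero_tor_flat (M N : ModuleCat.{u} R) [Module.Flat R M] (i : ℕ) :
    IsZero (((Tor (ModuleCat.{u} R) (i + 1)).obj M).obj N) := by
  let Q : ProjectiveResolution N := ProjectiveResolution.of N
  refine IsZero.of_iso ?_ (Q.isoLeftDerivedObj ((tensoringLeft (ModuleCat.{u} R)).obj M) (i + 1))
  refine (HomologicalComplex.exactAt_iff_isZero_homology _ _).1 ?_
  rw [HomologicalComplex.exactAt_iff' _ (i + 1 + 1) (i + 1) i (by simp) (by simp)]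
  refine (ShortComplex.ShortExact.moduleCat_exact_iff_function_exact _).2 ?_
  exact Module.Flat.lTensor_exact M
    ((ShortComplex.ShortExact.moduleCat_exact_iff_function_exact _).1 (Q.exact_succ i))

end Groth.Agent.SGA7X
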