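import Groth.Prelude.Def_NonAbH2
import Groth.Agent.GrpSchLib.TopDescent
import Mathlib.AlgebraicGeometry.Sites.Fpqc

/-!
# Extensions of group schemes, fppf topology: centrality and multiplicativity
-/

universe u

open CategoryTheory CategoryTheory.Limits MonoidalCategory CartesianMonoidalCategory MonObj GrpObj
  AlgebraicGeometry
open Groth.Agent.GrpSchLib.TopDescent

set_option linter.style.haveILetI false

namespace Groth.Agent.SGA7X

variable {S : Scheme.{u}} {J : GrothendieckTopology Scheme.{u}}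

theorem hasLocSec_tensorHom {U Y U' Y' : Over S} {j : U ⟶ Y} {j' : U' ⟶ Y'} (hj : HasLocSec J j)
    (hj' : HasLocSec J j') : HasLocSec J (j ⊗ₘ j') := by
  obtain ⟨R, hR, hsec⟩ := hj
  obtain ⟨R', hR', hsec'⟩ := hj'
  refine ⟨R.pullback (fst Y Y').left ⊓ R'.pullback (snd Y Y').left,
    J.intersection_covering (J.pullback_stable _ hR) (J.pullback_stable _ hR'),
    fun T a ha => ?_⟩
  obtain ⟨s, hs⟩ := hsec _ ha.1
  obtain ⟨s', hs'⟩ := hsec' _ ha.2
  let T' : Over S := Over.mk (a ≫ (Y ⊗ Y').hom)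
  let a' : T' ⟶ Y ⊗ Y' := Over.homMk a rfl
  let t : T' ⟶ U := Over.homMk s (by
    show s ≫ U.hom = a ≫ (Y ⊗ Y').hom
    rw [← Over.w j, ← Category.assoc, hs, Category.assoc, Over.w (fst Y Y')])
  let t' : T' ⟶ U' := Over.homMk s' (by
    show s' ≫ U'.hom = a ≫ (Y ⊗ Y').hom
    rw [← Over.w j', ← Category.assoc, hs', Category.assoc, Over.w (snd Y Y')])
  have h1 : t ≫ j = a' ≫ fst Y Y' := Over.OverMorphism.ext hs
  have h2 : t' ≫ j' = a' ≫ snd Y Y' := Over.OverMorphism.ext hs'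
  have : lift t t' ≫ (j ⊗ₘ j') = a' := by
    apply CartesianMonoidalCategory.hom_ext <;> simp [h1, h2]
  exact ⟨(lift t t').left, congrArg CommaMorphism.left this⟩

theorem hasLocSec_id (Y : Over S) : HasLocSec J (𝟙 Y) :=
  ⟨⊤, J.top_mem _, fun _ a _ => ⟨a, by simp⟩⟩

variable {P G E : Over S} [GrpObj P] [GrpObj G] [GrpObj E] {u : G ⟶ E} {v : E ⟶ P}

omit [GrpObj G] in
theorem whiskerLeft_mul (u : G ⟶ E) : (E ◁ u) ≫ μ[E] = fst E G * (snd E G ≫ u) := by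
  rw [Hom.mul_def]
  congr 1

variable (hex : NonAbH1.IsExactSeq Scheme.fppfPrecoverage u v)
include hex

theorem hasLocSec_of_isExactSeq : HasLocSec Scheme.fppfTopology v := by
  obtain ⟨R, hR, hsec⟩ := hex.2.2.2.2
  refine ⟨Sieve.generate R, Precoverage.generate_mem_toGrothendieck hR, ?_⟩
  rintro T _ ⟨V, b, f, hf, rfl⟩
  obtain ⟨s, hs⟩ := hsec f hf
  exact ⟨b ≫ s, by rw [Category.assoc]; exact congrArg (b ≫ ·) hs⟩

theorem exists_ker_lift {T : Over S} (d : T ⟶ E) (hd : d ≫ v = 1) : ∃ k : T ⟶ G, k ≫ u = d := by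
  haveI := hex.1; haveI := hex.2.1
  have h := hex.2.2.2.1
  refine ⟨h.lift (1 : T ⟶ E) d (by rw [hd, MonObj.one_comp]) ≫ snd E G, ?_⟩
  have h1 := h.lift_fst (1 : T ⟶ E) d (by rw [hd, MonObj.one_comp])
  have h2 := h.lift_snd (1 : T ⟶ E) d (by rw [hd, MonObj.one_comp])
  set l := h.lift (1 : T ⟶ E) d (by rw [hd, MonObj.one_comp]) with hl
  have h3 : l ≫ ((E ◁ u) ≫ μ[E]) = (l ≫ fst E G) * (l ≫ (snd E G ≫ u)) :=
    (congrArg (l ≫ ·) (whiskerLeft_mul u)).trans (MonObj.comp_mul _ _ _)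
  rw [h3, h1, _root_.one_mul] at h2
  rw [Category.assoc]; exact h2

theorem u_cancel {T : Over S} {a b : T ⟶ G} (hab : a ≫ u = b ≫ u) : a = b := by
  have h := hex.2.2.2.1.hom_ext (k := lift (1 : T ⟶ E) a) (l := lift 1 b) (by simp)
    (by rw [whiskerLeft_mul, MonObj.comp_mul, MonObj.comp_mul]; simp [hab])
  simpa using congrArg (· ≫ snd _ _) h

theorem comp_v_eq_one {T : Over S} (g : T ⟶ G) : (g ≫ u) ≫ v = 1 := by
  rw [Category.assoc, hex.2.2.1, MonObj.comp_one]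

/-- Two points with the same image differ by a right translation. -/
theorem exists_translate {T : Over S} (x y : T ⟶ E) (h : x ≫ v = y ≫ v) :
    ∃ g : T ⟶ G, x * (g ≫ u) = y := by
  haveI := hex.2.1
  obtain ⟨g, hg⟩ := exists_ker_lift hex (x⁻¹ * y)
    (by rw [MonObj.mul_comp, GrpObj.inv_comp, h, _root_.inv_mul_cancel])
  exact ⟨g, by rw [hg, mul_inv_cancel_left]⟩

theorem exists_conj_point {T : Over S} (g : T ⟶ G) (y : T ⟶ E) :
    ∃ g' : T ⟶ G, (g ≫ u) * y = y * (g' ≫ u) := by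
  haveI := hex.2.1
  obtain ⟨g', hg'⟩ := exists_ker_lift hex (y⁻¹ * (g ≫ u) * y)
    (by rw [MonObj.mul_comp, MonObj.mul_comp, GrpObj.inv_comp, comp_v_eq_one hex, _root_.mul_one,
      _root_.inv_mul_cancel])
  exact ⟨g', by rw [hg', ← _root_.mul_assoc, mul_inv_cancel_left]⟩

theorem comm_u [IsCommMonObj G] {T : Over S} (g h : T ⟶ G) :
    (g ≫ u) * (h ≫ u) = (h ≫ u) * (g ≫ u) := by
  haveI := hex.1
  rw [← MonObj.mul_comp, ← MonObj.mul_comp, mul_comm]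

theorem central [IsCommMonObj G]
    (hPG : ∀ f : P ⊗ G ⟶ G, lift (𝟙 P) (toUnit P ≫ η[G]) ≫ f = 1 →
      lift (toUnit G ≫ η[P]) (𝟙 G) ≫ f = 1 → f = 1)
    (T : Over S) (g : T ⟶ G) (x : T ⟶ E) : (g ≫ u) * x = x * (g ≫ u) := by
  haveI := hex.1; haveI := hex.2.1
  let d : E ⊗ G ⟶ E := (snd E G ≫ u) * fst E G * (snd E G ≫ u)⁻¹ * (fst E G)⁻¹
  obtain ⟨k, hk⟩ := exists_ker_lift hex d (by
    simp only [d, MonObj.mul_comp, GrpObj.inv_comp, comp_v_eq_one hex]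
    simp)
  have hkT : ∀ {T : Over S} (x : T ⟶ E) (g : T ⟶ G),
      (lift x g ≫ k) ≫ u = (g ≫ u) * x * (g ≫ u)⁻¹ * x⁻¹ := fun x g => by
    rw [Category.assoc, hk]
    simp only [d, MonObj.comp_mul, GrpObj.comp_inv, lift_fst, lift_snd_assoc]
  have hjf := hasLocSec_tensorHom (hasLocSec_of_isExactSeq hex) (hasLocSec_id (J := Scheme.fppfTopology) G)
  obtain ⟨χ, hχ, -⟩ := hjf.existsUnique_desc k fun T a b hab => by
    have e1 : (a ≫ fst E G) ≫ v = (b ≫ fst E G) ≫ v := by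
      simpa using congrArg (· ≫ fst P G) hab
    have e2 : a ≫ snd E G = b ≫ snd E G := by simpa using congrArg (· ≫ snd P G) hab
    have ha : a = lift (a ≫ fst E G) (a ≫ snd E G) := by apply CartesianMonoidalCategory.hom_ext <;> simp
    have hb : b = lift (b ≫ fst E G) (b ≫ snd E G) := by apply CartesianMonoidalCategory.hom_ext <;> simp
    obtain ⟨h, hh⟩ := exists_translate hex _ _ e1
    apply u_cancel hex
    rw [ha, hb, ← e2, hkT, hkT, ← hh]
    set X := a ≫ fst E G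
    set U := (a ≫ snd E G) ≫ u
    have hc : U * (h ≫ u) = (h ≫ u) * U := comm_u hex _ _
    have hc' : (h ≫ u) * U⁻¹ = U⁻¹ * (h ≫ u) := by
      rw [eq_inv_mul_iff_mul_eq, ← _root_.mul_assoc, hc, mul_inv_cancel_right]
    calc U * X * U⁻¹ * X⁻¹ = U * X * (U⁻¹ * (h ≫ u)) * (h ≫ u)⁻¹ * X⁻¹ := by
          simp [_root_.mul_assoc]
      _ = U * X * ((h ≫ u) * U⁻¹) * (h ≫ u)⁻¹ * X⁻¹ := by rw [hc']
      _ = _ := by simp [_root_.mul_assoc]
  have hχ1 : χ = 1 := by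
    apply hPG
    · refine (hasLocSec_of_isExactSeq hex).hom_ext ?_
      have e : v ≫ lift (𝟙 P) (toUnit P ≫ η[G]) = lift (𝟙 E) (1 : E ⟶ G) ≫ (v ⊗ₘ 𝟙 G) := by
        apply CartesianMonoidalCategory.hom_ext <;> simp [← Hom.one_def]
      rw [reassoc_of% e, hχ, MonObj.comp_one]
      apply u_cancel hex
      rw [hkT]
      simp [MonObj.one_comp]
    · have e : lift (toUnit G ≫ η[P]) (𝟙 G) = lift (1 : G ⟶ E) (𝟙 G) ≫ (v ⊗ₘ 𝟙 G) := by
        apply CartesianMonoidalCategory.hom_ext <;> simp [← Hom.one_def]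
      rw [e, Category.assoc, hχ]
      apply u_cancel hex
      rw [hkT]
      simp [MonObj.one_comp]
  have := hkT x g
  rw [show k = 1 from by rw [← hχ, hχ1, MonObj.comp_one], MonObj.comp_one, MonObj.one_comp] at this
  exact (mul_inv_eq_iff_eq_mul.mp (mul_inv_eq_one.mp this.symm)).trans rfl

theorem comm_of_central [IsCommMonObj G] [IsCommMonObj P]
    (hc : ∀ (T : Over S) (g : T ⟶ G) (x : T ⟶ E), (g ≫ u) * x = x * (g ≫ u))
    (hPP : ∀ f : P ⊗ P ⟶ G, lift (𝟙 P) (toUnit P ≫ η[P]) ≫ f = 1 →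
      lift (toUnit P ≫ η[P]) (𝟙 P) ≫ f = 1 → f = 1)
    (T : Over S) (x y : T ⟶ E) : x * y = y * x := by
  haveI := hex.1; haveI := hex.2.1
  let d : E ⊗ E ⟶ E := fst E E * snd E E * (fst E E)⁻¹ * (snd E E)⁻¹
  obtain ⟨k, hk⟩ := exists_ker_lift hex d (by
    simp only [d, MonObj.mul_comp, GrpObj.inv_comp]
    rw [mul_comm (fst E E ≫ v) (snd E E ≫ v), mul_inv_cancel_right, mul_inv_cancel])
  have hkT : ∀ {T : Over S} (x y : T ⟶ E), (lift x y ≫ k) ≫ u = x * y * x⁻¹ * y⁻¹ := fun x y => by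
    rw [Category.assoc, hk]
    simp only [d, MonObj.comp_mul, GrpObj.comp_inv, lift_fst, lift_snd]
  have hv := hasLocSec_of_isExactSeq hex
  obtain ⟨χ, hχ, -⟩ := (hasLocSec_tensorHom hv hv).existsUnique_desc k fun T a b hab => by
    have e1 : (a ≫ fst E E) ≫ v = (b ≫ fst E E) ≫ v := by
      simpa using congrArg (· ≫ fst P P) hab
    have e2 : (a ≫ snd E E) ≫ v = (b ≫ snd E E) ≫ v := by
      simpa using congrArg (· ≫ snd P P) hab
    have ha : a = lift (a ≫ fst E E) (a ≫ snd E E) := by apply CartesianMonoidalCategory.hom_ext <;> simp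
    have hb : b = lift (b ≫ fst E E) (b ≫ snd E E) := by apply CartesianMonoidalCategory.hom_ext <;> simp
    obtain ⟨g, hg⟩ := exists_translate hex _ _ e1
    obtain ⟨h, hh⟩ := exists_translate hex _ _ e2
    apply u_cancel hex
    rw [ha, hb, hkT, hkT, ← hg, ← hh]
    set X := a ≫ fst E E
    set Y := a ≫ snd E E
    have hcg : ∀ z : T ⟶ E, (g ≫ u) * z = z * (g ≫ u) := hc T g
    have hch : ∀ z : T ⟶ E, (h ≫ u) * z = z * (h ≫ u) := hc T h
    symm
    calc X * (g ≫ u) * (Y * (h ≫ u)) * (X * (g ≫ u))⁻¹ * (Y * (h ≫ u))⁻¹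
        = X * ((g ≫ u) * Y) * ((h ≫ u) * ((g ≫ u)⁻¹ * X⁻¹)) * (h ≫ u)⁻¹ * Y⁻¹ := by
          simp [_root_.mul_assoc]
      _ = X * (Y * (g ≫ u)) * ((g ≫ u)⁻¹ * X⁻¹ * (h ≫ u)) * (h ≫ u)⁻¹ * Y⁻¹ := by
          rw [hcg, hch]
      _ = _ := by simp [_root_.mul_assoc]
  have hχ1 : χ = 1 := by
    apply hPP
    · refine hv.hom_ext ?_
      have e : v ≫ lift (𝟙 P) (toUnit P ≫ η[P]) = lift (𝟙 E) (1 : E ⟶ E) ≫ (v ⊗ₘ v) := by
        apply CartesianMonoidalCategory.hom_ext <;> simp [← Hom.one_def]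
      rw [reassoc_of% e, hχ, MonObj.comp_one]
      apply u_cancel hex
      rw [hkT]
      simp [MonObj.one_comp]
    · refine hv.hom_ext ?_
      have e : v ≫ lift (toUnit P ≫ η[P]) (𝟙 P) = lift (1 : E ⟶ E) (𝟙 E) ≫ (v ⊗ₘ v) := by
        apply CartesianMonoidalCategory.hom_ext <;> simp [← Hom.one_def]
      rw [reassoc_of% e, hχ, MonObj.comp_one]
      apply u_cancel hex
      rw [hkT]
      simp [MonObj.one_comp]
  have := hkT x y
  rw [show k = 1 from by rw [← hχ, hχ1, MonObj.comp_one], MonObj.comp_one, MonObj.one_comp] at this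
  exact mul_inv_eq_iff_eq_mul.mp (mul_inv_eq_one.mp this.symm)

variable {E' : Over S} [GrpObj E'] {u' : G ⟶ E'} {v' : E' ⟶ P}

theorem isMonHom_of_bitorsor [IsCommMonObj G]
    (hex' : NonAbH1.IsExactSeq Scheme.fppfPrecoverage u' v')
    (hPP : ∀ c : P ⊗ P ⟶ G, lift (𝟙 P) (toUnit P ≫ η[P]) ≫ c = 1 →
      lift (toUnit P ≫ η[P]) (𝟙 P) ≫ c = 1 → c = 1)
    (f : E ⟶ E') (hv : f ≫ v' = v) (h1 : η[E] ≫ f = η[E'])
    (hl : ∀ (T : Over S) (g : T ⟶ G) (x : T ⟶ E), ((g ≫ u) * x) ≫ f = (g ≫ u') * (x ≫ f))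
    (hr : ∀ (T : Over S) (g : T ⟶ G) (x : T ⟶ E), (x * (g ≫ u)) ≫ f = (x ≫ f) * (g ≫ u')) :
    IsMonHom f := by
  haveI := hex.2.1; haveI := hex'.2.1
  let d : E ⊗ E ⟶ E' := ((fst E E ≫ f) * (snd E E ≫ f))⁻¹ * ((fst E E * snd E E) ≫ f)
  obtain ⟨k, hk⟩ := exists_ker_lift hex' d (by
    simp only [d, MonObj.mul_comp, GrpObj.inv_comp, Category.assoc, hv]
    exact _root_.inv_mul_cancel _)
  have hkT : ∀ {T : Over S} (x y : T ⟶ E),
      (lift x y ≫ k) ≫ u' = ((x ≫ f) * (y ≫ f))⁻¹ * ((x * y) ≫ f) := fun {T} x y => by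
    rw [Category.assoc, hk]
    simp only [d, MonObj.comp_mul, GrpObj.comp_inv, lift_fst_assoc, lift_snd_assoc]
    congr 1
    rw [← Category.assoc, MonObj.comp_mul, lift_fst, lift_snd]
  have hvl := hasLocSec_of_isExactSeq hex
  obtain ⟨χ, hχ, -⟩ := (hasLocSec_tensorHom hvl hvl).existsUnique_desc k fun T a b hab => by
    have e1 : (a ≫ fst E E) ≫ v = (b ≫ fst E E) ≫ v := by
      simpa using congrArg (· ≫ fst P P) hab
    have e2 : (a ≫ snd E E) ≫ v = (b ≫ snd E E) ≫ v := by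
      simpa using congrArg (· ≫ snd P P) hab
    have ha : a = lift (a ≫ fst E E) (a ≫ snd E E) := by apply CartesianMonoidalCategory.hom_ext <;> simp
    have hb : b = lift (b ≫ fst E E) (b ≫ snd E E) := by apply CartesianMonoidalCategory.hom_ext <;> simp
    obtain ⟨g, hg⟩ := exists_translate hex _ _ e1
    obtain ⟨h, hh⟩ := exists_translate hex _ _ e2
    apply u_cancel hex'
    rw [ha, hb, hkT, hkT, ← hg, ← hh]
    set X := a ≫ fst E E
    set Y := a ≫ snd E E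
    obtain ⟨g', hg'⟩ := exists_conj_point hex g Y
    have hY : (g ≫ u') * (Y ≫ f) = (Y ≫ f) * (g' ≫ u') := by rw [← hl, hg', hr]
    have hp : (X * (g ≫ u) * (Y * (h ≫ u))) ≫ f = (X * Y) ≫ f * ((g' * h) ≫ u') := by
      haveI := hex.1
      rw [← hr, MonObj.mul_comp g' h u]
      congr 1
      simp only [_root_.mul_assoc]
      rw [← _root_.mul_assoc (g ≫ u), hg', _root_.mul_assoc]
    have hq : (X * (g ≫ u)) ≫ f * ((Y * (h ≫ u)) ≫ f) = X ≫ f * (Y ≫ f) * ((g' * h) ≫ u') := by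
      haveI := hex'.1
      rw [hr, hr, MonObj.mul_comp]
      simp only [_root_.mul_assoc]
      rw [← _root_.mul_assoc (g ≫ u'), hY, _root_.mul_assoc]
    rw [hp, hq]
    set W := (g' * h) ≫ u'
    have hm : (lift X Y ≫ k) ≫ u' * W = W * ((lift X Y ≫ k) ≫ u') := comm_u hex' _ _
    rw [hkT] at hm
    symm
    calc (X ≫ f * Y ≫ f * W)⁻¹ * ((X * Y) ≫ f * W)
        = W⁻¹ * ((X ≫ f * Y ≫ f)⁻¹ * (X * Y) ≫ f * W) := by simp [_root_.mul_assoc]
      _ = W⁻¹ * (W * ((X ≫ f * Y ≫ f)⁻¹ * (X * Y) ≫ f)) := by rw [hm]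
      _ = _ := inv_mul_cancel_left _ _
  have hη : ∀ {T : Over S}, (1 : T ⟶ E) ≫ f = 1 := fun {T} => by
    rw [Hom.one_def, Category.assoc, h1, ← Hom.one_def]
  have hχ1 : χ = 1 := by
    apply hPP
    · refine hvl.hom_ext ?_
      have e : v ≫ lift (𝟙 P) (toUnit P ≫ η[P]) = lift (𝟙 E) (1 : E ⟶ E) ≫ (v ⊗ₘ v) := by
        apply CartesianMonoidalCategory.hom_ext <;> simp [← Hom.one_def]
      rw [reassoc_of% e, hχ, MonObj.comp_one]
      apply u_cancel hex'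
      rw [hkT]
      haveI := hex'.1
      simp [MonObj.one_comp, hη]
    · refine hvl.hom_ext ?_
      have e : v ≫ lift (toUnit P ≫ η[P]) (𝟙 P) = lift (1 : E ⟶ E) (𝟙 E) ≫ (v ⊗ₘ v) := by
        apply CartesianMonoidalCategory.hom_ext <;> simp [← Hom.one_def]
      rw [reassoc_of% e, hχ, MonObj.comp_one]
      apply u_cancel hex'
      rw [hkT]
      haveI := hex'.1
      simp [MonObj.one_comp, hη]
  haveI := hex'.1
  have := hkT (fst E E) (snd E E)
  rw [show k = 1 from by rw [← hχ, hχ1, MonObj.comp_one], MonObj.comp_one, MonObj.one_comp] at this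
  have key := inv_mul_eq_one.mp this.symm
  refine ⟨h1, ?_⟩
  have hm : μ[E] = fst E E * snd E E := by rw [Hom.mul_def, lift_fst_snd, Category.id_comp]
  rw [hm, ← key, Hom.mul_def]
  congr 1

end Groth.Agent.SGA7X
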