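import Groth.Agent.ArSingLib.Basic

/-!
# Automorphisms of the ring of power series in two variables
-/

universe u

open IsLocalRing MvPowerSeries

namespace Groth.Agent.SGA7X.PlanePS

variable {k : Type u} [Field k]

local notation "P" => MvPowerSeries (Fin 2) k

instance isDomain_mv (n : ℕ) : IsDomain (MvPowerSeries (Fin n) k) := NoZeroDivisors.to_isDomain _

theorem mem_max_iff {F : P} : F ∈ maximalIdeal P ↔ constantCoeff F = 0 := by
  rw [mem_maximalIdeal, mem_nonunits_iff, isUnit_iff_constantCoeff, isUnit_iff_ne_zero, not_not]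

theorem max_eq : maximalIdeal P = Ideal.span {(X 0 : P), X 1} := by
  refine le_antisymm (fun F hF => ?_) (Ideal.span_le.2 ?_)
  · obtain ⟨G, H, h⟩ := ArSingLib.mv_decomp F
    rw [h, mem_max_iff.1 hF, map_zero, zero_add]
    exact add_mem (Ideal.mul_mem_right _ _ (Ideal.subset_span (Or.inl rfl)))
      (Ideal.mul_mem_right _ _ (Ideal.subset_span (Or.inr rfl)))
  · rintro a (rfl | rfl) <;> exact mem_max_iff.2 (by simp)

theorem range_X : Set.range (X : Fin 2 → P) = {X 0, X 1} := by
  ext z; simp [Fin.exists_fin_two, eq_comm]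

/-- Two generators of the maximal ideal define an automorphism. -/
theorem exists_aut (a b : P) (h : maximalIdeal P = Ideal.span {a, b}) :
    ∃ φ : P ≃ₐ[k] P, φ (X 0) = a ∧ φ (X 1) = b := by
  have ha : constantCoeff a = 0 := mem_max_iff.1 (h ▸ Ideal.subset_span (Or.inl rfl))
  have hb : constantCoeff b = 0 := mem_max_iff.1 (h ▸ Ideal.subset_span (Or.inr rfl))
  have hs : HasSubst ![a, b] := hasSubst_of_constantCoeff_zero fun i => by
    fin_cases i
    · exact ha
    · exact hb
  let φ : P →ₐ[k] P := substAlgHom hs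
  have hX : ∀ i, φ (X i) = ![a, b] i := fun i => by simp [φ, subst_X hs]
  have hI : (Ideal.span (Set.range (X : Fin 2 → P))).map φ.toRingHom = maximalIdeal P := by
    rw [Ideal.map_span, range_X, Set.image_pair, h]
    simp [hX]
  have : IsHausdorff ((Ideal.span (Set.range (X : Fin 2 → P))).map φ.toRingHom) P := by
    rw [hI]; infer_instance
  have hsurj : Function.Surjective φ.toRingHom := by
    refine surjective_of_mk_map_comp_surjective φ.toRingHom (I := Ideal.span (Set.range X)) ?_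
    intro z
    obtain ⟨F, rfl⟩ := Ideal.Quotient.mk_surjective z
    refine ⟨C (constantCoeff F), ?_⟩
    rw [RingHom.comp_apply, Ideal.Quotient.eq, hI, mem_max_iff]
    simp [φ, ArSingLib.mv_C_eq]
    simp [MvPowerSeries.algebraMap_apply]
  exact ⟨AlgEquiv.ofBijective φ ⟨ArSingLib.injective_of_surjective_endo φ.toRingHom hsurj, hsurj⟩,
    hX 0, hX 1⟩

/-- An element outside the square of the maximal ideal is a coordinate. -/
theorem exists_pair (a : P) (ha : a ∈ maximalIdeal P) (ha2 : a ∉ maximalIdeal P ^ 2) :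
    ∃ b, maximalIdeal P = Ideal.span {b, a} := by
  have ha0 := mem_max_iff.1 ha
  obtain ⟨G, H, h⟩ := ArSingLib.mv_decomp a
  rw [ha0, map_zero, zero_add] at h
  by_cases hG : IsUnit G
  · refine ⟨X 1, le_antisymm ?_ ?_⟩
    · rw [max_eq, Ideal.span_le]
      obtain ⟨v, hv⟩ := hG.exists_left_inv
      rintro z (rfl | rfl)
      · exact Ideal.mem_span_pair.2 ⟨-(v * H), v, by
          linear_combination v * h + X 0 * hv⟩
      · exact Ideal.subset_span (Or.inl rfl)
    · rw [Ideal.span_le]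
      rintro z (rfl | rfl)
      · exact mem_max_iff.2 (by simp)
      · exact ha
  by_cases hH : IsUnit H
  · refine ⟨X 0, le_antisymm ?_ ?_⟩
    · rw [max_eq, Ideal.span_le]
      obtain ⟨v, hv⟩ := hH.exists_left_inv
      rintro z (rfl | rfl)
      · exact Ideal.subset_span (Or.inl rfl)
      · exact Ideal.mem_span_pair.2 ⟨-(v * G), v, by linear_combination v * h + X 1 * hv⟩
    · rw [Ideal.span_le]
      rintro z (rfl | rfl)
      · exact mem_max_iff.2 (by simp)
      · exact ha
  exfalso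
  apply ha2
  rw [h, sq]
  exact add_mem (Ideal.mul_mem_mul (mem_max_iff.2 (by simp)) hG)
    (Ideal.mul_mem_mul (mem_max_iff.2 (by simp)) hH)

theorem exists_aut_snd (a : P) (ha : a ∈ maximalIdeal P) (ha2 : a ∉ maximalIdeal P ^ 2) :
    ∃ φ : P ≃ₐ[k] P, φ (X 1) = a := by
  obtain ⟨b, hb⟩ := exists_pair a ha ha2
  obtain ⟨φ, -, h⟩ := exists_aut b a hb
  exact ⟨φ, h⟩

theorem exists_aut_fst (a : P) (ha : a ∈ maximalIdeal P) (ha2 : a ∉ maximalIdeal P ^ 2) :
    ∃ φ : P ≃ₐ[k] P, φ (X 0) = a := by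
  obtain ⟨b, hb⟩ := exists_pair a ha ha2
  obtain ⟨φ, h, -⟩ := exists_aut a b (by rw [hb, Set.pair_comm])
  exact ⟨φ, h⟩

theorem prime_X_zero : Prime (X 0 : P) := by
  rw [← MulEquiv.prime_iff (finSuccEquiv k 1).toMulEquiv]
  show Prime (finSuccEquiv k 1 (X 0))
  rw [finSuccEquiv_X_zero]
  exact PowerSeries.X_prime

theorem pderiv_mem_max_of_mem_sq {F : P} (hF : F ∈ maximalIdeal P ^ 2) (i : Fin 2) :
    pderiv k i F ∈ maximalIdeal P := by
  rw [sq] at hF
  refine Submodule.mul_induction_on hF (fun x hx y hy => ?_) fun x y hx hy => ?_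
  · rw [Derivation.leibniz, smul_eq_mul, smul_eq_mul]
    exact add_mem (Ideal.mul_mem_right _ _ hx) (Ideal.mul_mem_right _ _ hy)
  · rw [map_add]; exact add_mem hx hy

theorem mem_sq_iff {F : P} (hF : F ∈ maximalIdeal P) :
    F ∈ maximalIdeal P ^ 2 ↔ ∀ i, constantCoeff (pderiv k i F) = 0 := by
  refine ⟨fun h i => mem_max_iff.1 (pderiv_mem_max_of_mem_sq h i), fun h => ?_⟩
  obtain ⟨G, H, e⟩ := ArSingLib.mv_decomp F
  rw [mem_max_iff.1 hF, map_zero, zero_add] at e
  have h0 := h 0
  have h1 := h 1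
  rw [e] at h0 h1
  simp [Derivation.leibniz, pderiv_X] at h0 h1
  rw [e, sq]
  exact add_mem (Ideal.mul_mem_mul (mem_max_iff.2 (by simp)) (mem_max_iff.2 h0))
    (Ideal.mul_mem_mul (mem_max_iff.2 (by simp)) (mem_max_iff.2 h1))

theorem prime_of_not_mem_sq {a : P} (ha : a ∈ maximalIdeal P) (ha2 : a ∉ maximalIdeal P ^ 2) :
    Prime a := by
  obtain ⟨φ, rfl⟩ := exists_aut_fst a ha ha2
  exact (MulEquiv.prime_iff φ.toMulEquiv).2 prime_X_zero

theorem aut_mem_max (φ : P ≃ₐ[k] P) {F : P} (hF : F ∈ maximalIdeal P) : φ F ∈ maximalIdeal P := by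
  rw [mem_maximalIdeal, mem_nonunits_iff] at hF ⊢
  exact fun h => hF (by simpa using h.map φ.symm)

theorem aut_mem_sq (φ : P ≃ₐ[k] P) {F : P} (hF : F ∈ maximalIdeal P ^ 2) :
    φ F ∈ maximalIdeal P ^ 2 := by
  rw [sq] at hF ⊢
  refine Submodule.mul_induction_on hF (fun x hx y hy => ?_) fun x y hx hy => ?_
  · rw [map_mul]; exact Ideal.mul_mem_mul (aut_mem_max φ hx) (aut_mem_max φ hy)
  · rw [map_add]; exact add_mem hx hy

theorem X_notMem_sq (i : Fin 2) : (X i : P) ∉ maximalIdeal P ^ 2 := fun h => by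
  have := mem_max_iff.1 (pderiv_mem_max_of_mem_sq h i)
  simp at this

/-- Isomorphism of quotients from an automorphism. -/
theorem nonempty_quot_equiv (φ : P ≃ₐ[k] P) {F G : P} (h : Associated (φ G) F) :
    Nonempty ((P ⧸ Ideal.span {F}) ≃ₐ[k] (P ⧸ Ideal.span {G})) := by
  refine ⟨(Ideal.quotientEquivAlg (Ideal.span {G}) (Ideal.span {F}) φ ?_).symm⟩
  rw [Ideal.map_span, Set.image_singleton]
  exact (Ideal.span_singleton_eq_span_singleton.2 h).symm

/-- An isomorphism of two quotients is induced by an automorphism when the equations are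
singular. -/
theorem exists_aut_of_equiv {F G : P} (hF : F ∈ maximalIdeal P ^ 2) (hG : G ∈ maximalIdeal P)
    (e : (P ⧸ Ideal.span {G}) ≃ₐ[k] (P ⧸ Ideal.span {F})) :
    ∃ φ : P ≃ₐ[k] P, Associated (φ G) F := by
  have hFm : F ∈ maximalIdeal P := Ideal.pow_le_self two_ne_zero hF
  haveI : Nontrivial (P ⧸ Ideal.span {F}) := Ideal.Quotient.nontrivial_iff.2 fun h => by
    rw [Ideal.span_singleton_eq_top] at h
    exact hFm h
  haveI : IsLocalRing (P ⧸ Ideal.span {F}) :=
    IsLocalRing.of_surjective' (Ideal.Quotient.mk _) Ideal.Quotient.mk_surjective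
  haveI : Nontrivial (P ⧸ Ideal.span {G}) := e.toRingEquiv.toEquiv.nontrivial
  haveI : IsLocalHom (Ideal.Quotient.mk (Ideal.span {F}) : P →+* _) :=
    IsLocalHom.of_surjective _ Ideal.Quotient.mk_surjective
  haveI : IsLocalHom (Ideal.Quotient.mk (Ideal.span {G}) : P →+* _) :=
    IsLocalHom.of_surjective _ Ideal.Quotient.mk_surjective
  choose v hv using fun i : Fin 2 =>
    Ideal.Quotient.mk_surjective (e (Ideal.Quotient.mk (Ideal.span {G}) (X i : P)))
  have hvm : ∀ i, v i ∈ maximalIdeal P := fun i hu => by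
    have h1 := ((hu.map (Ideal.Quotient.mk (Ideal.span {F}))))
    rw [hv] at h1
    have h2 := (h1.map e.symm)
    rw [AlgEquiv.symm_apply_apply] at h2
    have h3 := isUnit_of_map_unit _ _ h2
    exact (mem_max_iff.2 (constantCoeff_X i) : X i ∈ maximalIdeal P) h3
  have hs : HasSubst v := hasSubst_of_constantCoeff_zero fun i => mem_max_iff.1 (hvm i)
  have hcomp : (Ideal.Quotient.mkₐ k (Ideal.span {F})).comp (substAlgHom hs) =
      (e.toAlgHom).comp (Ideal.Quotient.mkₐ k (Ideal.span {G})) := by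
    refine ArSingLib.mv_hom_ext (maximalIdeal _) (fun i => ?_) (fun i => ?_)
    · simp [subst_X hs, hv]
    · simp only [AlgHom.comp_apply, substAlgHom_apply, subst_X hs, Ideal.Quotient.mkₐ_eq_mk]
      exact map_nonunit _ _ (hvm i)
  have hgen : maximalIdeal P = Ideal.span {v 0, v 1} := by
    refine le_antisymm ?_ (Ideal.span_le.2 ?_)
    swap
    · rintro z (rfl | rfl) <;> exact hvm _
    refine Submodule.le_of_le_smul_of_le_jacobson_bot (I := maximalIdeal P)
      (IsNoetherian.noetherian _) (IsLocalRing.jacobson_eq_maximalIdeal _ bot_ne_top).ge ?_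
    intro z hz
    obtain ⟨w, hw⟩ := Ideal.Quotient.mk_surjective (e.symm (Ideal.Quotient.mk _ z))
    have hwm : w ∈ maximalIdeal P := fun hu => by
      have h1 := hu.map (Ideal.Quotient.mk (Ideal.span {G}))
      rw [hw] at h1
      have h2 := h1.map e
      rw [AlgEquiv.apply_symm_apply] at h2
      exact hz (isUnit_of_map_unit _ _ h2)
    have hzw : z - substAlgHom hs w ∈ Ideal.span {F} := by
      rw [← Ideal.Quotient.eq]
      have := DFunLike.congr_fun hcomp w
      simp only [AlgHom.comp_apply, Ideal.Quotient.mkₐ_eq_mk] at this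
      rw [this, hw]
      exact (e.apply_symm_apply _).symm
    have hw' : substAlgHom hs w ∈ Ideal.span {v 0, v 1} := by
      obtain ⟨A, B, hAB⟩ := ArSingLib.mv_decomp w
      rw [hAB, mem_max_iff.1 hwm, map_zero, zero_add, map_add, map_mul, map_mul,
        substAlgHom_apply hs (X 0), substAlgHom_apply hs (X 1), subst_X hs, subst_X hs]
      exact add_mem (Ideal.mul_mem_right _ _ (Ideal.subset_span (Or.inl rfl)))
        (Ideal.mul_mem_right _ _ (Ideal.subset_span (Or.inr rfl)))
    rw [show z = substAlgHom hs w + (z - substAlgHom hs w) by ring]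
    refine Submodule.add_mem_sup hw' ?_
    rw [smul_eq_mul, ← sq]
    exact (Ideal.span_singleton_le_iff_mem (I := maximalIdeal P ^ 2)).2 hF hzw
  obtain ⟨φ, h0, h1⟩ := exists_aut (v 0) (v 1) hgen
  have hφ : (Ideal.Quotient.mkₐ k (Ideal.span {F})).comp φ.toAlgHom =
      (e.toAlgHom).comp (Ideal.Quotient.mkₐ k (Ideal.span {G})) := by
    refine ArSingLib.mv_hom_ext (maximalIdeal _) (fun i => ?_) (fun i => ?_)
    · fin_cases i <;> simp [h0, h1, hv]
    · simp only [AlgHom.comp_apply, Ideal.Quotient.mkₐ_eq_mk]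
      exact map_nonunit _ _ (aut_mem_max φ (mem_max_iff.2 (constantCoeff_X i)))
  refine ⟨φ, associated_of_dvd_dvd ?_ ?_⟩
  · have h : Ideal.Quotient.mk (Ideal.span {F}) (φ (φ.symm F)) =
        e (Ideal.Quotient.mk (Ideal.span {G}) (φ.symm F)) := DFunLike.congr_fun hφ (φ.symm F)
    rw [AlgEquiv.apply_symm_apply] at h
    rw [Ideal.Quotient.eq_zero_iff_mem.2 (Ideal.mem_span_singleton_self F)] at h
    have h' := (map_eq_zero_iff e e.injective).1 h.symm
    rw [Ideal.Quotient.eq_zero_iff_mem, Ideal.mem_span_singleton] at h'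
    simpa using map_dvd φ h'
  · have h : Ideal.Quotient.mk (Ideal.span {F}) (φ G) =
        e (Ideal.Quotient.mk (Ideal.span {G}) G) := DFunLike.congr_fun hφ G
    rw [Ideal.Quotient.eq_zero_iff_mem.2 (Ideal.mem_span_singleton_self G), map_zero,
      Ideal.Quotient.eq_zero_iff_mem, Ideal.mem_span_singleton] at h
    exact h

end Groth.Agent.SGA7X.PlanePS
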