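import Groth.Agent.NodeLib.Completion
import Groth.Agent.ArSingLib.Node
import Groth.Agent.SGA7X.PlanePS

/-!
# Deformations of the node with an involution
-/

set_option linter.style.haveILetI false

universe u

namespace Groth.Agent.SGA7X.NodeInvol

open IsLocalRing

variable {R S : Type u} [CommRing R] [IsLocalRing R] [IsNoetherianRing R]
  [IsAdicComplete (maximalIdeal R) R] [CommRing S] [IsLocalRing S] [IsNoetherianRing S]
  [IsAdicComplete (maximalIdeal S) S] [Algebra R S] [IsLocalHom (algebraMap R S)]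

theorem map_equiv_pow (σ : S ≃ₐ[R] S) {n : ℕ} {z : S}
    (hz : z ∈ ((maximalIdeal R).map (algebraMap R S)) ^ n) :
    σ z ∈ ((maximalIdeal R).map (algebraMap R S)) ^ n := by
  rw [← Ideal.map_pow] at hz ⊢
  have : (Ideal.map (algebraMap R S) (maximalIdeal R ^ n)).map σ.toAlgHom.toRingHom =
      Ideal.map (algebraMap R S) (maximalIdeal R ^ n) := by
    rw [Ideal.map_map]
    congr 1
    exact RingHom.ext fun r => σ.commutes r
  rw [← this]
  exact Ideal.mem_map_of_mem _ hz

/-- Equivariant version of the normal form of a node. -/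
theorem exists_node_eigen (σ : S ≃ₐ[R] S) (hσ : ∀ s, σ (σ s) = s)
    (s₁ s₂ half : R) (h₁ : s₁ * s₁ = 1) (h₂ : s₂ * s₂ = 1) (hhalf : half * 2 = 1)
    (hres : ∀ c : S, ∃ r : R, c - algebraMap R S r ∈ maximalIdeal S)
    (u v : S) (hu : σ u = algebraMap R S s₂ * u) (hv : σ v = algebraMap R S s₁ * v)
    (huv : u * v ∈ (maximalIdeal R).map (algebraMap R S))
    (hgen : maximalIdeal S = Ideal.span {u, v} ⊔ (maximalIdeal R).map (algebraMap R S)) :
    ∃ (α : R) (ψ : (MvPowerSeries (Fin 2) R ⧸ Ideal.span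
        {(MvPowerSeries.X 0 * MvPowerSeries.X 1 - MvPowerSeries.C α : MvPowerSeries (Fin 2) R)}) →ₐ[R] S),
      α ∈ maximalIdeal R ∧ (s₁ * s₂ = -1 → α = 0) ∧ Function.Surjective ψ ∧
      ψ (Ideal.Quotient.mk _ (MvPowerSeries.X 0)) - u ∈ (maximalIdeal R).map (algebraMap R S) ∧
      ψ (Ideal.Quotient.mk _ (MvPowerSeries.X 1)) - v ∈ (maximalIdeal R).map (algebraMap R S) ∧
      σ (ψ (Ideal.Quotient.mk _ (MvPowerSeries.X 0))) =
        algebraMap R S s₂ * ψ (Ideal.Quotient.mk _ (MvPowerSeries.X 0)) ∧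
      σ (ψ (Ideal.Quotient.mk _ (MvPowerSeries.X 1))) =
        algebraMap R S s₁ * ψ (Ideal.Quotient.mk _ (MvPowerSeries.X 1)) := by
  classical
  set M := (maximalIdeal R).map (algebraMap R S) with hM
  have hMm : M ≤ maximalIdeal S := map_maximalIdeal_le (algebraMap R S)
  have hdec : ∀ u₁ v₁ : S, u₁ - u ∈ M → v₁ - v ∈ M → ∀ c : S, ∃ (t : R) (p q : S),
      c - (algebraMap R S t + u₁ * p + v₁ * q) ∈ M := by
    intro u₁ v₁ h₁' h₂' c
    obtain ⟨t, ht⟩ := hres c
    rw [hgen, Submodule.mem_sup] at ht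
    obtain ⟨w, hw, m, hm, hwm⟩ := ht
    obtain ⟨p, q, rfl⟩ := Ideal.mem_span_pair.mp hw
    refine ⟨t, p, q, ?_⟩
    have : c - (algebraMap R S t + u₁ * p + v₁ * q) = m - p * (u₁ - u) - q * (v₁ - v) := by
      linear_combination -hwm
    rw [this]
    exact sub_mem (sub_mem hm (Ideal.mul_mem_left _ _ h₁')) (Ideal.mul_mem_left _ _ h₂')
  let a₁ := algebraMap R S s₁
  let a₂ := algebraMap R S s₂
  let hf := algebraMap R S half
  have ha₁ : a₁ * a₁ = 1 := by rw [← map_mul, h₁, map_one]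
  have ha₂ : a₂ * a₂ = 1 := by rw [← map_mul, h₂, map_one]
  have hhf : hf * 2 = 1 := by
    rw [← map_ofNat (algebraMap R S) 2, ← map_mul, hhalf, map_one]
  let St : ℕ → R × S × S → Prop := fun n s =>
    s.1 ∈ maximalIdeal R ∧ s.2.1 - u ∈ M ∧ s.2.2 - v ∈ M ∧
      s.2.1 * s.2.2 - algebraMap R S s.1 ∈ M ^ (n + 1) ∧
      σ s.2.1 = a₂ * s.2.1 ∧ σ s.2.2 = a₁ * s.2.2 ∧ (s₁ * s₂ = -1 → s.1 = 0) ∧
      s₁ * s₂ * s.1 = s.1
  have hnext : ∀ (n : ℕ) (s : R × S × S), St n s → ∃ s' : R × S × S, St (n + 1) s' ∧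
      s'.1 - s.1 ∈ maximalIdeal R ^ (n + 1) ∧ s'.2.1 - s.2.1 ∈ M ^ (n + 1) ∧
      s'.2.2 - s.2.2 ∈ M ^ (n + 1) := by
    rintro n ⟨α, u₁, v₁⟩ ⟨hα, hu₁, hv₁, hz, eu, ev, hneg, hinv⟩
    obtain ⟨a, x, y, ha, hx, hy, h⟩ := NodeLib.step (hdec u₁ v₁ hu₁ hv₁) (n + 1) _ hz
    set z := u₁ * v₁ - algebraMap R S α with hzdef
    have hσz : σ z = a₁ * a₂ * z := by
      simp only [hzdef, map_sub, map_mul, σ.commutes, eu, ev]
      have : a₁ * a₂ * algebraMap R S α = algebraMap R S α := by
        rw [← map_mul, ← map_mul, hinv]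
      linear_combination this
    have hσ' := map_equiv_pow σ h
    simp only [map_sub, map_add, map_mul, σ.commutes, hσz, eu, ev] at hσ'
    set a' := half * (a + s₁ * s₂ * a) with ha'
    set x' := hf * (x + a₁ * σ x) with hx'
    set y' := hf * (y + a₂ * σ y) with hy'
    have hx'm : x' ∈ M ^ (n + 1) := Ideal.mul_mem_left _ _
      (add_mem hx (Ideal.mul_mem_left _ _ (map_equiv_pow σ hx)))
    have hy'm : y' ∈ M ^ (n + 1) := Ideal.mul_mem_left _ _
      (add_mem hy (Ideal.mul_mem_left _ _ (map_equiv_pow σ hy)))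
    have ha'm : a' ∈ maximalIdeal R ^ (n + 1) := Ideal.mul_mem_left _ _
      (add_mem ha (Ideal.mul_mem_left _ _ ha))
    have h' : z - (algebraMap R S a' + u₁ * x' + v₁ * y') ∈ M ^ (n + 1 + 1) := by
      have := Ideal.mul_mem_left _ hf (add_mem h (Ideal.mul_mem_left _ (a₁ * a₂) hσ'))
      convert this using 1
      simp only [ha', hx', hy', map_mul, map_add]
      linear_combination (-z) * hhf +
        (-hf * z) * (a₂ * a₂ * ha₁ + ha₂) + (hf * u₁ * a₁ * σ x) * ha₂ +
        (hf * v₁ * a₂ * σ y) * ha₁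
    have ex : σ x' = a₁ * x' := by
      simp only [hx', map_mul, map_add, hf, a₁, σ.commutes, hσ]
      linear_combination (-(algebraMap R S half) * σ x) * ha₁
    have ey : σ y' = a₂ * y' := by
      simp only [hy', map_mul, map_add, hf, a₂, σ.commutes, hσ]
      linear_combination (-(algebraMap R S half) * σ y) * ha₂
    refine ⟨(α + a', u₁ - y', v₁ - x'), ⟨add_mem hα (Ideal.pow_le_self n.succ_ne_zero ha'm),
      ?_, ?_, ?_, ?_, ?_, ?_, ?_⟩, by simpa using ha'm, ?_, ?_⟩
    · show u₁ - y' - u ∈ M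
      rw [sub_right_comm]; exact sub_mem hu₁ (Ideal.pow_le_self n.succ_ne_zero hy'm)
    · show v₁ - x' - v ∈ M
      rw [sub_right_comm]; exact sub_mem hv₁ (Ideal.pow_le_self n.succ_ne_zero hx'm)
    · have hxy : x' * y' ∈ M ^ (n + 1 + 1) :=
        Ideal.pow_le_pow_right (by omega)
          ((pow_add M (n + 1) (n + 1)).symm ▸ Ideal.mul_mem_mul hx'm hy'm)
      have := add_mem h' hxy
      convert this using 1
      show (u₁ - y') * (v₁ - x') - algebraMap R S (α + a') = _
      rw [map_add, hzdef]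
      ring
    · show σ (u₁ - y') = a₂ * (u₁ - y')
      rw [map_sub, eu, ey, mul_sub]
    · show σ (v₁ - x') = a₁ * (v₁ - x')
      rw [map_sub, ev, ex, mul_sub]
    · intro hc
      show α + a' = 0
      rw [show α = 0 from hneg hc, ha', hc]
      ring
    · show s₁ * s₂ * (α + a') = α + a'
      rw [mul_add, hinv, ha']
      linear_combination (half * a * s₂ * s₂) * h₁ + (half * a) * h₂
    · show u₁ - y' - u₁ ∈ M ^ (n + 1)
      rw [sub_sub_cancel_left]; exact neg_mem hy'm
    · show v₁ - x' - v₁ ∈ M ^ (n + 1)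
      rw [sub_sub_cancel_left]; exact neg_mem hx'm
  have h0 : St 0 (0, u, v) :=
    ⟨zero_mem _, by simp, by simp, by simpa using huv, hu, hv, fun _ => rfl, by simp⟩
  choose! next hN1 hN2 hN3 hN4 using hnext
  let s : ℕ → R × S × S := fun n => Nat.rec (0, u, v) (fun n p => next n p) n
  have hs : ∀ n, St n (s n) := by
    intro n
    induction n with
    | zero => exact h0
    | succ n ih => exact hN1 n (s n) ih
  haveI : IsAdicComplete M S := S0546.result S M (maximalIdeal S) hMm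
    (IsNoetherian.noetherian _) S
  have lim : ∀ {A : Type u} [CommRing A] (J : Ideal A) [IsAdicComplete J A] (f : ℕ → A),
      (∀ n, f (n + 1) - f n ∈ J ^ (n + 1)) → ∃ L, ∀ n, f n - L ∈ J ^ n := by
    intro A _ J _ f hf'
    have hc : ∀ {m n}, m ≤ n → f m ≡ f n [SMOD (J ^ m • ⊤ : Submodule A A)] := by
      intro m n hmn
      rw [SModEq.sub_mem, smul_eq_mul, Ideal.mul_top]
      induction hmn with
      | refl => simp
      | @step l hml ih =>
        rw [← sub_add_sub_cancel (f m) (f l) (f (l + 1))]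
        exact add_mem ih (Ideal.pow_le_pow_right (le_trans hml (Nat.le_succ l))
          (by rw [← neg_sub]; exact neg_mem (hf' l)))
    obtain ⟨L, hL⟩ := IsPrecomplete.prec' (I := J) f hc
    exact ⟨L, fun n => by simpa [SModEq.sub_mem, smul_eq_mul] using hL n⟩
  obtain ⟨α, hα⟩ := lim (maximalIdeal R) (fun n => (s n).1) fun n => hN2 n _ (hs n)
  obtain ⟨u', hu'⟩ := lim M (fun n => (s n).2.1) fun n => hN3 n _ (hs n)
  obtain ⟨v', hv'⟩ := lim M (fun n => (s n).2.2) fun n => hN4 n _ (hs n)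
  have hsep : ∀ {z : S}, (∀ n, z ∈ M ^ n) → z = 0 := fun {z} hz =>
    IsHausdorff.haus' (I := M) z fun n => by
      rw [SModEq.zero, smul_eq_mul, Ideal.mul_top]; exact hz n
  have hαm : α ∈ maximalIdeal R := by
    have h := hα 1
    rw [pow_one] at h
    simpa using sub_mem (hs 1).1 h
  have hα0 : s₁ * s₂ = -1 → α = 0 := fun hc =>
    IsHausdorff.haus' (I := maximalIdeal R) α fun n => by
      rw [SModEq.zero, smul_eq_mul, Ideal.mul_top]
      have hs0 : (s n).1 = 0 := (hs n).2.2.2.2.2.2.1 hc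
      simpa [hs0] using hα n
  have hu'u : u' - u ∈ M := by
    have h := hu' 1
    rw [pow_one] at h
    simpa using sub_mem (hs 1).2.1 h
  have hv'v : v' - v ∈ M := by
    have h := hv' 1
    rw [pow_one] at h
    simpa using sub_mem (hs 1).2.2.1 h
  have eu' : σ u' = a₂ * u' := by
    rw [← sub_eq_zero]
    refine hsep fun n => ?_
    have h1 := map_equiv_pow σ (hu' n)
    rw [map_sub, (hs n).2.2.2.2.1] at h1
    have := sub_mem (Ideal.mul_mem_left _ a₂ (hu' n)) h1
    convert this using 1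
    ring
  have ev' : σ v' = a₁ * v' := by
    rw [← sub_eq_zero]
    refine hsep fun n => ?_
    have h1 := map_equiv_pow σ (hv' n)
    rw [map_sub, (hs n).2.2.2.2.2.1] at h1
    have := sub_mem (Ideal.mul_mem_left _ a₁ (hv' n)) h1
    convert this using 1
    ring
  have hprod : u' * v' = algebraMap R S α := by
    rw [← sub_eq_zero]
    refine hsep fun n => ?_
    have e4 : algebraMap R S ((s n).1 - α) ∈ M ^ n := by
      rw [hM, ← Ideal.map_pow]; exact Ideal.mem_map_of_mem _ (hα n)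
    have e1 : (s n).2.1 * (s n).2.2 - algebraMap R S (s n).1 ∈ M ^ n :=
      Ideal.pow_le_pow_right n.le_succ (hs n).2.2.2.1
    have := add_mem (sub_mem (sub_mem e1 (Ideal.mul_mem_right (s n).2.2 _ (hu' n)))
      (Ideal.mul_mem_left _ u' (hv' n))) e4
    convert this using 1
    rw [map_sub]
    ring
  have hum : u ∈ maximalIdeal S := hgen ▸ Ideal.mem_sup_left (Ideal.subset_span (by simp))
  have hvm : v ∈ maximalIdeal S := hgen ▸ Ideal.mem_sup_left (Ideal.subset_span (by simp))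
  have hu'm : u' ∈ maximalIdeal S := by simpa using add_mem (hMm hu'u) hum
  have hv'm : v' ∈ maximalIdeal S := by simpa using add_mem (hMm hv'v) hvm
  obtain ⟨φ, hφ⟩ := PSLib.exists_algHom (R := R) (maximalIdeal S) ![u', v'] (by
    intro i; fin_cases i <;> simp [hu'm, hv'm])
  have hφ0 : φ (MvPowerSeries.X 0) = u' := by simpa using hφ 0
  have hφ1 : φ (MvPowerSeries.X 1) = v' := by simpa using hφ 1
  have hmap : (maximalIdeal (MvPowerSeries (Fin 2) R)).map φ.toRingHom = maximalIdeal S := by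
    refine le_antisymm (Ideal.map_le_iff_le_comap.2 fun g hg => ?_) ?_
    · rw [Ideal.mem_comap]
      have h : g - algebraMap R _ (MvPowerSeries.constantCoeff g) ∈ PSLib.vars 2 R :=
        PSLib.mem_vars_iff.2 (by simp [MvPowerSeries.algebraMap_apply])
      have h1 : φ (g - algebraMap R _ (MvPowerSeries.constantCoeff g)) ∈ maximalIdeal S := by
        have := PSLib.map_pow_le φ (I := maximalIdeal S) (fun i => by
          fin_cases i
          · simpa [hφ0] using hu'm
          · simpa [hφ1] using hv'm) 1 (Ideal.mem_map_of_mem _ (by rwa [pow_one]))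
        rwa [pow_one] at this
      rw [map_sub, φ.commutes] at h1
      have hc : algebraMap R S (MvPowerSeries.constantCoeff g) ∈ maximalIdeal S :=
        hMm (Ideal.mem_map_of_mem _ (by
          by_contra hu0
          rw [mem_maximalIdeal, mem_nonunits_iff, not_not] at hu0
          exact hg (MvPowerSeries.isUnit_iff_constantCoeff.2 hu0)))
      simpa using add_mem h1 hc
    · have hX : ∀ i, (MvPowerSeries.X i : MvPowerSeries (Fin 2) R) ∈ maximalIdeal _ := fun i hu0 => by
        simpa using MvPowerSeries.isUnit_iff_constantCoeff.1 hu0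
      have hMle : M ≤ (maximalIdeal (MvPowerSeries (Fin 2) R)).map φ.toRingHom := by
        refine Ideal.map_le_iff_le_comap.2 fun r hr => ?_
        rw [Ideal.mem_comap, ← φ.commutes r]
        refine Ideal.mem_map_of_mem φ.toRingHom (fun hu0 => hr ?_)
        simpa [MvPowerSeries.algebraMap_apply] using MvPowerSeries.isUnit_iff_constantCoeff.1 hu0
      rw [hgen]
      refine sup_le (Ideal.span_le.2 ?_) hMle
      rintro z (rfl | rfl)
      · rw [SetLike.mem_coe, ← sub_sub_cancel u' z]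
        exact sub_mem (hφ0 ▸ Ideal.mem_map_of_mem φ.toRingHom (hX 0)) (hMle hu'u)
      · rw [SetLike.mem_coe, ← sub_sub_cancel v' z]
        exact sub_mem (hφ1 ▸ Ideal.mem_map_of_mem φ.toRingHom (hX 1)) (hMle hv'v)
  haveI : IsAdicComplete (maximalIdeal (MvPowerSeries (Fin 2) R)) (MvPowerSeries (Fin 2) R) :=
    CohenLib.isAdicComplete_mvPowerSeries
  haveI : IsHausdorff ((maximalIdeal (MvPowerSeries (Fin 2) R)).map φ.toRingHom) S :=
    hmap.symm ▸ (inferInstance : IsHausdorff (maximalIdeal S) S)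
  have hφs : Function.Surjective φ :=
    surjective_of_mk_map_comp_surjective (I := maximalIdeal (MvPowerSeries (Fin 2) R))
      (f := φ.toRingHom) fun z => by
      obtain ⟨c, rfl⟩ := Ideal.Quotient.mk_surjective z
      obtain ⟨r, hr⟩ := hres c
      refine ⟨algebraMap R _ r, (Ideal.Quotient.eq.2 ?_).symm⟩
      rw [hmap, show φ.toRingHom (algebraMap R _ r) = algebraMap R S r from φ.commutes r]
      exact hr
  have hkill : ∀ x ∈ Ideal.span
      {(MvPowerSeries.X 0 * MvPowerSeries.X 1 - MvPowerSeries.C α : MvPowerSeries (Fin 2) R)},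
      φ x = 0 := by
    intro x hx
    obtain ⟨y, rfl⟩ := Ideal.mem_span_singleton'.mp hx
    rw [map_mul, map_sub, map_mul, hφ0, hφ1, hprod,
      show (MvPowerSeries.C α : MvPowerSeries (Fin 2) R) = algebraMap R _ α from rfl, φ.commutes,
      sub_self, mul_zero]
  refine ⟨α, Ideal.Quotient.liftₐ _ φ hkill, hαm, hα0,
    Ideal.Quotient.lift_surjective_of_surjective _ _ hφs, ?_, ?_, ?_, ?_⟩
  · show φ (MvPowerSeries.X 0) - u ∈ M
    rw [hφ0]; exact hu'u
  · show φ (MvPowerSeries.X 1) - v ∈ M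
    rw [hφ1]; exact hv'v
  · show σ (φ (MvPowerSeries.X 0)) = a₂ * φ (MvPowerSeries.X 0)
    rw [hφ0]; exact eu'
  · show σ (φ (MvPowerSeries.X 1)) = a₁ * φ (MvPowerSeries.X 1)
    rw [hφ1]; exact ev'

theorem node_deformation (k : Type u) [Field k] (h2 : (2 : k) ≠ 0) [Algebra k R] [Algebra k S]
    [IsScalarTower k R S] [Module.Flat R S]
    (e : (S ⧸ Ideal.map (algebraMap R S) (maximalIdeal R)) ≃ₐ[k] ArSing.ring k 1)
    (σ : S ≃ₐ[R] S) (hσ : ∀ s, σ (σ s) = s)
    (hbr : ∀ P ∈ (Ideal.map (algebraMap R S) (maximalIdeal R)).minimalPrimes,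
      Ideal.map (σ : S →+* S) P = P) :
    ∃ (t : R) (ξ₁ ξ₂ : k), ξ₁ ^ 2 = 1 ∧ ξ₂ ^ 2 = 1 ∧ (ξ₁ = -ξ₂ → t = 0) ∧
      ∃ f : S ≃ₐ[R] (MvPowerSeries (Fin 2) R ⧸
          Ideal.span {(MvPowerSeries.X 0 * MvPowerSeries.X 1 - MvPowerSeries.C t : MvPowerSeries (Fin 2) R)}),
        f (σ (f.symm (Ideal.Quotient.mk _ (MvPowerSeries.X 0)))) =
          algebraMap k R ξ₂ • Ideal.Quotient.mk _ (MvPowerSeries.X 0) ∧
        f (σ (f.symm (Ideal.Quotient.mk _ (MvPowerSeries.X 1)))) =
          algebraMap k R ξ₁ • Ideal.Quotient.mk _ (MvPowerSeries.X 1) := by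
  classical
  set M := Ideal.map (algebraMap R S) (maximalIdeal R) with hM
  let q : S →ₐ[k] ArSing.ring k 1 := e.toAlgHom.comp (Ideal.Quotient.mkₐ k M)
  have hq : Function.Surjective q := e.surjective.comp Ideal.Quotient.mk_surjective
  have hqM : ∀ z, q z = 0 ↔ z ∈ M := fun z => by
    show e (Ideal.Quotient.mk M z) = 0 ↔ _
    rw [map_eq_zero_iff e e.injective, Ideal.Quotient.eq_zero_iff_mem]
  have hσM : ∀ z, z ∈ M → σ z ∈ M := fun z hz => by
    simpa using map_equiv_pow σ (n := 1) (by simpa using hz)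
  haveI : IsLocalHom q.toRingHom := IsLocalHom.of_surjective _ hq
  let cres : S →ₐ[k] k := ArSingLib.cst.comp q
  have hcres : ∀ z, cres z = 0 ↔ z ∈ maximalIdeal S := fun z => by
    show ArSingLib.cst (q z) = 0 ↔ _
    rw [mem_maximalIdeal, mem_nonunits_iff]
    constructor
    · intro h hu
      exact (ArSingLib.isUnit_iff.1 (hu.map q)) h
    · intro h
      by_contra hne
      exact h (isUnit_of_map_unit q.toRingHom z (ArSingLib.isUnit_iff.2 hne))
  have hkfix : ∀ c : k, σ (algebraMap k S c) = algebraMap k S c := fun c => by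
    rw [IsScalarTower.algebraMap_apply k R S, σ.commutes]
  have hcσ : ∀ z, cres (σ z) = cres z := fun z => by
    have h1 : z - algebraMap k S (cres z) ∈ maximalIdeal S := (hcres _).1 (by simp)
    have h2' : σ (z - algebraMap k S (cres z)) ∈ maximalIdeal S := fun hu => h1 (by
      simpa using hu.map σ.symm)
    rw [map_sub, hkfix, ← hcres, map_sub, AlgHom.commutes, sub_eq_zero] at h2'
    exact h2'
  let π : R →+* k := cres.toRingHom.comp (algebraMap R S)
  have hπc : ∀ c : k, π (algebraMap k R c) = c := fun c => by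
    show cres (algebraMap R S (algebraMap k R c)) = c
    rw [← IsScalarTower.algebraMap_apply, AlgHom.commutes]; rfl
  have hπs : Function.Surjective π := fun c => ⟨_, hπc c⟩
  have hkerπ : RingHom.ker π = maximalIdeal R :=
    eq_maximalIdeal (RingHom.ker_isMaximal_of_surjective π hπs)
  have hqR : ∀ r, q (algebraMap R S r) = algebraMap k _ (π r) := fun r => by
    have h1 : r - algebraMap k R (π r) ∈ maximalIdeal R := by
      rw [← hkerπ, RingHom.mem_ker, map_sub, hπc, sub_self]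
    have h2' := (hqM _).2 (Ideal.mem_map_of_mem (algebraMap R S) h1)
    rwa [map_sub, map_sub, ← IsScalarTower.algebraMap_apply, AlgHom.commutes, sub_eq_zero] at h2'
  have hres : ∀ c : S, ∃ r : R, c - algebraMap R S r ∈ maximalIdeal S := fun c =>
    ⟨algebraMap k R (cres c), (hcres _).1 (by
      rw [map_sub, ← IsScalarTower.algebraMap_apply, AlgHom.commutes]; simp)⟩
  set uu := ArSing.x k 1 + ArSing.y k 1 with huu
  set vv := ArSing.y k 1 - ArSing.x k 1 with hvv
  have huv0 : uu * vv = 0 := ArSingLib.node_mul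
  have hmin : ∀ w w' : ArSing.ring k 1, (Ideal.span {w}).IsPrime → w * w' = 0 →
      w' ∉ Ideal.span {w} → (Ideal.comap q.toRingHom (Ideal.span {w})) ∈ M.minimalPrimes := by
    intro w w' hw hww hw'
    refine ⟨⟨Ideal.IsPrime.comap _, fun z hz => ?_⟩, ?_⟩
    · show q z ∈ Ideal.span {w}
      rw [(hqM z).2 hz]; exact zero_mem _
    · rintro Q ⟨hQ, hMQ⟩ hle z hz
      obtain ⟨W, hW⟩ := hq w
      obtain ⟨W', hW'⟩ := hq w'
      have hWW : W * W' ∈ Q := hMQ ((hqM _).1 (by rw [map_mul, hW, hW', hww]))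
      have hWQ : W ∈ Q := (hQ.mem_or_mem hWW).resolve_right fun h => hw' (by
        have := hle h
        rwa [Ideal.mem_comap, show q.toRingHom W' = w' from hW'] at this)
      obtain ⟨c, hc⟩ := Ideal.mem_span_singleton'.1 (hz : q z ∈ Ideal.span {w})
      obtain ⟨C', rfl⟩ := hq c
      have : z - C' * W ∈ M := (hqM _).1 (by rw [map_sub, map_mul, hW, hc]; exact sub_self (q z))
      simpa using add_mem (hMQ this) (Ideal.mul_mem_left _ C' hWQ)
  have heig : ∀ w : ArSing.ring k 1, w ≠ 0 →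
      Ideal.comap q.toRingHom (Ideal.span {w}) ∈ M.minimalPrimes →
      ∃ (ξ : k) (W : S) (A : ArSing.ring k 1), ξ ^ 2 = 1 ∧ IsUnit A ∧ q W = w * A ∧
        σ W = algebraMap k S ξ * W := by
    intro w hw0 hwmin
    obtain ⟨W, hW⟩ := hq w
    have h1 : q (σ W) ∈ Ideal.span {w} := by
      have h := Ideal.mem_map_of_mem (σ : S →+* S) (show W ∈ Ideal.comap q.toRingHom (Ideal.span {w}) by
        rw [Ideal.mem_comap, show q.toRingHom W = w from hW]; exact Ideal.mem_span_singleton_self _)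
      rw [hbr _ hwmin] at h
      exact h
    obtain ⟨a, ha⟩ := Ideal.mem_span_singleton'.1 h1
    obtain ⟨A, rfl⟩ := hq a
    have h3 : σ (σ W - A * W) ∈ M := hσM _ ((hqM _).1 (by rw [map_sub, map_mul, hW, ha, sub_self]))
    rw [← hqM, map_sub, map_mul, hσ, map_sub, map_mul, hW, ← ha] at h3
    have h4 : w * (1 - q (σ A) * q A) = 0 := by linear_combination h3
    have h5 : ArSingLib.cst (1 - q (σ A) * q A) = 0 := by
      by_contra hne
      obtain ⟨b, hb⟩ := (ArSingLib.isUnit_iff.2 hne).exists_right_inv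
      apply hw0
      have := congrArg (· * b) h4
      simpa [mul_assoc, hb] using this
    have h6 : cres (σ A) * cres A = 1 := by
      rw [map_sub, map_one, map_mul, sub_eq_zero] at h5
      exact h5.symm
    rw [hcσ] at h6
    refine ⟨cres A, algebraMap k S (2⁻¹) * (W + algebraMap k S (cres A) * σ W),
      algebraMap k _ (2⁻¹) * (1 + algebraMap k _ (cres A) * q A), by rw [sq, h6], ?_, ?_, ?_⟩
    · rw [ArSingLib.isUnit_iff, map_mul, map_add, map_mul, map_one, AlgHom.commutes, AlgHom.commutes]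
      show (2⁻¹ : k) * (1 + cres A * cres A) ≠ 0
      rw [h6, one_add_one_eq_two, inv_mul_cancel₀ h2]
      exact one_ne_zero
    · rw [map_mul, map_add, map_mul, AlgHom.commutes, AlgHom.commutes, hW, ← ha]
      ring
    · have h6' : algebraMap k S (cres A) * algebraMap k S (cres A) = 1 := by
        rw [← map_mul, h6, map_one]
      simp only [map_mul, map_add, hkfix, hσ]
      linear_combination (-(algebraMap k S 2⁻¹) * σ W) * h6'
  obtain ⟨ξ₂, U, A, hξ₂, hA, hU, hσU⟩ := heig uu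
    (fun h0 => ArSingLib.u_notMem h2 (by rw [← huu, h0]; exact zero_mem _))
    (hmin uu vv ArSingLib.prime_u huv0 (ArSingLib.v_notMem h2))
  obtain ⟨ξ₁, V, B, hξ₁, hB, hV, hσV⟩ := heig vv
    (fun h0 => ArSingLib.v_notMem h2 (by rw [← hvv, h0]; exact zero_mem _))
    (hmin vv uu ArSingLib.prime_v (by rw [mul_comm]; exact huv0) (ArSingLib.u_notMem h2))
  have hgen : maximalIdeal S = Ideal.span {U, V} ⊔ M := by
    refine le_antisymm (fun z hz => ?_) (sup_le (Ideal.span_le.2 ?_)
      (map_maximalIdeal_le (algebraMap R S)))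
    · have h := (hcres z).2 hz
      have hz' : q z ∈ Ideal.span {uu, vv} := by
        rw [← ArSingLib.node_max h2, ArSingLib.mem_maximalIdeal_iff]; exact h
      obtain ⟨c, d, hcd⟩ := Ideal.mem_span_pair.1 hz'
      obtain ⟨A', hA'⟩ := hA.exists_left_inv
      obtain ⟨B', hB'⟩ := hB.exists_left_inv
      obtain ⟨C₁, hC₁⟩ := hq (c * A')
      obtain ⟨D₁, hD₁⟩ := hq (d * B')
      have hmem : z - (C₁ * U + D₁ * V) ∈ M := (hqM _).1 (by
        rw [map_sub, map_add, map_mul, map_mul, hC₁, hD₁, hU, hV]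
        linear_combination (-1 : ArSing.ring k 1) * hcd - c * uu * hA' - d * vv * hB')
      rw [show z = (C₁ * U + D₁ * V) + (z - (C₁ * U + D₁ * V)) by ring]
      exact Submodule.add_mem_sup (Ideal.mem_span_pair.2 ⟨C₁, D₁, rfl⟩) hmem
    · have hc : ∀ w : ArSing.ring k 1, w ∈ Ideal.span {uu, vv} → ArSingLib.cst w = 0 := fun w hw => by
        rw [← ArSingLib.node_max h2, ArSingLib.mem_maximalIdeal_iff] at hw; exact hw
      rintro z (rfl | rfl) <;> refine (hcres _).1 (hc _ ?_)
      · show q z ∈ _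
        rw [hU]; exact Ideal.mul_mem_right _ _ (Ideal.subset_span (Or.inl rfl))
      · show q z ∈ _
        rw [hV]; exact Ideal.mul_mem_right _ _ (Ideal.subset_span (Or.inr rfl))
  have hUV : U * V ∈ M := (hqM _).1 (by rw [map_mul, hU, hV]; linear_combination A * B * huv0)
  obtain ⟨t, ψ, htm, ht0, hψs, hψ0, hψ1, hσ0, hσ1⟩ := exists_node_eigen σ hσ
    (algebraMap k R ξ₁) (algebraMap k R ξ₂) (algebraMap k R 2⁻¹)
    (by rw [← map_mul, ← sq, hξ₁, map_one]) (by rw [← map_mul, ← sq, hξ₂, map_one])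
    (by rw [← map_ofNat (algebraMap k R) 2, ← map_mul, inv_mul_cancel₀ h2, map_one]) hres U V
    (by rw [← IsScalarTower.algebraMap_apply]; exact hσU)
    (by rw [← IsScalarTower.algebraMap_apply]; exact hσV) hUV hgen
  let P := MvPowerSeries (Fin 2) k
  haveI : IsLocalRing (MvPowerSeries (Fin 2) R) := inferInstance
  let Q := MvPowerSeries (Fin 2) R ⧸
    Ideal.span {(MvPowerSeries.X 0 * MvPowerSeries.X 1 - MvPowerSeries.C t : MvPowerSeries (Fin 2) R)}
  -- the closed fibre
  obtain ⟨A', hA'⟩ := Ideal.Quotient.mk_surjective A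
  obtain ⟨B', hB'⟩ := Ideal.Quotient.mk_surjective B
  have hA'u : IsUnit A' := MvPowerSeries.isUnit_iff_constantCoeff.2
    (isUnit_iff_ne_zero.2 (by rw [← hA'] at hA; exact ArSingLib.isUnit_iff.1 hA))
  have hB'u : IsUnit B' := MvPowerSeries.isUnit_iff_constantCoeff.2
    (isUnit_iff_ne_zero.2 (by rw [← hB'] at hB; exact ArSingLib.isUnit_iff.1 hB))
  let a₀ : P := (MvPowerSeries.X 0 + MvPowerSeries.X 1) * A'
  let b₀ : P := (MvPowerSeries.X 1 - MvPowerSeries.X 0) * B'
  have hgen0 : maximalIdeal P = Ideal.span {a₀, b₀} := by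
    refine le_antisymm ?_ (Ideal.span_le.2 ?_)
    · obtain ⟨A'', hA''⟩ := hA'u.exists_left_inv
      obtain ⟨B'', hB''⟩ := hB'u.exists_left_inv
      have h12 : (MvPowerSeries.C (2⁻¹ : k) : P) * 2 = 1 := by
        rw [← map_ofNat (MvPowerSeries.C (σ := Fin 2) (R := k)) 2, ← map_mul, inv_mul_cancel₀ h2,
          map_one]
      rw [PlanePS.max_eq, Ideal.span_le]
      rintro z (rfl | rfl) <;> rw [SetLike.mem_coe, Ideal.mem_span_pair]
      · exact ⟨MvPowerSeries.C 2⁻¹ * A'', -(MvPowerSeries.C 2⁻¹ * B''), by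
          simp only [a₀, b₀]
          linear_combination (MvPowerSeries.C 2⁻¹ * (MvPowerSeries.X 0 + MvPowerSeries.X 1)) * hA''
            - (MvPowerSeries.C 2⁻¹ * (MvPowerSeries.X 1 - MvPowerSeries.X 0)) * hB''
            + MvPowerSeries.X 0 * h12⟩
      · exact ⟨MvPowerSeries.C 2⁻¹ * A'', MvPowerSeries.C 2⁻¹ * B'', by
          simp only [a₀, b₀]
          linear_combination (MvPowerSeries.C 2⁻¹ * (MvPowerSeries.X 0 + MvPowerSeries.X 1)) * hA''
            + (MvPowerSeries.C 2⁻¹ * (MvPowerSeries.X 1 - MvPowerSeries.X 0)) * hB''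
            + MvPowerSeries.X 1 * h12⟩
    · rintro z (rfl | rfl) <;> exact PlanePS.mem_max_iff.2 (by simp [a₀, b₀])
  obtain ⟨χ, hχ0, hχ1⟩ := PlanePS.exists_aut a₀ b₀ hgen0
  letI : Algebra R (ArSing.ring k 1) := (q.toRingHom.comp (algebraMap R S)).toAlgebra
  let mkN : P →+* ArSing.ring k 1 := Ideal.Quotient.mk _
  let red : MvPowerSeries (Fin 2) R →ₐ[R] ArSing.ring k 1 :=
    { ((mkN.comp χ.toAlgHom.toRingHom).comp (MvPowerSeries.map π)) with
      commutes' := fun r => by
        show mkN (χ (MvPowerSeries.map π (algebraMap R (MvPowerSeries (Fin 2) R) r))) =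
          q (algebraMap R S r)
        rw [show (algebraMap R (MvPowerSeries (Fin 2) R) r) = MvPowerSeries.C r from rfl,
          MvPowerSeries.map_C, ArSingLib.mv_C_eq, χ.commutes, hqR]
        exact Ideal.Quotient.mk_algebraMap k _ _ }
  let qR : S →ₐ[R] ArSing.ring k 1 := { q.toRingHom with commutes' := fun r => rfl }
  have hψ0' : qR (ψ (Ideal.Quotient.mk _ (MvPowerSeries.X 0))) = mkN a₀ := by
    have := (hqM _).2 hψ0
    rw [map_sub, sub_eq_zero, hU, huu, ← hA'] at this
    show q _ = _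
    rw [this]
    simp [mkN, a₀]
  have hψ1' : qR (ψ (Ideal.Quotient.mk _ (MvPowerSeries.X 1))) = mkN b₀ := by
    have := (hqM _).2 hψ1
    rw [map_sub, sub_eq_zero, hV, hvv, ← hB'] at this
    show q _ = _
    rw [this]
    simp [mkN, b₀]
  have hfac : (qR.comp ψ).comp (Ideal.Quotient.mkₐ R _) = red := by
    refine PSLib.algHom_ext (I := maximalIdeal (ArSing.ring k 1)) _ _ (fun i => ?_) (fun i => ?_)
    · fin_cases i
      · show qR (ψ (Ideal.Quotient.mk _ (MvPowerSeries.X 0))) ∈ _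
        rw [hψ0', ArSingLib.mem_maximalIdeal_iff]
        exact PlanePS.mem_max_iff.1 (show a₀ ∈ maximalIdeal P by rw [hgen0]; exact Ideal.subset_span (Or.inl rfl))
      · show qR (ψ (Ideal.Quotient.mk _ (MvPowerSeries.X 1))) ∈ _
        rw [hψ1', ArSingLib.mem_maximalIdeal_iff]
        exact PlanePS.mem_max_iff.1 (show b₀ ∈ maximalIdeal P by rw [hgen0]; exact Ideal.subset_span (Or.inr rfl))
    · fin_cases i
      · show qR (ψ (Ideal.Quotient.mk _ (MvPowerSeries.X 0))) = mkN (χ (MvPowerSeries.map π (MvPowerSeries.X 0)))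
        rw [hψ0', MvPowerSeries.map_X, hχ0]
      · show qR (ψ (Ideal.Quotient.mk _ (MvPowerSeries.X 1))) = mkN (χ (MvPowerSeries.map π (MvPowerSeries.X 1)))
        rw [hψ1', MvPowerSeries.map_X, hχ1]
  have hker : RingHom.ker ψ ≤ (maximalIdeal R).map (algebraMap R Q) := by
    intro z hz
    obtain ⟨g, rfl⟩ := Ideal.Quotient.mk_surjective z
    have h1 : red g = 0 := by
      rw [← hfac]
      show qR (ψ (Ideal.Quotient.mk _ g)) = 0
      rw [RingHom.mem_ker.1 hz, map_zero]
    have h3 : χ (MvPowerSeries.map π g) ∈ Ideal.span {ArSing.eqn k 1} :=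
      Ideal.Quotient.eq_zero_iff_mem.1 h1
    obtain ⟨c, hc⟩ := Ideal.mem_span_singleton'.1 h3
    obtain ⟨W, hW⟩ := (hA'u.mul hB'u)
    have h4 : MvPowerSeries.map π g = χ.symm (c * ↑W⁻¹) * (MvPowerSeries.X 0 * MvPowerSeries.X 1) := by
      apply χ.injective
      rw [map_mul, χ.apply_symm_apply, map_mul, hχ0, hχ1, ← hc]
      simp only [ArSing.eqn, a₀, b₀]
      linear_combination (-(c * (MvPowerSeries.X 1 ^ 2 - MvPowerSeries.X 0 ^ 2))) * W.inv_mul
        + (c * ↑W⁻¹ * (MvPowerSeries.X 1 ^ 2 - MvPowerSeries.X 0 ^ 2)) * hW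
    let h5 : MvPowerSeries (Fin 2) R := fun d =>
      algebraMap k R (MvPowerSeries.coeff d (χ.symm (c * ↑W⁻¹)))
    have h5' : MvPowerSeries.map π h5 = χ.symm (c * ↑W⁻¹) := by
      ext d
      rw [MvPowerSeries.coeff_map]
      exact hπc _
    let eqR : MvPowerSeries (Fin 2) R :=
      MvPowerSeries.X 0 * MvPowerSeries.X 1 - MvPowerSeries.C t
    have hπt : π t = 0 := by rw [← RingHom.mem_ker, hkerπ]; exact htm
    have h6 : g - h5 * eqR ∈ (maximalIdeal R).map (MvPowerSeries.C : R →+* MvPowerSeries (Fin 2) R) := by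
      refine NodeLib.mem_map_C _ (IsNoetherian.noetherian _) _ fun d => ?_
      rw [← hkerπ, RingHom.mem_ker, ← MvPowerSeries.coeff_map]
      simp only [map_sub, map_mul, eqR, MvPowerSeries.map_X, MvPowerSeries.map_C, h5', hπt,
        map_zero, sub_zero, h4, sub_self]
    have h7 : Ideal.Quotient.mk (Ideal.span {eqR}) g = Ideal.Quotient.mk (Ideal.span {eqR}) (g - h5 * eqR) :=
      Ideal.Quotient.eq.2 (by rw [sub_sub_cancel]; exact Ideal.mul_mem_left _ _ (Ideal.mem_span_singleton_self _))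
    rw [h7]
    have := Ideal.mem_map_of_mem (Ideal.Quotient.mk (Ideal.span {eqR})) h6
    rw [Ideal.map_map] at this
    exact this
  haveI : IsLocalRing Q := by
    haveI : Nontrivial Q := ψ.toRingHom.domain_nontrivial
    exact IsLocalRing.of_surjective' (Ideal.Quotient.mk _) Ideal.Quotient.mk_surjective
  have hjac : (maximalIdeal R).map (algebraMap R Q) ≤ Ideal.jacobson ⊥ := by
    refine le_trans ?_ (IsLocalRing.maximalIdeal_le_jacobson _)
    refine Ideal.map_le_iff_le_comap.2 fun r hr hu => hr ?_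
    haveI : IsLocalHom (Ideal.Quotient.mk _ : MvPowerSeries (Fin 2) R →+* Q) :=
      IsLocalHom.of_surjective _ Ideal.Quotient.mk_surjective
    have := isUnit_of_map_unit (Ideal.Quotient.mk _ : MvPowerSeries (Fin 2) R →+* Q)
      (algebraMap R (MvPowerSeries (Fin 2) R) r) hu
    simpa [MvPowerSeries.algebraMap_apply] using MvPowerSeries.isUnit_iff_constantCoeff.1 this
  have hψi : Function.Injective ψ :=
    NodeLib.injective_of_flat_of_ker_le ψ hψs (maximalIdeal R) hjac hker
  let F := AlgEquiv.ofBijective ψ ⟨hψi, hψs⟩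
  refine ⟨t, ξ₁, ξ₂, hξ₁, hξ₂, fun hne => ht0 ?_, F.symm, ?_, ?_⟩
  · rw [← map_mul, hne, neg_mul, ← sq, hξ₂, map_neg, map_one]
  · rw [AlgEquiv.symm_symm]
    show F.symm (σ (ψ _)) = _
    rw [hσ0, map_mul, AlgEquiv.commutes, show ψ _ = F _ from rfl, F.symm_apply_apply]
    exact (Algebra.smul_def _ _).symm
  · rw [AlgEquiv.symm_symm]
    show F.symm (σ (ψ _)) = _
    rw [hσ1, map_mul, AlgEquiv.commutes, show ψ _ = F _ from rfl, F.symm_apply_apply]
    exact (Algebra.smul_def _ _).symm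

end Groth.Agent.SGA7X.NodeInvol
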