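import Mathlib.RingTheory.Flat.FaithfullyFlat.Algebra
import Mathlib.RingTheory.Nilpotent.Lemmas
import Mathlib.RingTheory.Polynomial.Quotient
import Mathlib.RingTheory.PrincipalIdealDomain
import Mathlib.Algebra.Polynomial.Div
import Mathlib.Algebra.Polynomial.FieldDivision

/-!
# Subalgebras of truncated polynomial rings over which the ring is flat
-/

universe u

open Polynomial

namespace Groth.Agent.SGA7X

variable {k : Type u} [Field k] {n : ℕ}

local notation "B" => Polynomial k ⧸ Ideal.span {(X : Polynomial k) ^ n}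
local notation "t" => Ideal.Quotient.mk (Ideal.span {(X : Polynomial k) ^ n}) X

lemma t_pow_eq_zero : (t : B) ^ n = 0 := by
  rw [← map_pow, Ideal.Quotient.eq_zero_iff_mem]
  exact Ideal.mem_span_singleton_self _

lemma exists_eq_algebraMap_add (b : B) : ∃ (c : k) (b' : B), b = algebraMap k B c + t * b' := by
  obtain ⟨p, rfl⟩ := Ideal.Quotient.mk_surjective b
  refine ⟨p.coeff 0, Ideal.Quotient.mk _ p.divX, ?_⟩
  conv_lhs => rw [← X_mul_divX_add p]
  rw [map_add, map_mul, add_comm]
  rfl

lemma eq_zero_or_pow_mul_unit (b : B) : b = 0 ∨ ∃ (i : ℕ) (w : B), IsUnit w ∧ b = t ^ i * w := by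
  obtain ⟨p, rfl⟩ := Ideal.Quotient.mk_surjective b
  by_cases hp : p = 0
  · left; rw [hp, map_zero]
  obtain ⟨q, hq, hndvd⟩ := p.exists_eq_pow_rootMultiplicity_mul_and_not_dvd hp 0
  rw [map_zero, sub_zero] at hq hndvd
  refine Or.inr ⟨p.rootMultiplicity 0, Ideal.Quotient.mk _ q, ?_, ?_⟩
  · have hc : q.coeff 0 ≠ 0 := fun h => hndvd (X_dvd_iff.mpr h)
    have hnil : IsNilpotent (t * Ideal.Quotient.mk (Ideal.span {(X : Polynomial k) ^ n}) q.divX) :=
      (⟨n, t_pow_eq_zero⟩ : IsNilpotent (t : B)) |> fun h => (Commute.all _ _).isNilpotent_mul_right h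
    have hu : IsUnit (algebraMap k B (q.coeff 0)) := (isUnit_iff_ne_zero.mpr hc).map _
    have := hnil.isUnit_add_left_of_commute hu (Commute.all _ _)
    convert this using 1
    conv_lhs => rw [← X_mul_divX_add q]
    rw [map_add, map_mul, add_comm]
    rfl
  · conv_lhs => rw [hq]
    rw [map_mul, map_pow]

theorem curvilinear (hn : 0 < n) (A : Subalgebra k B) [Module.Flat A B] :
    ∃ m : ℕ, Nonempty (A ≃ₐ[k] (Polynomial k ⧸ Ideal.span {(X : Polynomial k) ^ m})) := by
  classical
  haveI : Nontrivial B := Ideal.Quotient.nontrivial_iff.mpr (by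
    rw [Ne, Ideal.span_singleton_eq_top, isUnit_pow_iff hn.ne']
    exact Polynomial.not_isUnit_X)
  have hnilB : ∀ b : B, IsNilpotent b → b ∈ Ideal.span {(t : B)} := by
    intro b hb
    obtain ⟨c, b', rfl⟩ := exists_eq_algebraMap_add b
    have h1 : IsNilpotent (t * b') :=
      (Commute.all _ _).isNilpotent_mul_right ⟨n, t_pow_eq_zero⟩
    have h2 : IsNilpotent (algebraMap k B c) := by
      simpa using (Commute.all _ _).isNilpotent_sub hb h1
    rw [IsNilpotent.map_iff (algebraMap k B).injective, isNilpotent_iff_eq_zero] at h2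
    simp [h2, Ideal.mem_span_singleton]
  have hdec : ∀ x : A, ∃ (c : k) (y : A), IsNilpotent y ∧ x = algebraMap k A c + y := by
    intro x
    obtain ⟨c, b', hb⟩ := exists_eq_algebraMap_add (x : B)
    refine ⟨c, x - algebraMap k A c, ?_, by abel⟩
    rw [← IsNilpotent.map_iff (f := A.val) Subtype.val_injective]
    rw [show A.val (x - algebraMap k A c) = t * b' by simp [hb]]
    exact (Commute.all _ _).isNilpotent_mul_right ⟨n, t_pow_eq_zero⟩
  -- a generator, in the extended ideal
  obtain ⟨a, ha, hdiv⟩ : ∃ a : A, IsNilpotent a ∧ ∀ y : A, IsNilpotent y → (a : B) ∣ (y : B) := by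
    by_cases hall : ∀ y : A, IsNilpotent y → (y : B) = 0
    · exact ⟨0, IsNilpotent.zero, fun y hy => by simp [hall y hy]⟩
    push_neg at hall
    obtain ⟨y₀, hy₀, hy₀'⟩ := hall
    have hex : ∃ (i : ℕ) (y : A) (w : B), IsNilpotent y ∧ IsUnit w ∧ (y : B) = t ^ i * w := by
      obtain ⟨i, w, hw, hi⟩ := (eq_zero_or_pow_mul_unit (y₀ : B)).resolve_left hy₀'
      exact ⟨i, y₀, w, hy₀, hw, hi⟩
    obtain ⟨a, w, ha, hw, haw⟩ := Nat.find_spec hex
    refine ⟨a, ha, fun y hy => ?_⟩
    rcases eq_zero_or_pow_mul_unit (y : B) with h | ⟨i, w', hw', hi⟩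
    · rw [h]; exact dvd_zero _
    · rw [haw, hw.mul_right_dvd, hi]
      exact dvd_mul_of_dvd_left (pow_dvd_pow _ (Nat.find_min' hex ⟨y, w', hy, hw', hi⟩)) _
  haveI : Module.FaithfullyFlat A B := by
    refine ⟨fun {m} hm htop => ?_⟩
    have hle : m ≤ (⊤ : Ideal A) := le_top
    have hmap : (Ideal.map (algebraMap A B) m) = ⊤ := by
      rw [eq_top_iff]
      intro b _
      have : b ∈ m • (⊤ : Submodule A B) := by rw [htop]; trivial
      rwa [Ideal.smul_top_eq_map] at this
    have hle' : Ideal.map (algebraMap A B) m ≤ Ideal.span {(t : B)} := by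
      rw [Ideal.map_le_iff_le_comap]
      intro x hx
      obtain ⟨c, y, hy, rfl⟩ := hdec x
      have hc : c = 0 := by
        by_contra hc
        have hu : IsUnit (algebraMap k A c + y) :=
          hy.isUnit_add_left_of_commute ((isUnit_iff_ne_zero.mpr hc).map _) (Commute.all _ _)
        exact hm.ne_top (Ideal.eq_top_of_isUnit_mem _ hx hu)
      rw [Ideal.mem_comap, hc, map_zero, zero_add]
      exact hnilB _ (hy.map _)
    rw [hmap, top_le_iff, Ideal.span_singleton_eq_top] at hle'
    exact (IsNilpotent.not_isUnit ⟨n, t_pow_eq_zero⟩) hle'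
  have hgen : ∀ y : A, IsNilpotent y → ∃ z, y = a * z := by
    intro y hy
    have : y ∈ Ideal.comap (algebraMap A B) (Ideal.map (algebraMap A B) (Ideal.span {a})) := by
      rw [Ideal.mem_comap, Ideal.map_span, Set.image_singleton, Ideal.mem_span_singleton]
      exact hdiv y hy
    rw [Ideal.comap_map_eq_self_of_faithfullyFlat, Ideal.mem_span_singleton] at this
    exact this
  have han : a ^ n = 0 := by
    obtain ⟨b, hb⟩ := Ideal.mem_span_singleton.mp (hnilB _ (ha.map A.val))
    apply Subtype.val_injective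
    show ((a ^ n : A) : B) = 0
    rw [SubmonoidClass.coe_pow]
    rw [show (a : B) = t * b from hb, mul_pow, t_pow_eq_zero, zero_mul]
  have happrox : ∀ (j : ℕ) (x : A), ∃ (p : k[X]) (z : A), x = aeval a p + a ^ j * z := by
    intro j
    induction j with
    | zero => exact fun x => ⟨0, x, by simp⟩
    | succ j ih =>
      intro x
      obtain ⟨p, z, hz⟩ := ih x
      obtain ⟨c, y, hy, hzc⟩ := hdec z
      obtain ⟨y', rfl⟩ := hgen y hy
      refine ⟨p + C c * X ^ j, y', ?_⟩
      rw [hz, hzc, map_add, map_mul, map_pow, aeval_C, aeval_X, pow_succ]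
      ring
  let φ : k[X] →ₐ[k] A := aeval a
  have hsurj : Function.Surjective φ := fun x => by
    obtain ⟨p, z, hz⟩ := happrox n x
    exact ⟨p, by rw [hz, han, zero_mul, add_zero]⟩
  obtain ⟨g, hg⟩ : ∃ g, RingHom.ker φ = Ideal.span {g} :=
    ⟨_, (Ideal.span_singleton_generator (RingHom.ker φ)).symm⟩
  have hXn : g ∣ X ^ n := by
    rw [← Ideal.mem_span_singleton, ← hg, RingHom.mem_ker, map_pow, show φ X = a from aeval_X a, han]
  obtain ⟨m, -, hm⟩ := (dvd_prime_pow (Polynomial.prime_X (R := k)) n).mp hXn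
  refine ⟨m, ⟨((Ideal.quotientEquivAlgOfEq k ?_).trans
    (Ideal.quotientKerAlgEquivOfSurjective hsurj)).symm⟩⟩
  rw [hg, Ideal.span_singleton_eq_span_singleton.mpr hm]

end Groth.Agent.SGA7X
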