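import Groth.Agent.SGA7X.PlanePS

/-!
# Double components of plane curves
-/

universe u

open IsLocalRing

namespace Groth.Agent.SGA7X.PlaneAlg

variable {k : Type u} [Field k]

local notation "P" => MvPowerSeries (Fin 2) k
local notation "R" => MvPolynomial (Fin 2) k

/-- The expansion of a polynomial at a point. -/
noncomputable def germ (a : Fin 2 → k) : R →ₐ[k] P :=
  (MvPolynomial.coeToMvPowerSeries.algHom k).comp
    (MvPolynomial.aeval (fun i : Fin 2 => MvPolynomial.X i + MvPolynomial.C (a i)))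

theorem germ_eq (a : Fin 2 → k) (f : R) : germ a f =
    (MvPolynomial.aeval (fun i : Fin 2 => MvPolynomial.X i + MvPolynomial.C (a i)) f).toMvPowerSeries := by
  simp [germ]

theorem germ_X (a : Fin 2 → k) (i : Fin 2) :
    germ a (MvPolynomial.X i) = MvPowerSeries.X i + MvPowerSeries.C (a i) := by
  simp [germ_eq]

theorem constantCoeff_germ (a : Fin 2 → k) (f : R) :
    MvPowerSeries.constantCoeff (germ a f) = MvPolynomial.eval a f := by
  induction f using MvPolynomial.induction_on with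
  | C c => simp [MvPowerSeries.algebraMap_apply]
  | add p q hp hq => simp [map_add, hp, hq]
  | mul_X p i hp => simp [map_mul, hp, germ_X]

theorem pderiv_germ (a : Fin 2 → k) (i : Fin 2) (f : R) :
    MvPowerSeries.pderiv k i (germ a f) = germ a (MvPolynomial.pderiv i f) := by
  induction f using MvPolynomial.induction_on with
  | C c => simp [germ_eq]
  | add p q hp hq => simp [map_add, hp, hq]
  | mul_X p j hp =>
    rw [map_mul, germ_X, Derivation.leibniz, Derivation.leibniz, map_add, map_add, hp]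
    rcases eq_or_ne j i with rfl | hne
    · simp [germ_X]
    · simp [germ_X, hne]

theorem germ_mem_max_iff {a : Fin 2 → k} {f : R} :
    germ a f ∈ maximalIdeal P ↔ MvPolynomial.eval a f = 0 := by
  rw [PlanePS.mem_max_iff, constantCoeff_germ]

theorem germ_smooth {a : Fin 2 → k} {g : R} (hg : MvPolynomial.eval a g = 0) :
    germ a g ∉ maximalIdeal P ^ 2 ↔ ∃ i, MvPolynomial.eval a (MvPolynomial.pderiv i g) ≠ 0 := by
  rw [PlanePS.mem_sq_iff (germ_mem_max_iff.2 hg)]
  simp [pderiv_germ, constantCoeff_germ, Fin.forall_fin_two, Fin.exists_fin_two]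
  tauto

/-- A polynomial all of whose partial derivatives vanish is not irreducible. -/
theorem not_irreducible_of_pderiv_eq_zero [IsAlgClosed k] {p : R}
    (h : ∀ i, MvPolynomial.pderiv i p = 0) : ¬ Irreducible p := by
  classical
  intro hp
  have key : ∀ (i : Fin 2) (m : Fin 2 →₀ ℕ), m i ≠ 0 → p.coeff m ≠ 0 → ((m i : ℕ) : k) = 0 := by
    intro i m hmi hc
    have hm : m - Finsupp.single i 1 + Finsupp.single i 1 = m :=
      tsub_add_cancel_of_le (Finsupp.single_le_iff.2 (by omega))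
    have := congrArg (MvPolynomial.coeff (m - Finsupp.single i 1)) (h i)
    rw [MvPolynomial.coeff_pderiv, hm, MvPolynomial.coeff_zero, mul_eq_zero] at this
    have h' := this.resolve_left hc
    rw [Finsupp.tsub_apply, Finsupp.single_eq_same, ← Nat.cast_add_one,
      Nat.sub_add_cancel (Nat.one_le_iff_ne_zero.2 hmi)] at h'
    exact h'
  rcases CharP.exists k with ⟨q, hq⟩
  rcases CharP.char_is_prime_or_zero k q with hqp | rfl
  · haveI := Fact.mk hqp
    haveI : CharP R q := inferInstance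
    choose r hr using fun c : k => IsAlgClosed.exists_pow_nat_eq c hqp.pos
    let s : R := ∑ m ∈ p.support,
      MvPolynomial.monomial (Finsupp.mapRange (· / q) (Nat.zero_div q) m) (r (p.coeff m))
    have hsp : s ^ q = p := by
      simp only [s]
      rw [sum_pow_char]
      conv_rhs => rw [p.as_sum]
      refine Finset.sum_congr rfl fun m hm => ?_
      rw [MvPolynomial.monomial_pow, hr]
      congr 2
      ext i
      by_cases hmi : m i = 0
      · simp [hmi]
      · have hdvd : q ∣ m i :=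
          (CharP.cast_eq_zero_iff k q _).1 (key i m hmi (MvPolynomial.mem_support_iff.1 hm))
        simpa using Nat.mul_div_cancel' hdvd
    rw [← hsp] at hp
    exact not_irreducible_pow hqp.ne_one hp
  · haveI := CharP.charP_to_charZero k
    have hconst : p = MvPolynomial.C (p.coeff 0) := by
      ext m
      rw [MvPolynomial.coeff_C]
      split_ifs with hm
      · rw [hm]
      · by_contra hc
        obtain ⟨i, hi⟩ := Finsupp.support_nonempty_iff.2 (Ne.symm hm)
        exact Nat.cast_ne_zero.2 (Finsupp.mem_support_iff.1 hi)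
          (key i m (Finsupp.mem_support_iff.1 hi) hc)
    rw [hconst] at hp
    by_cases hc : p.coeff 0 = 0
    · simp [hc] at hp
    · exact hp.not_isUnit ((isUnit_iff_ne_zero.2 hc).map MvPolynomial.C)

theorem pderiv_eq_zero_of_dvd {p : R} (i : Fin 2) (h : p ∣ MvPolynomial.pderiv i p) :
    MvPolynomial.pderiv i p = 0 := by
  classical
  by_contra hne
  obtain ⟨r, hr⟩ := h
  have hr0 : r ≠ 0 := fun h0 => hne (by rw [hr, h0, mul_zero])
  have hp0 : p ≠ 0 := fun h0 => hne (by simp [h0])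
  have hle : p.totalDegree ≤ (MvPolynomial.pderiv i p).totalDegree := by
    rw [hr, MvPolynomial.totalDegree_mul_of_isDomain hp0 hr0]; omega
  obtain ⟨m, hm, hmd⟩ := (MvPolynomial.pderiv i p).support.exists_mem_eq_sup
    (MvPolynomial.support_nonempty.2 hne) fun s => s.sum fun _ e => e
  have hms : m + Finsupp.single i 1 ∈ p.support := by
    rw [MvPolynomial.mem_support_iff] at hm ⊢
    rw [MvPolynomial.coeff_pderiv] at hm
    exact left_ne_zero_of_mul hm
  have := MvPolynomial.le_totalDegree hms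
  rw [Finsupp.sum_add_index' (fun _ => rfl) (fun _ _ _ => rfl), Finsupp.sum_single_index rfl] at this
  have hd : (MvPolynomial.pderiv i p).totalDegree = m.sum fun _ e => e := hmd
  omega

theorem exists_double_component [IsAlgClosed k] (f : R) (a : Fin 2 → k) {b : P}
    (hb : b ∈ maximalIdeal P) (hb2 : b ∉ maximalIdeal P ^ 2) (hfb : Associated (b ^ 2) (germ a f)) :
    ∃ g h : R, f = g ^ 2 * h ∧ MvPolynomial.eval a h ≠ 0 ∧ MvPolynomial.eval a g = 0 ∧
      ∃ i : Fin 2, MvPolynomial.eval a (MvPolynomial.pderiv i g) ≠ 0 := by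
  obtain ⟨u, hu⟩ := hfb
  have hbp : Prime b := PlanePS.prime_of_not_mem_sq hb hb2
  haveI : (Ideal.span {b}).IsPrime := (Ideal.span_singleton_prime hbp.ne_zero).2 hbp
  let 𝔮 : Ideal R := (Ideal.span {b}).comap (germ a).toRingHom
  haveI h𝔮 : 𝔮.IsPrime := Ideal.IsPrime.comap _
  have mem𝔮 : ∀ r, r ∈ 𝔮 ↔ b ∣ germ a r := fun r => Ideal.mem_span_singleton
  have hf0 : f ≠ 0 := fun h0 => by
    rw [h0, map_zero] at hu
    simpa [hbp.ne_zero] using hu
  have hf𝔮 : f ∈ 𝔮 := (mem𝔮 f).2 (hu ▸ Dvd.dvd.mul_right (dvd_pow_self b two_ne_zero) _)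
  obtain ⟨p, hp𝔮, hp⟩ := h𝔮.exists_mem_prime_of_ne_bot fun h0 => hf0 (by simpa [h0] using hf𝔮)
  let 𝔪 : Ideal R := (maximalIdeal P).comap (germ a).toRingHom
  haveI h𝔪 : 𝔪.IsPrime := Ideal.IsPrime.comap _
  have h𝔮𝔪 : 𝔮 < 𝔪 := by
    refine lt_of_le_of_ne (Ideal.comap_mono ((Ideal.span_singleton_le_iff_mem _).2 hb)) fun heq => ?_
    have hX : ∀ i, b ∣ (MvPowerSeries.X i : P) := fun i => by
      have : MvPolynomial.X i - MvPolynomial.C (a i) ∈ 𝔪 :=
        germ_mem_max_iff.2 (by simp)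
      rw [← heq, mem𝔮, map_sub, germ_X] at this
      simpa [germ_eq, MvPowerSeries.algebraMap_apply] using this
    have h10 : b ∣ (MvPowerSeries.X 0 : P) := hX 0
    obtain ⟨v, hv⟩ := hbp.irreducible.associated_of_dvd PlanePS.prime_X_zero.irreducible h10
    obtain ⟨c, hc⟩ := hX 1
    have hmax : maximalIdeal P ≤ Ideal.span {b} := by
      rw [PlanePS.max_eq, Ideal.span_le]
      rintro z (rfl | rfl) <;> exact Ideal.mem_span_singleton.2 (hX _)
    have hd := congrArg (MvPowerSeries.pderiv k (1 : Fin 2)) hc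
    have hd0 := congrArg (MvPowerSeries.pderiv k (1 : Fin 2)) hv
    have hb0 := PlanePS.mem_max_iff.1 hb
    have h11 := congrArg MvPowerSeries.constantCoeff hd
    have h01 := congrArg MvPowerSeries.constantCoeff hd0
    simp [Derivation.leibniz, hb0] at h11 h01
    have hv0 : MvPowerSeries.constantCoeff (v : P) ≠ 0 :=
      isUnit_iff_ne_zero.1 (MvPowerSeries.isUnit_iff_constantCoeff.1 v.isUnit)
    simp_all
  have hspan : 𝔮 = Ideal.span {p} := by
    by_contra hne
    have h1 : Ideal.span {p} < 𝔮 :=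
      lt_of_le_of_ne ((Ideal.span_singleton_le_iff_mem _).2 hp𝔮) (Ne.symm hne)
    haveI : (Ideal.span {p}).IsPrime := (Ideal.span_singleton_prime hp.ne_zero).2 hp
    have h0 : (⊥ : Ideal R) < Ideal.span {p} := by
      rw [bot_lt_iff_ne_bot, Ne, Ideal.span_singleton_eq_bot]; exact hp.ne_zero
    let s : LTSeries (PrimeSpectrum R) :=
      ((((RelSeries.singleton _ (⟨⊥, Ideal.isPrime_bot⟩ : PrimeSpectrum R)).snoc
        ⟨Ideal.span {p}, inferInstance⟩ (PrimeSpectrum.asIdeal_lt_asIdeal _ _ |>.1 (by simpa using h0))).snoc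
        ⟨𝔮, h𝔮⟩ (PrimeSpectrum.asIdeal_lt_asIdeal _ _ |>.1 (by simpa using h1))).snoc ⟨𝔪, h𝔪⟩ (PrimeSpectrum.asIdeal_lt_asIdeal _ _ |>.1 (by simpa using h𝔮𝔪)))
    have hlen := Order.LTSeries.length_le_krullDim s
    have hdim : Order.krullDim (PrimeSpectrum R) = 2 := by
      show ringKrullDim R = 2
      rw [MvPolynomial.ringKrullDim_of_isNoetherianRing, ringKrullDim_eq_zero_of_field]
      simp
    rw [hdim] at hlen
    simp [s] at hlen
    norm_cast at hlen
  obtain ⟨e, h, hph, hfe⟩ := WfDvdMonoid.max_power_factor hf0 hp.irreducible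
  obtain ⟨w, hw⟩ := (mem𝔮 p).1 hp𝔮
  have hbh : ¬ b ∣ germ a h := fun hd => by
    rw [← mem𝔮, hspan, Ideal.mem_span_singleton] at hd
    exact hph hd
  have hbw : ¬ b ∣ w := fun hd => by
    apply not_irreducible_of_pderiv_eq_zero (p := p) (fun i => ?_) hp.irreducible
    apply pderiv_eq_zero_of_dvd
    rw [← Ideal.mem_span_singleton, ← hspan, mem𝔮, ← pderiv_germ, hw]
    simp only [Derivation.leibniz, smul_eq_mul]
    exact dvd_add (dvd_mul_right _ _) (hd.mul_right _)
  have hbwh : ¬ b ∣ w ^ e * germ a h := fun hd =>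
    (hbp.dvd_or_dvd hd).elim (fun h' => hbw (hbp.dvd_of_dvd_pow h')) hbh
  have heq : b ^ 2 * (u : P) = b ^ e * (w ^ e * germ a h) := by
    rw [hu, hfe, map_mul, map_pow, hw, mul_pow, mul_assoc]
  have he2 : e = 2 := by
    rcases lt_trichotomy e 2 with hlt | rfl | hgt
    · exfalso
      obtain ⟨j, hj⟩ : ∃ j, 2 = e + (j + 1) := ⟨1 - e, by omega⟩
      have hj' : b ^ 2 = b ^ e * b ^ (j + 1) := by rw [← pow_add, ← hj]
      rw [hj', mul_assoc] at heq
      refine hbwh ⟨b ^ j * u, ?_⟩
      rw [← mul_left_cancel₀ (pow_ne_zero _ hbp.ne_zero) heq, pow_succ]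
      ring
    · rfl
    · exfalso
      obtain ⟨j, hj⟩ : ∃ j, e = 2 + (j + 1) := ⟨e - 3, by omega⟩
      have hj' : b ^ e = b ^ 2 * b ^ (j + 1) := by rw [← pow_add, ← hj]
      rw [hj', mul_assoc] at heq
      have := mul_left_cancel₀ (pow_ne_zero _ hbp.ne_zero) heq
      exact hbp.not_isUnit (isUnit_of_dvd_unit ⟨_, by rw [this, pow_succ']; rw [mul_assoc]⟩ u.isUnit)
  subst he2
  have huw := mul_left_cancel₀ (pow_ne_zero _ hbp.ne_zero) heq
  have hU : IsUnit (w ^ 2 * germ a h) := huw ▸ u.isUnit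
  have hwU : IsUnit w := (isUnit_pow_iff two_ne_zero).1 (isUnit_of_mul_isUnit_left hU)
  have hhU : IsUnit (germ a h) := isUnit_of_mul_isUnit_right hU
  have hpa : MvPolynomial.eval a p = 0 :=
    germ_mem_max_iff.1 (hw ▸ Ideal.mul_mem_right _ _ hb)
  refine ⟨p, h, hfe, fun h0 => ?_, hpa, (germ_smooth hpa).1 fun hsq => hb2 ?_⟩
  · exact (germ_mem_max_iff.2 h0) hhU
  · rw [hw] at hsq
    obtain ⟨v, rfl⟩ := hwU
    simpa using Ideal.mul_mem_right (↑v⁻¹ : P) _ hsq

theorem double_iff [IsAlgClosed k] (f : R) (a : Fin 2 → k) :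
    Nonempty ((P ⧸ Ideal.span ({germ a f} : Set P)) ≃ₐ[k]
      (P ⧸ Ideal.span ({MvPowerSeries.X 1 ^ 2} : Set P))) ↔
    ∃ g h : R, f = g ^ 2 * h ∧ MvPolynomial.eval a h ≠ 0 ∧ MvPolynomial.eval a g = 0 ∧
      ∃ i : Fin 2, MvPolynomial.eval a (MvPolynomial.pderiv i g) ≠ 0 := by
  constructor
  · rintro ⟨e⟩
    have hX : (MvPowerSeries.X 1 : P) ∈ maximalIdeal P := PlanePS.mem_max_iff.2 (by simp)
    obtain ⟨φ, hφ⟩ := PlanePS.exists_aut_of_equiv (F := MvPowerSeries.X 1 ^ 2) (G := germ a f)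
      (Ideal.pow_mem_pow hX 2) (by
        by_contra hu
        rw [mem_maximalIdeal, mem_nonunits_iff, not_not] at hu
        have h1 : Ideal.span ({germ a f} : Set P) = ⊤ := Ideal.span_singleton_eq_top.2 hu
        have : Subsingleton (P ⧸ Ideal.span ({germ a f} : Set P)) :=
          Ideal.Quotient.subsingleton_iff.2 h1
        have h2 := Ideal.Quotient.subsingleton_iff.1 e.symm.toEquiv.subsingleton
        rw [Ideal.span_singleton_eq_top, MvPowerSeries.isUnit_iff_constantCoeff] at h2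
        simp at h2) e
    refine exists_double_component f a (b := φ.symm (MvPowerSeries.X 1))
      (PlanePS.aut_mem_max _ hX) (fun h2 => PlanePS.X_notMem_sq (k := k) 1 ?_) ?_
    · simpa using PlanePS.aut_mem_sq φ h2
    · simpa using hφ.symm.map φ.symm
  · rintro ⟨g, h, rfl, hh, hg, hi⟩
    obtain ⟨φ, hφ⟩ := PlanePS.exists_aut_snd (germ a g) (germ_mem_max_iff.2 hg)
      ((germ_smooth hg).2 hi)
    refine PlanePS.nonempty_quot_equiv φ ?_
    have hu : IsUnit (germ a h) := MvPowerSeries.isUnit_iff_constantCoeff.2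
      (by rw [constantCoeff_germ]; exact isUnit_iff_ne_zero.2 hh)
    rw [map_mul, map_pow, map_pow, hφ]
    exact ⟨hu.unit, rfl⟩

end Groth.Agent.SGA7X.PlaneAlg
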