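import Groth.Agent.SGA7X.PlaneAlg

/-!
# Plane singularities with nonzero quadratic part
-/

universe u

open IsLocalRing MvPowerSeries

namespace Groth.Agent.SGA7X.PlaneASing

variable {k : Type u} [Field k]

local notation "P" => MvPowerSeries (Fin 2) k

theorem two_jet {F : P} (hF : F ∈ maximalIdeal P ^ 2) :
    ∃ A B D : P, F = X 0 ^ 2 * A + X 0 * X 1 * B + X 1 ^ 2 * D := by
  rw [sq] at hF
  refine Submodule.mul_induction_on hF (fun x hx y hy => ?_) fun x y hx hy => ?_
  · rw [PlanePS.max_eq, Ideal.mem_span_pair] at hx hy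
    obtain ⟨a, b, rfl⟩ := hx
    obtain ⟨c, d, rfl⟩ := hy
    exact ⟨a * c, a * d + b * c, b * d, by ring⟩
  · obtain ⟨A, B, D, rfl⟩ := hx
    obtain ⟨A', B', D', rfl⟩ := hy
    exact ⟨A + A', B + B', D + D', by ring⟩

theorem hessian_jet (A B D : P) :
    constantCoeff (pderiv k 0 (pderiv k 0 (X 0 ^ 2 * A + X 0 * X 1 * B + X 1 ^ 2 * D))) =
        2 * constantCoeff A ∧
      constantCoeff (pderiv k 0 (pderiv k 1 (X 0 ^ 2 * A + X 0 * X 1 * B + X 1 ^ 2 * D))) =
        constantCoeff B ∧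
      constantCoeff (pderiv k 1 (pderiv k 0 (X 0 ^ 2 * A + X 0 * X 1 * B + X 1 ^ 2 * D))) =
        constantCoeff B ∧
      constantCoeff (pderiv k 1 (pderiv k 1 (X 0 ^ 2 * A + X 0 * X 1 * B + X 1 ^ 2 * D))) =
        2 * constantCoeff D := by
  refine ⟨?_, ?_, ?_, ?_⟩ <;> simp [sq, Derivation.leibniz, pderiv_X] <;> ring

theorem mem_cube_iff (h2 : (2 : k) ≠ 0) {F : P} (hF : F ∈ maximalIdeal P ^ 2) :
    F ∈ maximalIdeal P ^ 3 ↔ ∀ i j, constantCoeff (pderiv k i (pderiv k j F)) = 0 := by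
  constructor
  · intro h i j
    refine PlanePS.mem_max_iff.1 (PlanePS.pderiv_mem_max_of_mem_sq ?_ i)
    rw [pow_succ] at h
    refine Submodule.mul_induction_on h (fun x hx y hy => ?_) fun x y hx hy => ?_
    · rw [Derivation.leibniz, smul_eq_mul, smul_eq_mul]
      refine add_mem (Ideal.mul_mem_right _ _ hx) ?_
      rw [sq]; exact Ideal.mul_mem_mul hy (PlanePS.pderiv_mem_max_of_mem_sq hx j)
    · rw [map_add]; exact add_mem hx hy
  · intro h
    obtain ⟨A, B, D, rfl⟩ := two_jet hF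
    obtain ⟨hA, hB, -, hD⟩ := hessian_jet A B D
    rw [h] at hA hB hD
    have hm : ∀ i, (X i : P) ∈ maximalIdeal P := fun i => PlanePS.mem_max_iff.2 (constantCoeff_X i)
    have hA' : A ∈ maximalIdeal P := PlanePS.mem_max_iff.2 ((mul_eq_zero.1 hA.symm).resolve_left h2)
    have hD' : D ∈ maximalIdeal P := PlanePS.mem_max_iff.2 ((mul_eq_zero.1 hD.symm).resolve_left h2)
    have hB' : B ∈ maximalIdeal P := PlanePS.mem_max_iff.2 hB.symm
    rw [pow_succ]
    exact add_mem (add_mem (Ideal.mul_mem_mul (Ideal.pow_mem_pow (hm 0) 2) hA')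
      (Ideal.mul_mem_mul (by rw [sq]; exact Ideal.mul_mem_mul (hm 0) (hm 1)) hB'))
      (Ideal.mul_mem_mul (Ideal.pow_mem_pow (hm 1) 2) hD')

theorem aut_mem_pow (φ : P ≃ₐ[k] P) (n : ℕ) {F : P} (hF : F ∈ maximalIdeal P ^ n) :
    φ F ∈ maximalIdeal P ^ n := by
  have h : Ideal.map φ.toAlgHom.toRingHom (maximalIdeal P) ≤ maximalIdeal P :=
    Ideal.map_le_iff_le_comap.2 fun x hx => PlanePS.aut_mem_max φ hx
  refine Ideal.pow_right_mono h n ?_
  rw [← Ideal.map_pow]
  exact Ideal.mem_map_of_mem _ hF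

theorem exists_sqrt [IsAlgClosed k] (h2 : (2 : k) ≠ 0) {E : P} (hE : IsUnit E) :
    ∃ w : P, IsUnit w ∧ w ^ 2 = E := by
  have hE0 : constantCoeff E ≠ 0 := isUnit_iff_ne_zero.1 (isUnit_iff_constantCoeff.1 hE)
  obtain ⟨c, hc⟩ := IsAlgClosed.exists_pow_nat_eq (constantCoeff E) two_pos
  have hc0 : c ≠ 0 := fun h => hE0 (by rw [← hc, h]; simp)
  have hI : ∀ F : P, constantCoeff F = 0 → F ∈ Ideal.span (Set.range (X : Fin 2 → P)) := by
    intro F hF
    rw [PlanePS.range_X, ← PlanePS.max_eq]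
    exact PlanePS.mem_max_iff.2 hF
  obtain ⟨w, hw, -⟩ := HenselianRing.is_henselian
    (I := Ideal.span (Set.range (X : Fin 2 → P)))
    (Polynomial.X ^ 2 - Polynomial.C E) (Polynomial.monic_X_pow_sub_C E two_ne_zero)
    (C c) (hI _ (by simp [hc])) (by
      refine IsUnit.map _ (isUnit_iff_constantCoeff.2 ?_)
      simpa [Polynomial.derivative_X_pow, constantCoeff_C] using
        mul_ne_zero (show (1 + 1 : k) ≠ 0 by rwa [one_add_one_eq_two]) hc0)
  rw [Polynomial.IsRoot.def, Polynomial.eval_sub, Polynomial.eval_pow, Polynomial.eval_X,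
    Polynomial.eval_C, sub_eq_zero] at hw
  exact ⟨w, (isUnit_pow_iff two_ne_zero).1 (by rw [hw]; exact hE), hw⟩

/-- Series in the first variable. -/
noncomputable def xm : PowerSeries k →ₐ[k] P :=
  PowerSeries.substAlgHom (PowerSeries.HasSubst.of_constantCoeff_zero (constantCoeff_X (0 : Fin 2)))

/-- Restriction to the first axis. -/
noncomputable def res : P →ₐ[k] PowerSeries k :=
  substAlgHom (a := ![(PowerSeries.X : PowerSeries k), 0])
    (hasSubst_of_constantCoeff_zero fun i => by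
      fin_cases i
      · exact PowerSeries.constantCoeff_X
      · exact map_zero _)

theorem xm_X : xm (k := k) PowerSeries.X = X 0 := by simp [xm, PowerSeries.substAlgHom_X]

theorem res_X (i : Fin 2) : res (k := k) (X i) = ![(PowerSeries.X : PowerSeries k), 0] i := by
  rw [res, substAlgHom_apply, subst_X (hasSubst_of_constantCoeff_zero fun i => by
    fin_cases i
    · exact PowerSeries.constantCoeff_X
    · exact map_zero _)]

theorem res_X_zero : res (k := k) (X 0) = PowerSeries.X := res_X 0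

theorem res_X_one : res (k := k) (X 1) = 0 := res_X 1

theorem res_xm (c : PowerSeries k) : res (xm c) = c := by
  have : (res (k := k)).comp xm = AlgHom.id k _ :=
    ArSingLib.ps_hom_ext (maximalIdeal _) (by simp [xm_X, res_X_zero]) (by
      simp [xm_X, res_X_zero, mem_maximalIdeal, PowerSeries.isUnit_iff_constantCoeff])
  exact DFunLike.congr_fun this c

theorem exists_decomp (G : P) : ∃ H : P, G = xm (res G) + X 1 * H := by
  let I : Ideal P := Ideal.span {X 1}
  haveI : Nontrivial (P ⧸ I) := Ideal.Quotient.nontrivial_iff.2 fun h => by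
    rw [Ideal.span_singleton_eq_top, isUnit_iff_constantCoeff, constantCoeff_X] at h
    exact not_isUnit_zero h
  haveI : IsLocalRing (P ⧸ I) :=
    IsLocalRing.of_surjective' (Ideal.Quotient.mk _) Ideal.Quotient.mk_surjective
  haveI : IsLocalHom (Ideal.Quotient.mk I : P →+* _) :=
    IsLocalHom.of_surjective _ Ideal.Quotient.mk_surjective
  have h0 : Ideal.Quotient.mk I (X 1) = 0 :=
    Ideal.Quotient.eq_zero_iff_mem.2 (Ideal.mem_span_singleton_self _)
  have : ((Ideal.Quotient.mkₐ k I).comp xm).comp res = Ideal.Quotient.mkₐ k I := by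
    refine ArSingLib.mv_hom_ext (maximalIdeal _) (fun i => ?_) (fun i => ?_)
    · fin_cases i
      · simp [res_X_zero, xm_X]
      · simp [res_X_one, h0]
    · fin_cases i
      · simp only [AlgHom.comp_apply, Fin.zero_eta, res_X_zero, xm_X, Ideal.Quotient.mkₐ_eq_mk]
        exact map_nonunit _ _ (PlanePS.mem_max_iff.2 (constantCoeff_X _))
      · simp [res_X_one]
  have h := DFunLike.congr_fun this G
  simp only [AlgHom.comp_apply, Ideal.Quotient.mkₐ_eq_mk] at h
  obtain ⟨H, hH⟩ := Ideal.mem_span_singleton.1 (Ideal.Quotient.eq.1 h.symm)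
  exact ⟨H, by rw [← hH]; ring⟩

theorem pderiv_xm (c : PowerSeries k) : pderiv k 1 (xm c) = 0 := by
  refine ArSingLib.eq_of_forall_mem (maximalIdeal P) fun n => ?_
  rw [sub_zero]
  induction n generalizing c with
  | zero => simp
  | succ n ih =>
    have hC : (PowerSeries.C (PowerSeries.constantCoeff c) : PowerSeries k) =
        algebraMap k (PowerSeries k) (PowerSeries.constantCoeff c) := by
      simp [PowerSeries.algebraMap_apply]
    rw [PowerSeries.eq_X_mul_shift_add_const c, hC, map_add, map_mul, xm_X, AlgHom.commutes,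
      map_add, Derivation.map_algebraMap, add_zero, Derivation.leibniz,
      pderiv_X_of_ne (by decide), smul_zero, add_zero, smul_eq_mul, pow_succ']
    exact Ideal.mul_mem_mul (PlanePS.mem_max_iff.2 (constantCoeff_X _)) (ih _)

theorem xm_fixed (φ : P ≃ₐ[k] P) (h : φ (X 0) = X 0) (c : PowerSeries k) : φ (xm c) = xm c := by
  have : φ.toAlgHom.comp xm = xm := ArSingLib.ps_hom_ext (maximalIdeal P) (by simp [xm_X, h])
    (by
      simp only [AlgHom.comp_apply, xm_X]
      exact PlanePS.aut_mem_max φ (PlanePS.mem_max_iff.2 (constantCoeff_X _)))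
  exact DFunLike.congr_fun this c

theorem normal_form [IsAlgClosed k] (h2 : (2 : k) ≠ 0) (A B D : P) (hD : IsUnit D) :
    ∃ φ : P ≃ₐ[k] P,
      Associated (φ (X 1 ^ 2)) (X 0 ^ 2 * A + X 0 * X 1 * B + X 1 ^ 2 * D) ∨
      ∃ n : ℕ, Associated (φ (ArSing.eqn k n)) (X 0 ^ 2 * A + X 0 * X 1 * B + X 1 ^ 2 * D) := by
  set F := X 0 ^ 2 * A + X 0 * X 1 * B + X 1 ^ 2 * D with hFdef
  set Z := pderiv k 1 F with hZ
  have hD0 : constantCoeff D ≠ 0 := isUnit_iff_ne_zero.1 (isUnit_iff_constantCoeff.1 hD)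
  obtain ⟨L, hL, hLZ⟩ : ∃ L : P, IsUnit L ∧ ∃ M, Z = X 0 * M + X 1 * L := by
    refine ⟨2 * D + X 1 * pderiv k 1 D, isUnit_iff_constantCoeff.2 ?_,
      X 0 * pderiv k 1 A + B + X 1 * pderiv k 1 B, ?_⟩
    · simpa [isUnit_iff_ne_zero, map_ofNat] using mul_ne_zero h2 hD0
    · rw [hZ, hFdef]
      simp [sq, Derivation.leibniz, pderiv_X]
      ring
  obtain ⟨M, hM⟩ := hLZ
  have hgen : maximalIdeal P = Ideal.span {(X 0 : P), Z} := by
    rw [PlanePS.max_eq]
    refine le_antisymm (Ideal.span_le.2 ?_) (Ideal.span_le.2 ?_)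
    · obtain ⟨v, hv⟩ := hL.exists_left_inv
      rintro z (rfl | rfl)
      · exact Ideal.subset_span (Or.inl rfl)
      · exact Ideal.mem_span_pair.2 ⟨-(v * M), v, by linear_combination v * hM + X 1 * hv⟩
    · rintro z (rfl | rfl)
      · exact Ideal.subset_span (Or.inl rfl)
      · exact Ideal.mem_span_pair.2 ⟨M, L, by rw [hM]; ring⟩
  obtain ⟨φ, hφ0, hφ1⟩ := PlanePS.exists_aut (X 0) Z hgen
  set G := φ.symm F with hGdef
  obtain ⟨H, hH⟩ := exists_decomp G
  obtain ⟨A', hA'⟩ := exists_decomp H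
  set c := res G
  set e := res H
  have hF' : F = xm c + Z * xm e + Z ^ 2 * φ A' := by
    have : φ G = F := φ.apply_symm_apply F
    rw [← this, hH, hA']
    simp only [map_add, map_mul, hφ1, xm_fixed φ hφ0]
    ring
  set W := pderiv k 1 Z
  have hd : Z = W * xm e + Z * (2 * W * φ A' + Z * pderiv k 1 (φ A')) := by
    conv_lhs => rw [hZ, hF']
    simp [Derivation.leibniz, pderiv_xm, sq, W]
    ring
  have hW : IsUnit W := by
    refine isUnit_iff_constantCoeff.2 ?_
    have hM' : W = X 0 * pderiv k 1 M + L + X 1 * pderiv k 1 L := by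
      simp only [W, hM]
      simp [Derivation.leibniz, pderiv_X]
      ring
    rw [hM']
    simpa using isUnit_iff_constantCoeff.1 hL
  have he : e = 0 := by
    obtain ⟨v, hv⟩ := hW.exists_left_inv
    obtain ⟨q, hq⟩ : ∃ q, xm e = Z * q :=
      ⟨v * (1 - (2 * W * φ A' + Z * pderiv k 1 (φ A'))), by
        linear_combination (-v) * hd - (xm e) * hv⟩
    have := congrArg φ.symm hq
    rw [map_mul, ← hφ1, φ.symm_apply_apply,
      show φ.symm (xm e) = xm e from by
        conv_lhs => rw [← xm_fixed φ hφ0 e, φ.symm_apply_apply]] at this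
    have := congrArg res this
    rwa [res_xm, map_mul, res_X_one, zero_mul] at this
  have hZ0 : Z ≠ 0 := fun h0 => by
    have h1 := congrArg φ.symm h0
    rw [← hφ1, φ.symm_apply_apply, map_zero] at h1
    exact PlanePS.X_notMem_sq (k := k) 1 (by rw [h1]; exact zero_mem _)
  have hA'u : IsUnit A' := by
    suffices h : IsUnit (φ A') by simpa using h.map φ.symm
    refine isUnit_iff_constantCoeff.2 (isUnit_iff_ne_zero.2 fun h0 => ?_)
    rw [he, map_zero, mul_zero, zero_add] at hd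
    have h1 : (1 : P) = 2 * W * φ A' + Z * pderiv k 1 (φ A') :=
      mul_left_cancel₀ hZ0 ((mul_one Z).trans hd)
    have h2' := congrArg constantCoeff h1
    have hZc : constantCoeff Z = 0 := PlanePS.mem_max_iff.1 (hgen ▸ Ideal.subset_span (Or.inr rfl))
    have h0' : constantCoeff (φ A') = 0 := h0
    simp [hZc, h0'] at h2'
  have hG : G = xm c + X 1 ^ 2 * A' := by
    rw [hH, hA', he, map_zero]; ring
  have hassoc : ∀ T : P, Associated T G → Associated (φ T) F := fun T hT => by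
    have := hT.map φ
    rwa [φ.apply_symm_apply] at this
  by_cases hc : c = 0
  · refine ⟨φ, Or.inl (hassoc _ ?_)⟩
    rw [hG, hc, map_zero, zero_add]
    exact ⟨hA'u.unit, rfl⟩
  obtain ⟨m, u, hu, hcu⟩ : ∃ (m : ℕ) (u : PowerSeries k), IsUnit u ∧ c = PowerSeries.X ^ m * u :=
    ⟨c.order.toNat, PowerSeries.divXPowOrder c,
      PowerSeries.isUnit_iff_constantCoeff.2
        (isUnit_iff_ne_zero.2 fun h => hc (PowerSeries.constantCoeff_divXPowOrder_eq_zero_iff.1 h)),
      (PowerSeries.X_pow_order_mul_divXPowOrder).symm⟩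
  obtain ⟨U, hU⟩ := hu.map xm
  obtain ⟨w, hw, hw2⟩ := exists_sqrt h2 (E := -(A' * ↑U⁻¹)) (hA'u.mul U⁻¹.isUnit).neg
  have hm : 1 ≤ m := by
    by_contra hm
    have hGm : G ∈ maximalIdeal P := PlanePS.aut_mem_max φ.symm (by
      rw [hFdef]
      exact PlanePS.mem_max_iff.2 (by simp))
    have hres : constantCoeff G = 0 := PlanePS.mem_max_iff.1 hGm
    rw [hG, hcu, show m = 0 by omega, pow_zero, one_mul, ← hU] at hres
    simp only [map_add, map_mul, map_pow, constantCoeff_X, zero_pow two_ne_zero, zero_mul,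
      add_zero] at hres
    exact isUnit_iff_ne_zero.1 (isUnit_iff_constantCoeff.1 U.isUnit) hres
  have hgen2 : maximalIdeal P = Ideal.span {(X 0 : P), w * X 1} := by
    rw [PlanePS.max_eq]
    refine le_antisymm (Ideal.span_le.2 ?_) (Ideal.span_le.2 ?_)
    · obtain ⟨v, hv⟩ := hw.exists_left_inv
      rintro z (rfl | rfl)
      · exact Ideal.subset_span (Or.inl rfl)
      · exact Ideal.mem_span_pair.2 ⟨0, v, by linear_combination X 1 * hv⟩
    · rintro z (rfl | rfl)
      · exact Ideal.subset_span (Or.inl rfl)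
      · exact Ideal.mem_span_pair.2 ⟨0, w, by ring⟩
  obtain ⟨ψ, hψ0, hψ1⟩ := PlanePS.exists_aut (X 0) (w * X 1) hgen2
  refine ⟨ψ.trans φ, Or.inr ⟨m - 1, hassoc (ψ (ArSing.eqn k (m - 1))) ⟨-U, ?_⟩⟩⟩
  have hmm : m - 1 + 1 = m := by omega
  rw [hG, hcu, map_mul, map_pow, xm_X, ← hU, ArSing.eqn, hmm, map_sub, map_pow, map_pow, hψ0, hψ1,
    mul_pow, hw2, Units.val_neg]
  linear_combination (A' * X 1 ^ 2) * U.inv_mul

theorem asing_iff [IsAlgClosed k] (h2 : (2 : k) ≠ 0) {F : P} (hF : F ∈ maximalIdeal P) :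
    ((∀ i, constantCoeff (pderiv k i F) = 0) ∧
      ∀ i j, constantCoeff (pderiv k i (pderiv k j F)) = 0) ↔
    ¬ ((∃ n : ℕ, Nonempty ((P ⧸ Ideal.span ({F} : Set P)) ≃ₐ[k] ArSing.ring k n)) ∨
        Nonempty ((P ⧸ Ideal.span ({F} : Set P)) ≃ₐ[k]
          (P ⧸ Ideal.span ({X 1 ^ 2} : Set P)))) := by
  constructor
  · rintro ⟨h1, hH⟩ hor
    have hsq : F ∈ maximalIdeal P ^ 2 := (PlanePS.mem_sq_iff hF).2 h1
    have key : ∀ G : P, G ∈ maximalIdeal P →
        constantCoeff (pderiv k 1 (pderiv k 1 G)) = 2 →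
        Nonempty ((P ⧸ Ideal.span ({F} : Set P)) ≃ₐ[k] (P ⧸ Ideal.span ({G} : Set P))) → False := by
      rintro G hG hd ⟨e⟩
      obtain ⟨φ, hφ⟩ := PlanePS.exists_aut_of_equiv hsq hG e.symm
      have hcube : G ∈ maximalIdeal P ^ 3 := by
        obtain ⟨v, hv⟩ := hφ.symm.map φ.symm
        rw [φ.symm_apply_apply] at hv
        rw [← hv]
        exact Ideal.mul_mem_right _ _ (aut_mem_pow φ.symm 3 ((mem_cube_iff h2 hsq).2 hH))
      have hG2 : G ∈ maximalIdeal P ^ 2 := Ideal.pow_le_pow_right (by omega) hcube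
      exact h2 (hd.symm.trans ((mem_cube_iff h2 hG2).1 hcube 1 1))
    rcases hor with ⟨n, hn⟩ | hn
    · refine key (ArSing.eqn k n) (PlanePS.mem_max_iff.2 ArSingLib.constantCoeff_eqn) ?_ hn
      simp [ArSing.eqn, sq, Derivation.leibniz, pderiv_pow, pderiv_X]
      norm_num
    · refine key (X 1 ^ 2) (PlanePS.mem_max_iff.2 (by simp)) ?_ hn
      simp [sq, Derivation.leibniz, pderiv_X]
      norm_num
  · intro hnot
    by_contra hcon
    apply hnot
    by_cases hsq : F ∈ maximalIdeal P ^ 2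
    · have h1 := (PlanePS.mem_sq_iff hF).1 hsq
      have hH : ¬ F ∈ maximalIdeal P ^ 3 := fun h => hcon ⟨h1, (mem_cube_iff h2 hsq).1 h⟩
      obtain ⟨ψ, A, B, D, hD, hψ⟩ : ∃ (ψ : P ≃ₐ[k] P) (A B D : P), IsUnit D ∧
          ψ F = X 0 ^ 2 * A + X 0 * X 1 * B + X 1 ^ 2 * D := by
        obtain ⟨A, B, D, rfl⟩ := two_jet hsq
        have hm : ∀ i, (X i : P) ∈ maximalIdeal P := fun i =>
          PlanePS.mem_max_iff.2 (constantCoeff_X i)
        by_cases hD : IsUnit D
        · exact ⟨AlgEquiv.refl, A, B, D, hD, rfl⟩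
        by_cases hA : IsUnit A
        · obtain ⟨ψ, h0, h1'⟩ := PlanePS.exists_aut (X 1 : P) (X 0)
            (by rw [PlanePS.max_eq, Set.pair_comm])
          exact ⟨ψ, ψ D, ψ B, ψ A, hA.map ψ, by simp [h0, h1']; ring⟩
        · have hB : IsUnit B := by
            by_contra hB
            apply hH
            rw [pow_succ]
            exact add_mem (add_mem (Ideal.mul_mem_mul (Ideal.pow_mem_pow (hm 0) 2) hA)
              (Ideal.mul_mem_mul (by rw [sq]; exact Ideal.mul_mem_mul (hm 0) (hm 1)) hB))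
              (Ideal.mul_mem_mul (Ideal.pow_mem_pow (hm 1) 2) hD)
          obtain ⟨ψ, h0, h1'⟩ := PlanePS.exists_aut (X 0 + X 1 : P) (X 1) (by
            rw [PlanePS.max_eq]
            refine le_antisymm (Ideal.span_le.2 ?_) (Ideal.span_le.2 ?_)
            · rintro z (rfl | rfl)
              · exact Ideal.mem_span_pair.2 ⟨1, -1, by ring⟩
              · exact Ideal.subset_span (Or.inr rfl)
            · rintro z (rfl | rfl)
              · exact Ideal.mem_span_pair.2 ⟨1, 1, by ring⟩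
              · exact Ideal.subset_span (Or.inr rfl))
          refine ⟨ψ, ψ A, 2 * ψ A + ψ B, ψ A + ψ B + ψ D, ?_, by simp [h0, h1']; ring⟩
          rw [isUnit_iff_constantCoeff, map_add, map_add]
          have hA0 : constantCoeff (ψ A) = 0 := PlanePS.mem_max_iff.1 (PlanePS.aut_mem_max ψ hA)
          have hD0 : constantCoeff (ψ D) = 0 := PlanePS.mem_max_iff.1 (PlanePS.aut_mem_max ψ hD)
          rw [hA0, hD0, zero_add, add_zero, ← isUnit_iff_constantCoeff]
          exact hB.map ψ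
      obtain ⟨φ, hφ⟩ := normal_form h2 A B D hD
      rw [← hψ] at hφ
      have hback : ∀ G, Associated (φ G) (ψ F) → Associated ((φ.trans ψ.symm) G) F := fun G h => by
        have := h.map ψ.symm
        rwa [ψ.symm_apply_apply] at this
      rcases hφ with h | ⟨n, h⟩
      · exact Or.inr (PlanePS.nonempty_quot_equiv _ (hback _ h))
      · exact Or.inl ⟨n, PlanePS.nonempty_quot_equiv _ (hback _ h)⟩
    · obtain ⟨φ, hφ⟩ := PlanePS.exists_aut_fst F hF hsq
      obtain ⟨χ, hχ⟩ := PlanePS.exists_aut_fst (ArSing.eqn k 0)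
        (PlanePS.mem_max_iff.2 ArSingLib.constantCoeff_eqn) (fun h => by
          have h' := PlanePS.mem_max_iff.1 (PlanePS.pderiv_mem_max_of_mem_sq h 0)
          simp [ArSing.eqn, sq, Derivation.leibniz, pderiv_X] at h')
      refine Or.inl ⟨0, PlanePS.nonempty_quot_equiv (χ.symm.trans φ) ?_⟩
      rw [AlgEquiv.trans_apply, ← hχ, χ.symm_apply_apply, hφ]

end Groth.Agent.SGA7X.PlaneASing
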