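import Mathlib.RingTheory.MvPowerSeries.Derivative
import Mathlib.RingTheory.MvPowerSeries.Substitution
import Mathlib.RingTheory.MvPowerSeries.Inverse
import Mathlib.RingTheory.MvPolynomial.Homogeneous
import Mathlib.Data.Finsupp.Weight
import Mathlib.RingTheory.LocalRing.MaximalIdeal.Basic

/-!
# The formal Morse lemma
-/

universe u

open MvPowerSeries Finset

namespace Groth.Agent.SGA7X.Morse

variable {k : Type u} [Field k] {n : ℕ}

local notation "P" => MvPowerSeries (Fin n) k

/-- Power series without terms in degree less than `d`. -/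
def lowI (d : ℕ) : Ideal P where
  carrier := {h | ∀ m : Fin n →₀ ℕ, m.degree < d → coeff m h = 0}
  add_mem' ha hb m hm := by rw [map_add, ha m hm, hb m hm, add_zero]
  zero_mem' m _ := map_zero _
  smul_mem' c h hh m hm := by
    classical
    rw [smul_eq_mul, coeff_mul]
    refine Finset.sum_eq_zero fun p hp => ?_
    rw [mem_antidiagonal] at hp
    have : p.2.degree ≤ m.degree := by
      rw [← hp, map_add]; exact Nat.le_add_left _ _
    rw [hh p.2 (by omega), mul_zero]

lemma mem_lowI {d : ℕ} {h : P} :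
    h ∈ lowI d ↔ ∀ m : Fin n →₀ ℕ, m.degree < d → coeff m h = 0 := Iff.rfl

lemma lowI_anti {a b : ℕ} (hab : a ≤ b) : lowI (k := k) (n := n) b ≤ lowI a :=
  fun _ hh m hm => hh m (by omega)

lemma mul_mem_lowI {a b : ℕ} {f g : P} (hf : f ∈ lowI a) (hg : g ∈ lowI b) :
    f * g ∈ lowI (a + b) := by
  classical
  intro m hm
  rw [coeff_mul]
  refine Finset.sum_eq_zero fun p hp => ?_
  rw [mem_antidiagonal] at hp
  have h : p.1.degree + p.2.degree = m.degree := by rw [← map_add, hp]
  by_cases h1 : p.1.degree < a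
  · rw [hf _ h1, zero_mul]
  · rw [hg _ (by omega), mul_zero]

lemma X_mem_lowI (j : Fin n) : (X j : P) ∈ lowI 1 := by
  classical
  intro m hm
  have hm0 : m.degree = 0 := by omega
  rw [coeff_X, if_neg]
  intro h
  rw [h, Finsupp.degree_single] at hm0
  omega

lemma eq_of_forall_lowI {f g : P} (h : ∀ d, f - g ∈ lowI d) : f = g := by
  ext m
  have := h (m.degree + 1) m (by omega)
  rwa [map_sub, sub_eq_zero] at this

/-- Division by `X j` of the monomials whose first variable is `X j`. -/
noncomputable def dv (j : Fin n) (h : P) : P :=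
  fun m => if ∀ i < j, m i = 0 then coeff (m + Finsupp.single j 1) h else 0

lemma coeff_dv (j : Fin n) (h : P) (m : Fin n →₀ ℕ) :
    coeff m (dv j h) = if ∀ i < j, m i = 0 then coeff (m + Finsupp.single j 1) h else 0 := rfl

lemma dv_sub (j : Fin n) (g h : P) : dv j (g - h) = dv j g - dv j h := by
  ext m
  rw [map_sub]
  simp only [coeff_dv]
  split_ifs <;> simp

lemma dv_mem_lowI (j : Fin n) {d : ℕ} {h : P} (hh : h ∈ lowI (d + 1)) : dv j h ∈ lowI d := by
  intro m hm
  rw [coeff_dv]
  split_ifs
  · exact hh _ (by rw [map_add, Finsupp.degree_single]; omega)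
  · rfl

lemma sum_X_mul_dv {h : P} (h0 : h ∈ lowI 1) : ∑ j, X j * dv j h = h := by
  classical
  ext m
  rw [map_sum]
  simp only [X, coeff_monomial_mul, one_mul]
  by_cases hm : m = 0
  · subst hm
    rw [h0 0 (by simp)]
    refine Finset.sum_eq_zero fun j _ => if_neg ?_
    rw [Finsupp.single_le_iff]; simp
  · have hne : m.support.Nonempty := Finsupp.support_nonempty_iff.mpr hm
    set j₀ := m.support.min' hne with hj₀
    have hj₀' : m j₀ ≠ 0 := Finsupp.mem_support_iff.mp (Finset.min'_mem _ hne)
    have hle : Finsupp.single j₀ 1 ≤ m := Finsupp.single_le_iff.mpr (Nat.one_le_iff_ne_zero.mpr hj₀')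
    rw [Finset.sum_eq_single j₀, if_pos hle, coeff_dv, if_pos, tsub_add_cancel_of_le hle]
    · intro i hi
      have : m i = 0 := by
        by_contra hne'
        exact absurd (Finset.min'_le _ i (Finsupp.mem_support_iff.mpr hne')) (not_le.mpr hi)
      simp [this, Finsupp.single_eq_of_ne hi.ne]
    · intro j _ hj
      split_ifs with hle'
      · rw [coeff_dv, if_neg]
        intro hall
        rw [Finsupp.single_le_iff] at hle'
        have hjsupp : j ∈ m.support := Finsupp.mem_support_iff.mpr (by omega)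
        have hlt : j₀ < j := lt_of_le_of_ne (Finset.min'_le _ _ hjsupp) (Ne.symm hj)
        have := hall j₀ hlt
        rw [Finsupp.tsub_apply, Finsupp.single_eq_of_ne hlt.ne, tsub_zero] at this
        exact hj₀' this
      · rfl
    · simp

lemma sub_C_mem_lowI (h : P) : h - C (constantCoeff h) ∈ lowI 1 := by
  intro m hm
  have hm0 : m = 0 := (Finsupp.degree_eq_zero_iff m).mp (by omega)
  subst hm0
  simp

theorem formal_morse (f : P) (hf0 : constantCoeff f = 0)
    (hJ : Ideal.span (Set.range fun i : Fin n => pderiv k i f) = IsLocalRing.maximalIdeal P) :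
    ∃ (ε : Fin n → P) (_ : ∀ i (m : Fin n →₀ ℕ), m.degree < 2 → coeff m (ε i) = 0)
      (q : MvPolynomial (Fin n) k) (_ : q.IsHomogeneous 2)
      (_ : HasSubst (fun i : Fin n => X i + ε i)),
      f = subst (fun i : Fin n => X i + ε i) (q : P) := by
  classical
  have hf1 : f ∈ lowI 1 := fun m hm => by
    have hm0 : m = 0 := (Finsupp.degree_eq_zero_iff m).mp (by omega)
    subst hm0; simpa using hf0
  have hpd : ∀ i, constantCoeff (pderiv k i f) = 0 := fun i => by
    have h : pderiv k i f ∈ IsLocalRing.maximalIdeal P := hJ ▸ Ideal.subset_span ⟨i, rfl⟩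
    by_contra hne
    exact h (isUnit_iff_constantCoeff.mpr (isUnit_iff_ne_zero.mpr hne))
  -- vanishing of the linear part
  have hf2 : f ∈ lowI 2 := by
    intro m hm
    by_cases hm1 : m.degree < 1
    · exact hf1 m hm1
    obtain ⟨i, rfl⟩ : ∃ i, m = Finsupp.single i 1 := by
      obtain ⟨i, hi⟩ := Finsupp.support_nonempty_iff.mpr
        (show m ≠ 0 from fun h => hm1 (by simp [h]))
      refine ⟨i, ?_⟩
      have hle : Finsupp.single i 1 ≤ m :=
        Finsupp.single_le_iff.mpr (Nat.one_le_iff_ne_zero.mpr (Finsupp.mem_support_iff.mp hi))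
      have h := congrArg Finsupp.degree (tsub_add_cancel_of_le hle)
      rw [map_add, Finsupp.degree_single] at h
      have h0 : m - Finsupp.single i 1 = 0 := (Finsupp.degree_eq_zero_iff _).mp (by omega)
      rw [← tsub_add_cancel_of_le hle, h0, zero_add]
    have := hpd i
    rwa [← coeff_zero_eq_constantCoeff_apply, coeff_pderiv, zero_add, Finsupp.zero_apply,
      Nat.cast_zero, zero_add, mul_one] at this
  let h : Fin n → Fin n → P := fun a b => dv b (dv a f)
  let c : Fin n → Fin n → k := fun a b => constantCoeff (h a b)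
  have hfh : f = ∑ a, ∑ b, X a * X b * h a b := by
    conv_lhs => rw [← sum_X_mul_dv hf1]
    refine Finset.sum_congr rfl fun a _ => ?_
    conv_lhs => rw [← sum_X_mul_dv (dv_mem_lowI a hf2)]
    rw [Finset.mul_sum]
    exact Finset.sum_congr rfl fun b _ => (mul_assoc _ _ _).symm
  let q : (Fin n → P) → P := fun y => ∑ a, ∑ b, C (c a b) * y a * y b
  let g : P := f - q X
  have hg : g ∈ lowI 3 := by
    simp only [g, q, hfh, ← Finset.sum_sub_distrib]
    refine Ideal.sum_mem _ fun a _ => Ideal.sum_mem _ fun b _ => ?_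
    have e : X a * X b * h a b - C (c a b) * X a * X b = X a * X b * (h a b - C (c a b)) := by ring
    rw [e]
    exact mul_mem_lowI (mul_mem_lowI (X_mem_lowI a) (X_mem_lowI b)) (sub_C_mem_lowI _)
  let l : Fin n → P := fun i => ∑ j, C (c i j + c j i) * X j
  have hl : ∀ i, pderiv k i f - l i ∈ lowI 2 := by
    intro i
    have hd : pderiv k i f = (∑ b, X b * h i b) + (∑ a, X a * h a i) +
        ∑ a, ∑ b, X a * X b * pderiv k i (h a b) := by
      conv_lhs => rw [hfh]
      simp only [map_sum, Derivation.leibniz, smul_eq_mul, pderiv_X, Pi.single_apply]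
      simp only [mul_ite, mul_one, mul_zero, add_mul, mul_add, ite_mul, zero_mul,
        Finset.sum_add_distrib, Finset.sum_ite_irrel,
        Finset.sum_ite_eq', Finset.sum_const_zero, Finset.mem_univ, if_true, mul_comm (h _ _)]
      abel
    rw [hd]
    have e : l i = (∑ b, X b * C (c i b)) + ∑ a, X a * C (c a i) := by
      simp only [l, ← Finset.sum_add_distrib, map_add]
      exact Finset.sum_congr rfl fun j _ => by ring
    rw [e, show ∀ a b cc d' e' : P, a + b + cc - (d' + e') = (a - d') + (b - e') + cc by intros; abel,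
      ← Finset.sum_sub_distrib, ← Finset.sum_sub_distrib]
    refine Ideal.add_mem _ (Ideal.add_mem _ (Ideal.sum_mem _ fun j _ => ?_)
      (Ideal.sum_mem _ fun j _ => ?_))
      (Ideal.sum_mem _ fun a _ => Ideal.sum_mem _ fun b _ =>
        Ideal.mul_mem_right _ _ (mul_mem_lowI (X_mem_lowI a) (X_mem_lowI b)))
    all_goals
      rw [← mul_sub]
      exact mul_mem_lowI (X_mem_lowI j) (sub_C_mem_lowI _)
  -- invertibility of the polar form
  have hK : ∀ j, ∃ K : Fin n → k, X j = ∑ i, C (K i) * l i := by
    intro j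
    have hmem : (X j : P) ∈ IsLocalRing.maximalIdeal P := by
      intro hu
      simpa using isUnit_iff_constantCoeff.mp hu
    rw [← hJ, Ideal.mem_span_range_iff_exists_fun] at hmem
    obtain ⟨r, hr⟩ := hmem
    refine ⟨fun i => constantCoeff (r i), ?_⟩
    have hdiff : (X j : P) - ∑ i, C (constantCoeff (r i)) * l i ∈ lowI 2 := by
      rw [← hr, ← Finset.sum_sub_distrib]
      refine Ideal.sum_mem _ fun i _ => ?_
      have e : r i * pderiv k i f - C (constantCoeff (r i)) * l i =
          r i * (pderiv k i f - l i) + (r i - C (constantCoeff (r i))) * l i := by ring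
      rw [e]
      exact Ideal.add_mem _ (Ideal.mul_mem_left _ _ (hl i)) (mul_mem_lowI (sub_C_mem_lowI _)
        (Ideal.sum_mem _ fun b _ => Ideal.mul_mem_left _ _ (X_mem_lowI b)))
    ext m
    by_cases hm : m.degree < 2
    · have := hdiff m hm
      rwa [map_sub, sub_eq_zero] at this
    · simp only [l, map_sum, Finset.mul_sum, ← mul_assoc, ← map_mul, coeff_C_mul, coeff_X]
      have hne : ∀ b, m ≠ Finsupp.single b 1 := fun b hb => hm (by rw [hb, Finsupp.degree_single]; omega)
      simp [hne]
  choose K hK using hK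
  let D : P → Fin n → P := fun x i => ∑ j, C (K j i) * dv j x
  have hD : ∀ x : P, x ∈ lowI 1 → ∑ i, l i * D x i = x := by
    intro x hx
    conv_rhs => rw [← sum_X_mul_dv hx]
    simp only [D, Finset.mul_sum]
    rw [Finset.sum_comm]
    refine Finset.sum_congr rfl fun j _ => ?_
    conv_rhs => rw [hK j, Finset.sum_mul]
    exact Finset.sum_congr rfl fun i _ => by ring
  have hD_sub : ∀ x y i, D (x - y) i = D x i - D y i := fun x y i => by
    simp only [D, dv_sub, mul_sub, Finset.sum_sub_distrib]
  have hD_low : ∀ x i d, x ∈ lowI (d + 1) → D x i ∈ lowI d := fun x i d hx =>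
    Ideal.sum_mem _ fun j _ => Ideal.mul_mem_left _ _ (dv_mem_lowI j hx)
  have hq_low : ∀ y : Fin n → P, (∀ i, y i ∈ lowI 2) → q y ∈ lowI 4 := fun y hy =>
    Ideal.sum_mem _ fun a _ => Ideal.sum_mem _ fun b _ => by
      rw [mul_assoc]
      exact Ideal.mul_mem_left _ _ (mul_mem_lowI (hy a) (hy b))
  let Φ : (Fin n → P) → Fin n → P := fun e i => D (g - q e) i
  have hΦ2 : ∀ e, (∀ i, e i ∈ lowI 2) → ∀ i, Φ e i ∈ lowI 2 := fun e he i =>
    hD_low _ _ 2 (Ideal.sub_mem _ hg (lowI_anti (by omega) (hq_low e he)))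
  have hΦc : ∀ e e', (∀ i, e i ∈ lowI 2) → (∀ i, e' i ∈ lowI 2) → ∀ d, (∀ i, e i - e' i ∈ lowI d) →
      ∀ i, Φ e i - Φ e' i ∈ lowI (d + 1) := by
    intro e e' he he' d hd i
    simp only [Φ]
    rw [← hD_sub, show g - q e - (g - q e') = q e' - q e by abel]
    refine hD_low _ _ _ ?_
    simp only [q, ← Finset.sum_sub_distrib]
    refine Ideal.sum_mem _ fun a _ => Ideal.sum_mem _ fun b _ => ?_
    have e1 : C (c a b) * e' a * e' b - C (c a b) * e a * e b =
        C (c a b) * -((e a - e' a) * e b + e' a * (e b - e' b)) := by ring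
    rw [e1]
    refine Ideal.mul_mem_left _ _ (neg_mem (Ideal.add_mem _ ?_ ?_))
    · exact lowI_anti (by omega) (mul_mem_lowI (hd a) (he b))
    · have := mul_mem_lowI (he' a) (hd b)
      exact lowI_anti (by omega) this
  let ap : ℕ → Fin n → P := fun r => Φ^[r] 0
  have hap2 : ∀ r i, ap r i ∈ lowI 2 := by
    intro r
    induction r with
    | zero => exact fun i => Ideal.zero_mem _
    | succ r ih =>
      intro i
      simp only [ap, Function.iterate_succ_apply']
      exact hΦ2 _ ih i
  have hstep : ∀ r i, ap (r + 1) i - ap r i ∈ lowI r := by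
    intro r
    induction r with
    | zero => exact fun i m hm => absurd hm (Nat.not_lt_zero _)
    | succ r ih =>
      intro i
      have := hΦc _ _ (hap2 (r + 1)) (hap2 r) r ih i
      simp only [ap, Function.iterate_succ_apply'] at this ⊢
      exact this
  have hcauchy : ∀ r s i, ap (r + s) i - ap r i ∈ lowI r := by
    intro r s i
    induction s with
    | zero => simp
    | succ s ih =>
      rw [show ap (r + (s + 1)) i - ap r i =
        (ap (r + s + 1) i - ap (r + s) i) + (ap (r + s) i - ap r i) by rw [← add_assoc]; abel]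
      exact Ideal.add_mem _ (lowI_anti (by omega) (hstep (r + s) i)) ih
  let ε : Fin n → P := fun i m => coeff m (ap (m.degree + 1) i)
  have hεap : ∀ r i, ε i - ap r i ∈ lowI r := by
    intro r i m hm
    obtain ⟨s, rfl⟩ : ∃ s, r = m.degree + 1 + s := ⟨r - (m.degree + 1), by omega⟩
    have h1 := hcauchy (m.degree + 1) s i m (by omega)
    rw [map_sub, sub_eq_zero] at h1
    rw [map_sub, h1, sub_eq_zero]
    rfl
  have hε2 : ∀ i, ε i ∈ lowI 2 := fun i => by
    have := Ideal.add_mem _ (hεap 2 i) (hap2 2 i)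
    simpa using this
  have hfix : ∀ i, Φ ε i = ε i := fun i => eq_of_forall_lowI fun r => by
    have h1 : Φ ε i - ap (r + 1) i ∈ lowI r := by
      have := hΦc ε (ap r) hε2 (hap2 r) r (hεap r) i
      simp only [ap, Function.iterate_succ_apply']
      exact lowI_anti (by omega) this
    have h2 := lowI_anti (Nat.le_succ r) (hεap (r + 1) i)
    have := Ideal.sub_mem _ h1 h2
    simpa using this
  have hsum : ∑ i, l i * ε i = g - q ε := by
    conv_lhs => arg 2; ext i; rw [← hfix i]
    exact hD _ (Ideal.sub_mem _ (lowI_anti (by omega) hg) (lowI_anti (by omega) (hq_low ε hε2)))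
  let qp : MvPolynomial (Fin n) k :=
    ∑ a, ∑ b, MvPolynomial.C (c a b) * MvPolynomial.X a * MvPolynomial.X b
  have hsub : HasSubst (fun i : Fin n => X i + ε i) := hasSubst_of_constantCoeff_zero fun i => by
    have h0 : constantCoeff (ε i) = 0 := by
      simpa using hε2 i 0 (by simp)
    simp [h0]
  refine ⟨ε, hε2, qp, MvPolynomial.IsHomogeneous.sum _ _ _ fun a _ =>
    MvPolynomial.IsHomogeneous.sum _ _ _ fun b _ => ?_, hsub, ?_⟩
  · have := ((MvPolynomial.isHomogeneous_C (Fin n) (c a b)).mul (MvPolynomial.isHomogeneous_X k a)).mul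
      (MvPolynomial.isHomogeneous_X k b)
    simpa using this
  · rw [subst_coe]
    simp only [qp, map_sum, map_mul, MvPolynomial.aeval_C, MvPolynomial.aeval_X, ← c_eq_algebraMap]
    have : f = q X + ∑ i, l i * ε i + q ε := by rw [hsum]; simp only [g]; abel
    rw [this]
    simp only [q, l, Finset.sum_mul, map_add, add_mul, Finset.sum_add_distrib]
    rw [Finset.sum_comm (f := fun i j => C (c j i) * X j * ε i)]
    simp only [← Finset.sum_add_distrib]
    exact Finset.sum_congr rfl fun a _ => Finset.sum_congr rfl fun b _ => by ring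

end Groth.Agent.SGA7X.Morse
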