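import Groth.Prelude.Def_SGA7a
import Groth.Prelude.Def_SGA7IX
import Groth.Agent.NeronMdl58.PowEtale
import Mathlib.AlgebraicGeometry.ValuativeCriterion
import Mathlib.RingTheory.Valuation.ValuationSubring
import Mathlib.RingTheory.LocalRing.ResidueField.Basic

/-! Torsion points with values in an inertia-stable valuation ring are fixed by inertia. -/

set_option autoImplicit false
universe u

open CategoryTheory Limits AlgebraicGeometry MonoidalCategory CartesianMonoidalCategory MonObj

namespace Groth.Agent.SGA7X.InertPts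

set_option backward.isDefEq.respectTransparency.types false

/-- Two maps from a local scheme which agree at the closed point and after an etale map agree. -/
theorem eq_of_comp_eq {O : CommRingCat.{u}} [IsLocalRing O] {P G H : Scheme.{u}} (f : G ⟶ H) [Etale f]
    (y z : Spec O ⟶ G) (h : y ≫ f = z ≫ f) (i : P ⟶ Spec O)
    (hi : IsLocalRing.closedPoint O ∈ Set.range i) (hyz : i ≫ y = i ≫ z) : y = z := by
  let e := pullback.lift y z h
  have : IsOpenImmersion (pullback.diagonal f) := inferInstance
  have hr : Set.range e ⊆ Set.range (pullback.diagonal f) := by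
    rintro _ ⟨t, rfl⟩
    obtain ⟨p, hp⟩ := hi
    have he : i ≫ e = (i ≫ y) ≫ pullback.diagonal f := by
      apply pullback.hom_ext <;> simp [e, pullback.lift_fst, pullback.lift_snd, hyz]
    refine ((IsLocalRing.specializes_closedPoint t).map e.continuous).mem_open
      (pullback.diagonal f).isOpenEmbedding.isOpen_range ⟨(i ≫ y) p, ?_⟩
    rw [← Scheme.Hom.comp_apply, ← he, Scheme.Hom.comp_apply, hp]
  have hl := IsOpenImmersion.lift_fac (pullback.diagonal f) e hr
  have h1 := congrArg (fun m => m ≫ pullback.fst f f) hl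
  have h2 := congrArg (fun m => m ≫ pullback.snd f f) hl
  simp only [Category.assoc, pullback.diagonal_fst, pullback.diagonal_snd, Category.comp_id, e,
    pullback.lift_fst, pullback.lift_snd] at h1 h2
  exact h1.symm.trans h2

variable {R K Ω : Type u} [CommRing R] [IsLocalRing R] [Field K] [Algebra R K] [Field Ω] [Algebra K Ω]
  {W : ValuationSubring Ω}

/-- The structure map of a valuation subring over `R`. -/
def toW (hW : SGA7.LiesOver K R W) : R →+* W :=
  ((algebraMap K Ω).comp (algebraMap R K)).codRestrict W hW.1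

/-- The restriction of an inertia element. -/
def restr {σ : Ω ≃ₐ[K] Ω} (hσ : SGA7.IsInertia W σ) : W →+* W :=
  ((σ : Ω →+* Ω).comp W.subtype).codRestrict W fun x => (hσ x.1 x.2).1

theorem residue_restr {σ : Ω ≃ₐ[K] Ω} (hσ : SGA7.IsInertia W σ) :
    (IsLocalRing.residue W).comp (restr hσ) = IsLocalRing.residue W := by
  ext x
  show IsLocalRing.residue W (restr hσ x) = IsLocalRing.residue W x
  rw [← sub_eq_zero, ← map_sub, IsLocalRing.residue_eq_zero_iff]
  exact (W.valuation_lt_one_iff _).2 (hσ x.1 x.2).2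

theorem restr_toW (hW : SGA7.LiesOver K R W) {σ : Ω ≃ₐ[K] Ω} (hσ : SGA7.IsInertia W σ) :
    (restr hσ).comp (toW hW) = toW hW :=
  RingHom.ext fun r => Subtype.ext (σ.commutes (algebraMap R K r))

theorem isUnit_natCast {n : ℕ} (hn : (n : IsLocalRing.ResidueField R) ≠ 0) : IsUnit (n : R) := by
  by_contra h
  apply hn
  rw [← map_natCast (IsLocalRing.residue R)]
  exact (IsLocalRing.residue_eq_zero_iff _).2 h

/-- A torsion point extending to `W` is fixed by the inertia group. -/
theorem galAct_eq (hW : SGA7.LiesOver K R W) (N : Over (Spec (CommRingCat.of R))) [GrpObj N] [IsCommMonObj N]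
    [Smooth N.hom] [QuasiCompact N.hom] [IsSeparated N.hom] {n : ℕ} (hn : (n : IsLocalRing.ResidueField R) ≠ 0)
    (x : SGA7.Pts Ω ((SGA7.genFib R K).obj N)) (hx : x ^ n = 1)
    (y : Spec (CommRingCat.of W) ⟶ N.left) (hy : y ≫ N.hom = Spec.map (CommRingCat.ofHom (toW hW)))
    (hxy : x.left ≫ pullback.fst N.hom (Spec.map (CommRingCat.ofHom (algebraMap R K))) =
      Spec.map (CommRingCat.ofHom W.subtype) ≫ y)
    {σ : Ω ≃ₐ[K] Ω} (hσ : SGA7.IsInertia W σ) : SGA7.galAct σ x = x := by
  let g := Spec.map (CommRingCat.ofHom (algebraMap R K))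
  let f : N ⟶ N := (𝟙 N) ^ n
  have hu : IsUnit (n : Γ(Spec (CommRingCat.of R), ⊤)) := by
    have := (isUnit_natCast hn).map (Scheme.ΓSpecIso (CommRingCat.of R)).inv.hom
    rwa [map_natCast] at this
  have : Etale f.left := NeronMdl58.etale_pow_of_smooth N n hu
  -- `y` is torsion
  let inc := Spec.map (CommRingCat.ofHom W.subtype)
  have : IsDominant inc := ⟨(PrimeSpectrum.denseRange_comap_iff_ker_le_nilRadical _).2 (by
    rw [(RingHom.injective_iff_ker_eq_bot _).1 (Subtype.val_injective : Function.Injective W.subtype)]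
    exact bot_le)⟩
  have key : ∀ a : N ⟶ N,
      (x.left ≫ pullback.fst N.hom g) ≫ a.left = (x ≫ (SGA7.genFib R K).map a).left ≫ pullback.fst N.hom g := by
    intro a
    simp [g, pullback.lift_fst]
  have htor : y ≫ f.left = y ≫ (1 : N ⟶ N).left := by
    refine ext_of_isDominant_of_isSeparated N.hom ?_ inc ?_
    · rw [Category.assoc, Category.assoc, Over.w, Over.w]
    · rw [← Category.assoc, ← Category.assoc, ← hxy, key, key]
      refine congrArg (fun m : SGA7.pt (K := K) Ω ⟶ (SGA7.genFib R K).obj N => m.left ≫ pullback.fst N.hom g) ?_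
      rw [show f = (𝟙 N) ^ n from rfl, H23.MulEtale.map_pow (X := N) g n, Functor.map_one,
        MonObj.comp_one, MonObj.comp_pow, Category.comp_id, hx]
  -- the translate agrees with `y` at the closed point
  let s := Spec.map (CommRingCat.ofHom (restr hσ))
  have hs : s ≫ y ≫ N.hom = y ≫ N.hom := by
    rw [hy, ← Spec.map_comp, ← CommRingCat.ofHom_comp, restr_toW]
  have hone : (1 : N ⟶ N).left = N.hom ≫ η[N].left := by
    rw [Hom.one_def]; rfl
  have e : s ≫ y = y := by
    refine eq_of_comp_eq f.left _ _ ?_ (Spec.map (CommRingCat.ofHom (IsLocalRing.residue W))) ?_ ?_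
    · rw [Category.assoc, htor, hone, reassoc_of% hs]
    · refine ⟨IsLocalRing.closedPoint (IsLocalRing.ResidueField W), ?_⟩
      exact IsLocalRing.comap_closedPoint (IsLocalRing.residue W)
    · rw [← Category.assoc, ← Spec.map_comp, ← CommRingCat.ofHom_comp, residue_restr]
  apply Over.OverMorphism.ext
  show Spec.map (CommRingCat.ofHom (σ : Ω →+* Ω)) ≫ x.left = x.left
  apply pullback.hom_ext
  · rw [Category.assoc, hxy, ← Category.assoc, ← Spec.map_comp]
    show Spec.map (CommRingCat.ofHom ((σ : Ω →+* Ω).comp W.subtype)) ≫ y = _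
    rw [show (σ : Ω →+* Ω).comp W.subtype = W.subtype.comp (restr hσ) from rfl, CommRingCat.ofHom_comp,
      Spec.map_comp, Category.assoc, e]
  · have hw : x.left ≫ pullback.snd N.hom g = (SGA7.pt (K := K) Ω).hom := Over.w x
    rw [Category.assoc, hw]
    exact SGA7.spec_map_algEquiv_comp σ

/-- Properness gives the extension to `W`. -/
theorem exists_extension (hW : SGA7.LiesOver K R W) (N : Over (Spec (CommRingCat.of R))) [IsProper N.hom]
    (x : SGA7.Pts Ω ((SGA7.genFib R K).obj N)) :
    ∃ y : Spec (CommRingCat.of W) ⟶ N.left, y ≫ N.hom = Spec.map (CommRingCat.ofHom (toW hW)) ∧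
      x.left ≫ pullback.fst N.hom (Spec.map (CommRingCat.ofHom (algebraMap R K))) =
        Spec.map (CommRingCat.ofHom W.subtype) ≫ y := by
  let g := Spec.map (CommRingCat.ofHom (algebraMap R K))
  have h : ValuativeCriterion.Existence N.hom := by
    have := ‹IsProper N.hom›
    rw [IsProper.eq_valuativeCriterion] at this
    exact (ValuativeCriterion.iff.1 this.1.1.1).1
  have sq : CommSq (x.left ≫ pullback.fst N.hom g) (Spec.map (CommRingCat.ofHom (algebraMap W Ω))) N.hom
      (Spec.map (CommRingCat.ofHom (toW hW))) := ⟨by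
    have hw : x.left ≫ pullback.snd N.hom g = (SGA7.pt (K := K) Ω).hom := Over.w x
    rw [Category.assoc, pullback.condition, reassoc_of% hw]
    show Spec.map (CommRingCat.ofHom (algebraMap K Ω)) ≫ g = _
    rw [← Spec.map_comp, ← Spec.map_comp, ← CommRingCat.ofHom_comp, ← CommRingCat.ofHom_comp]
    rfl⟩
  obtain ⟨⟨⟨l, hl1, hl2⟩⟩⟩ := h ⟨W, Ω, _, _, sq⟩
  exact ⟨l, hl2, hl1.symm⟩

end Groth.Agent.SGA7X.InertPts
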