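import Groth.Agent.Hensel.EtaleResidueExt
import Mathlib

/-!
# Ordinary quadratic forms in an even number of variables are etale locally split
-/

universe u

open Matrix Polynomial

namespace Groth.Agent.SGA7X.QuadSplit

variable {A : Type u} [CommRing A] {B : Type u} [CommRing B] {ι κ : Type*} [Fintype ι] [Fintype κ]

/-- The quadratic form of a square matrix. -/
def qf (M : Matrix ι ι A) (x : ι → A) : A := x ⬝ᵥ M *ᵥ x

/-- The polar form. -/
def bf (M : Matrix ι ι A) (x y : ι → A) : A := x ⬝ᵥ (M + Mᵀ) *ᵥ y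

lemma dot_transpose (M : Matrix ι ι A) (x y : ι → A) : x ⬝ᵥ Mᵀ *ᵥ y = y ⬝ᵥ M *ᵥ x := by
  rw [mulVec_transpose, dotProduct_comm, ← dotProduct_mulVec]

lemma bf_eq (M : Matrix ι ι A) (x y : ι → A) : bf M x y = x ⬝ᵥ M *ᵥ y + y ⬝ᵥ M *ᵥ x := by
  rw [bf, add_mulVec, dotProduct_add, dot_transpose]

lemma bf_comm (M : Matrix ι ι A) (x y : ι → A) : bf M x y = bf M y x := by
  rw [bf_eq, bf_eq, add_comm]

lemma bf_self (M : Matrix ι ι A) (x : ι → A) : bf M x x = 2 * qf M x := by
  rw [bf_eq, qf]; ring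

lemma qf_add_smul (M : Matrix ι ι A) (x y : ι → A) (t : A) :
    qf M (x + t • y) = qf M x + t * bf M x y + t ^ 2 * qf M y := by
  simp only [qf, bf_eq, mulVec_add, mulVec_smul, dotProduct_add, add_dotProduct, dotProduct_smul,
    smul_dotProduct, smul_eq_mul]
  ring

lemma bf_add_smul_left (M : Matrix ι ι A) (x y z : ι → A) (t : A) :
    bf M (x + t • y) z = bf M x z + t * bf M y z := by
  simp only [bf, add_dotProduct, smul_dotProduct, smul_eq_mul]

lemma bf_add_smul_right (M : Matrix ι ι A) (x y z : ι → A) (t : A) :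
    bf M z (x + t • y) = bf M z x + t * bf M z y := by
  simp only [bf, mulVec_add, mulVec_smul, dotProduct_add, dotProduct_smul, smul_eq_mul]

lemma bf_smul_left (M : Matrix ι ι A) (x z : ι → A) (t : A) : bf M (t • x) z = t * bf M x z := by
  simp only [bf, smul_dotProduct, smul_eq_mul]

lemma bf_smul_right (M : Matrix ι ι A) (x z : ι → A) (t : A) : bf M z (t • x) = t * bf M z x := by
  simp only [bf, mulVec_smul, dotProduct_smul, smul_eq_mul]

lemma qf_smul (M : Matrix ι ι A) (x : ι → A) (t : A) : qf M (t • x) = t ^ 2 * qf M x := by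
  simp only [qf, mulVec_smul, dotProduct_smul, smul_dotProduct, smul_eq_mul]; ring

lemma map_qf (f : A →+* B) (M : Matrix ι ι A) (x : ι → A) :
    f (qf M x) = qf (M.map f) (fun i => f (x i)) := by
  simp [qf, dotProduct, mulVec, map_sum, Finset.mul_sum]

lemma map_bf (f : A →+* B) (M : Matrix ι ι A) (x y : ι → A) :
    f (bf M x y) = bf (M.map f) (fun i => f (x i)) (fun i => f (y i)) := by
  simp [bf, dotProduct, mulVec, map_sum, Finset.mul_sum]

lemma qf_mulVec (M : Matrix ι ι A) (h : Matrix ι κ A) (x : κ → A) :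
    qf M (h *ᵥ x) = qf (hᵀ * M * h) x := by
  simp only [qf, ← mulVec_mulVec]
  conv_rhs => rw [dotProduct_mulVec x hᵀ, vecMul_transpose]

/-- Two matrices with the same quadratic form keep the same form after a change of ring. -/
lemma qf_eq_of_forall [DecidableEq ι] {M N : Matrix ι ι A} (f : A →+* B) (h : ∀ z, qf M z = qf N z)
    (z : ι → B) : qf (M.map f) z = qf (N.map f) z := by
  have hd : ∀ i, M i i = N i i := fun i => by simpa [qf] using h (Pi.single i 1)
  have hs : ∀ i j, M i j + M j i = N i j + N j i := fun i j => by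
    have h3 := h (Pi.single i 1 + (1 : A) • Pi.single j 1)
    rw [qf_add_smul, qf_add_smul, h, h] at h3
    have h4 : bf M (Pi.single i 1) (Pi.single j 1) = bf N (Pi.single i 1) (Pi.single j 1) := by
      linear_combination h3
    simpa [bf_eq] using h4
  let L : List ι := Finset.univ.toList
  have hexp : ∀ K : Matrix ι ι B, qf K z = ∑ i, ∑ j, z i * z j * K i j := fun K => by
    simp only [qf, dotProduct, mulVec, Finset.mul_sum]
    exact Finset.sum_congr rfl fun i _ => Finset.sum_congr rfl fun j _ => by ring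
  rw [← sub_eq_zero, hexp, hexp, ← Finset.sum_sub_distrib]
  simp only [← Finset.sum_sub_distrib]
  have : (∑ p : ι × ι, (z p.1 * z p.2 * M.map f p.1 p.2 - z p.1 * z p.2 * N.map f p.1 p.2)) = 0 := by
    refine Finset.sum_involution (fun p _ => (p.2, p.1)) (fun p _ => ?_) (fun p _ hp he => hp ?_)
      (fun _ _ => Finset.mem_univ _) (fun p _ => rfl)
    · have := congrArg f (hs p.1 p.2)
      simp only [map_add] at this
      simp only [Matrix.map_apply]
      linear_combination (z p.1 * z p.2) * this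
    · rw [Prod.ext_iff] at he
      obtain ⟨a, b⟩ := p
      simp only at he
      obtain ⟨rfl, -⟩ := he
      simp [hd]
  rw [← this, Fintype.sum_prod_type]

/-- A pair of vectors spanning a nondegenerate plane, over a domain. -/
theorem exists_plane [IsDomain A] [DecidableEq ι] [Nontrivial ι] (M : Matrix ι ι A)
    (hM : (M + Mᵀ).det ≠ 0) :
    ∃ e f : ι → A, qf M f ≠ 0 ∧ bf M e f ^ 2 - 4 * qf M e * qf M f ≠ 0 := by
  have hinj : ∀ y : ι → A, (∀ x, bf M x y = 0) → y = 0 := by
    intro y hy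
    by_contra hy0
    refine hM (exists_mulVec_eq_zero_iff.1 ⟨y, hy0, funext fun i => ?_⟩)
    have := hy (Pi.single i 1)
    simpa [bf] using this
  obtain ⟨f, hf⟩ : ∃ f, qf M f ≠ 0 := by
    by_contra h
    push Not at h
    obtain ⟨i, -⟩ := exists_pair_ne ι
    have := hinj (Pi.single i 1) fun x => by
      have h3 := qf_add_smul M x (Pi.single i 1) 1
      simp only [h, one_smul, one_mul, one_pow] at h3
      linear_combination -h3
    simpa using congrFun this i
  refine Classical.by_contradiction fun h => ?_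
  push Not at h
  have hd : ∀ e, bf M e f ^ 2 - 4 * qf M e * qf M f = 0 := fun e => h e f hf
  have h2 : ∀ e e', 2 * (bf M e f * bf M e' f) = 4 * qf M f * bf M e e' := fun e e' => by
    have h3 := hd (e + (1 : A) • e')
    rw [qf_add_smul, bf_add_smul_left] at h3
    linear_combination h3 - hd e - hd e'
  by_cases htwo : (2 : A) = 0
  · have h0 : ∀ e, bf M e f = 0 := fun e => by
      have := hd e
      rw [show (4 : A) = 2 * 2 by norm_num, htwo] at this
      simpa using this
    exact hf (by rw [hinj f h0]; simp [qf])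
  · obtain ⟨e', he', he'0⟩ : ∃ e' : ι → A, e' ≠ 0 ∧ bf M e' f = 0 := by
      obtain ⟨i, j, hij⟩ := exists_pair_ne ι
      by_cases hi : bf M (Pi.single i 1) f = 0
      · exact ⟨Pi.single i 1, fun h0 => by simpa using congrFun h0 i, hi⟩
      refine ⟨bf M (Pi.single j 1) f • Pi.single i 1 + (-(bf M (Pi.single i 1) f)) • Pi.single j 1,
        fun h0 => hi ?_, ?_⟩
      · simpa [hij.symm] using congrFun h0 j
      · rw [bf_add_smul_left, bf_smul_left]; ring
    apply he'
    refine hinj e' fun x => ?_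
    have h4 : 4 * qf M f * bf M x e' = 0 := by rw [← h2, he'0]; ring
    have h4' : (4 : A) ≠ 0 := by
      rw [show (4 : A) = 2 * 2 by norm_num]; exact mul_ne_zero htwo htwo
    exact (mul_eq_zero.1 h4).resolve_left (mul_ne_zero h4' hf)

/-- A nondegenerate plane, at a prime. -/
theorem exists_plane_at [DecidableEq ι] [Nontrivial ι] (M : Matrix ι ι A)
    (hM : IsUnit (M + Mᵀ).det) (p : Ideal A) [p.IsPrime] :
    ∃ e f : ι → A, qf M f * (bf M e f ^ 2 - 4 * qf M e * qf M f) ∉ p := by
  let π := Ideal.Quotient.mk p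
  have hM' : (M.map π + (M.map π)ᵀ).det ≠ 0 := by
    have : (M.map π + (M.map π)ᵀ) = (M + Mᵀ).map π := by
      ext i j; simp
    rw [this, ← RingHom.mapMatrix_apply, ← RingHom.map_det]
    exact (hM.map π).ne_zero
  obtain ⟨e, f, hf, hd⟩ := exists_plane (M.map π) hM'
  choose e' he' using fun i => Ideal.Quotient.mk_surjective (e i)
  choose f' hf' using fun i => Ideal.Quotient.mk_surjective (f i)
  refine ⟨e', f', fun h => mul_ne_zero hf hd ?_⟩
  rw [← Ideal.Quotient.eq_zero_iff_mem, map_mul, map_sub, map_pow, map_mul, map_mul, map_qf, map_qf,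
    map_bf] at h
  simpa [π, he', hf', map_ofNat] using h

/-- A matrix with two prescribed columns whose determinant is a given minor, up to sign. -/
theorem det_two_columns [DecidableEq ι] (v w : ι → A) {i j : ι} (hij : i ≠ j) :
    ((((1 : Matrix ι ι A).updateCol i v).updateCol j w)).det = v i * w j - v j * w i := by
  let V : Matrix ι (Fin 2) A := of fun r c => if c = 0 then v r - (1 : Matrix ι ι A) r i
    else w r - (1 : Matrix ι ι A) r j
  let E : Matrix (Fin 2) ι A := of fun c r => if c = 0 then (if r = i then 1 else 0)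
    else (if r = j then 1 else 0)
  have hsum : (((1 : Matrix ι ι A).updateCol i v).updateCol j w) = 1 + V * E := by
    ext r s
    rw [Matrix.add_apply, Matrix.mul_apply, Fin.sum_univ_two]
    by_cases h1 : s = j
    · subst h1
      simp [V, E, hij.symm]
    by_cases h2 : s = i
    · subst h2
      simp [V, E, h1]
    · simp [V, E, h1, h2]
  rw [hsum, det_one_add_mul_comm, det_fin_two]
  have hmul : ∀ (c : Fin 2) (d : Fin 2), (E * V) c d = (![V i d, V j d]) c := by
    intro c d
    rw [Matrix.mul_apply]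
    fin_cases c <;> simp [E, Finset.sum_ite_eq']
  simp only [Matrix.add_apply, hmul]
  simp [V, hij, hij.symm]
  ring

/-- The split form. -/
def hyp {m : ℕ} (x : Fin m ⊕ Fin m → A) : A := ∑ j, x (Sum.inl j) * x (Sum.inr j)

set_option maxHeartbeats 1000000 in
theorem split_plane {m : ℕ} (M : Matrix (Fin (m + 1) ⊕ Fin (m + 1)) (Fin (m + 1) ⊕ Fin (m + 1)) A)
    (v w : Fin (m + 1) ⊕ Fin (m + 1) → A) (hv : qf M v = 0) (hw : qf M w = 0)
    (hvw : bf M v w = 1) (p : Ideal A) [p.IsPrime] :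
    ∃ r, r ∉ p ∧ ∀ (C : Type u) [CommRing C] (φ : A →+* C), IsUnit (φ r) →
      IsUnit (M + Mᵀ).det →
      ∃ (H : Matrix (Fin (m + 1) ⊕ Fin (m + 1)) (Fin 2 ⊕ (Fin m ⊕ Fin m)) C)
        (M' : Matrix (Fin m ⊕ Fin m) (Fin m ⊕ Fin m) C),
        IsUnit (M' + M'ᵀ).det ∧
        (∃ H' : Matrix (Fin 2 ⊕ (Fin m ⊕ Fin m)) (Fin (m + 1) ⊕ Fin (m + 1)) C, H * H' = 1) ∧
        ∀ (a : Fin 2 → C) (x : Fin m ⊕ Fin m → C),
          qf (M.map φ) (H *ᵥ Sum.elim a x) = a 0 * a 1 + qf M' x := by
  classical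
  obtain ⟨i, j, hij, hmin⟩ : ∃ i j, i ≠ j ∧ v i * w j - v j * w i ∉ p := by
    by_contra h
    push Not at h
    let π := Ideal.Quotient.mk p
    have hall : ∀ k l, π (v k) * π (w l) = π (v l) * π (w k) := fun k l => by
      rcases eq_or_ne k l with rfl | hkl
      · rfl
      · rw [← map_mul, ← map_mul, Ideal.Quotient.eq]; exact h k l hkl
    have hk : ∀ k, π (v k) = 0 := by
      intro k
      have h1 : π (v k) * π (bf M v w) = π (w k) * π (bf M v v) := by
        simp only [bf, dotProduct, mulVec, map_sum, map_mul, Finset.mul_sum]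
        refine Finset.sum_congr rfl fun a _ => Finset.sum_congr rfl fun b _ => ?_
        linear_combination (π (v a) * π ((M + Mᵀ) a b)) * hall k b
      rwa [hvw, bf_self, hv, mul_zero, map_zero, mul_zero, map_one, mul_one] at h1
    have : π (bf M v w) = 0 := by
      simp [bf, dotProduct, map_sum, map_mul, hk]
    rw [hvw, map_one] at this
    exact one_ne_zero this
  refine ⟨_, hmin, fun C _ φ hr hdet => ?_⟩
  let ι' := Fin (m + 1) ⊕ Fin (m + 1)
  let N : Matrix ι' ι' C := M.map φ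
  let v' : ι' → C := fun k => φ (v k)
  let w' : ι' → C := fun k => φ (w k)
  have hv' : qf N v' = 0 := by rw [← map_qf, hv, map_zero]
  have hw' : qf N w' = 0 := by rw [← map_qf, hw, map_zero]
  have hvw' : bf N v' w' = 1 := by rw [← map_bf, hvw, map_one]
  let h₀ : Matrix ι' ι' C := ((1 : Matrix ι' ι' C).updateCol i v').updateCol j w'
  have hh₀ : IsUnit h₀.det := by
    rw [det_two_columns v' w' hij]
    simpa [v', w'] using hr
  have hcol : ∀ k, k ≠ i → k ≠ j → h₀ *ᵥ Pi.single k 1 = Pi.single k 1 := fun k hki hkj => by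
    rw [mulVec_single_one]
    ext r
    simp [h₀, Matrix.col, hki, hkj, Matrix.one_apply, Pi.single_apply]
  -- the complement
  have hcard : Fintype.card {k : ι' // k ≠ i ∧ k ≠ j} = Fintype.card (Fin m ⊕ Fin m) := by
    rw [Fintype.card_subtype]
    have : (Finset.univ.filter fun k : ι' => k ≠ i ∧ k ≠ j) = Finset.univ \ {i, j} := by
      ext k; simp
    rw [this, Finset.card_sdiff, Finset.inter_univ, Finset.card_univ, Finset.card_pair hij]
    simp only [ι', Fintype.card_sum, Fintype.card_fin]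
    omega
  let σ : Fin m ⊕ Fin m ≃ {k : ι' // k ≠ i ∧ k ≠ j} := Fintype.equivOfCardEq hcard.symm
  let τ : Fin 2 ⊕ (Fin m ⊕ Fin m) → ι' := Sum.elim ![i, j] (fun z => (σ z : ι'))
  have hτ : Function.Bijective τ := by
    rw [Fintype.bijective_iff_injective_and_card]
    refine ⟨?_, by simp [ι']; omega⟩
    rintro (a | a) (b | b) hab
    · fin_cases a <;> fin_cases b <;> simp_all [τ, hij.symm]
    · exfalso
      fin_cases a
      · exact (σ b).2.1 hab.symm
      · exact (σ b).2.2 hab.symm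
    · exfalso
      fin_cases b
      · exact (σ a).2.1 hab
      · exact (σ a).2.2 hab
    · rw [σ.injective (Subtype.ext hab)]
  let ε : Fin 2 ⊕ (Fin m ⊕ Fin m) ≃ ι' := Equiv.ofBijective τ hτ
  let K : Matrix (Fin 2 ⊕ (Fin m ⊕ Fin m)) (Fin 2 ⊕ (Fin m ⊕ Fin m)) C :=
    fromBlocks 1 (of fun c z => if c = 0 then -bf N (Pi.single (σ z : ι') 1) w'
      else -bf N (Pi.single (σ z : ι') 1) v') 0 1
  let h₁ : Matrix ι' (Fin 2 ⊕ (Fin m ⊕ Fin m)) C := h₀.submatrix id ε
  let H := h₁ * K
  have hh₁ : ∀ s, h₁ *ᵥ Pi.single s 1 = h₀ *ᵥ Pi.single (ε s) 1 := fun s => by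
    rw [mulVec_single_one, mulVec_single_one]; rfl
  have hi0 : h₀ *ᵥ Pi.single i 1 = v' := by
    rw [mulVec_single_one]; ext r; simp [h₀, Matrix.col, hij]
  have hj0 : h₀ *ᵥ Pi.single j 1 = w' := by
    rw [mulVec_single_one]; ext r; simp [h₀, Matrix.col]
  let u : (Fin m ⊕ Fin m) → ι' → C := fun z =>
    Pi.single (σ z : ι') 1 + (-bf N (Pi.single (σ z : ι') 1) w') • v' +
      (-bf N (Pi.single (σ z : ι') 1) v') • w'
  have hH : ∀ (a : Fin 2 → C) (x : Fin m ⊕ Fin m → C),
      H *ᵥ Sum.elim a x = a 0 • v' + a 1 • w' + ∑ z, x z • u z := by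
    intro a x
    have hS : ∀ y : Fin 2 ⊕ (Fin m ⊕ Fin m) → C, h₁ *ᵥ y =
        y (Sum.inl 0) • v' + y (Sum.inl 1) • w' +
          ∑ z, y (Sum.inr z) • (Pi.single (σ z : ι') 1 : ι' → C) := by
      intro y
      conv_lhs => rw [pi_eq_sum_univ' y]
      rw [mulVec_sum, Fintype.sum_sum_type, Fin.sum_univ_two]
      simp only [mulVec_smul, hh₁]
      congr 1
      · rw [show ε (Sum.inl 0) = i from rfl, show ε (Sum.inl 1) = j from rfl, hi0, hj0]
      · exact Finset.sum_congr rfl fun z _ => by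
          rw [show ε (Sum.inr z) = (σ z : ι') from rfl, hcol _ (σ z).2.1 (σ z).2.2]
    rw [show H = h₁ * K from rfl, ← mulVec_mulVec, fromBlocks_mulVec, hS]
    simp only [Sum.elim_inl, Sum.elim_inr, Function.comp_def, one_mulVec, zero_mulVec, zero_add,
      Pi.add_apply, u, smul_add, Finset.sum_add_distrib, smul_smul, ← Finset.sum_smul, add_smul]
    simp only [mulVec, dotProduct, of_apply, if_true, one_ne_zero, if_false,
      mul_comm (x _)]
    abel
  have huv : ∀ z, bf N (u z) v' = 0 := fun z => by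
    simp only [u]
    rw [bf_add_smul_left, bf_add_smul_left, bf_self, hv', bf_comm N w' v', hvw']
    ring
  have huw : ∀ z, bf N (u z) w' = 0 := fun z => by
    simp only [u]
    rw [bf_add_smul_left, bf_add_smul_left, bf_self, hw', hvw']
    ring
  let U : Matrix ι' (Fin m ⊕ Fin m) C := of fun r z => u z r
  have hU : ∀ x, ∑ z, x z • u z = U *ᵥ x := fun x => by
    ext r
    simp only [Finset.sum_apply, Pi.smul_apply, smul_eq_mul, mulVec, dotProduct, U, of_apply]
    exact Finset.sum_congr rfl fun z _ => mul_comm _ _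
  have hbU : ∀ x y, bf N (U *ᵥ x) y = ∑ z, x z * bf N (u z) y := fun x y => by
    rw [← hU]
    simp only [bf, sum_dotProduct, smul_dotProduct, smul_eq_mul]
  let M' := Uᵀ * N * U
  have hmain : ∀ (a : Fin 2 → C) (x : Fin m ⊕ Fin m → C),
      qf N (H *ᵥ Sum.elim a x) = a 0 * a 1 + qf M' x := fun a x => by
    rw [hH, hU, show a 0 • v' + a 1 • w' + U *ᵥ x = (a 0 • v' + a 1 • w') + (1 : C) • (U *ᵥ x) by
      rw [one_smul], qf_add_smul, qf_add_smul, bf_comm N _ (U *ᵥ x), bf_add_smul_right,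
      bf_smul_right, hbU, hbU, qf_smul, bf_smul_left, hv', hw', hvw', qf_mulVec N U x]
    simp [huv, huw, M']
    ring
  have hHinv : ∃ H' : Matrix (Fin 2 ⊕ (Fin m ⊕ Fin m)) ι' C, H * H' = 1 := by
    let g : Matrix ι' ι' C := H.submatrix id ε.symm
    have hg : IsUnit g.det := by
      have : g = h₀ * K.submatrix ε.symm ε.symm := by
        have := Matrix.submatrix_mul (h₀.submatrix id ε) K (id : ι' → ι') ε.symm ε.symm ε.symm.bijective
        rw [show g = ((h₀.submatrix id ε) * K).submatrix id ε.symm from rfl, this]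
        congr 1
        ext a b
        simp
      rw [this, det_mul, det_submatrix_equiv_self, det_fromBlocks_zero₂₁, det_one, det_one, mul_one,
        mul_one]
      exact hh₀
    refine ⟨(g⁻¹).submatrix ε id, ?_⟩
    have := mul_nonsing_inv g hg
    ext a b
    rw [← this, Matrix.mul_apply, Matrix.mul_apply]
    exact Fintype.sum_equiv ε _ _ fun s => by simp [g]
  refine ⟨H, M', ?_, hHinv, hmain⟩
  -- unit determinant
  obtain ⟨H', hHH'⟩ := hHinv
  have hN : IsUnit (N + Nᵀ).det := by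
    have : N + Nᵀ = (M + Mᵀ).map φ := by ext a b; simp [N]
    rw [this, ← RingHom.mapMatrix_apply, ← RingHom.map_det]
    exact hdet.map φ
  let g : Matrix ι' ι' C := H.submatrix id ε.symm
  have hg : IsUnit g.det := by
    refine isUnit_det_of_right_inverse (B := H'.submatrix ε.symm id) ?_
    ext a b
    rw [← hHH', Matrix.mul_apply, Matrix.mul_apply]
    exact Fintype.sum_equiv ε.symm _ _ fun s => by simp [g]
  have hG : IsUnit ((gᵀ * (N + Nᵀ) * g).submatrix ε ε).det := by
    rw [det_submatrix_equiv_self, det_mul, det_mul, det_transpose]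
    exact (hg.mul hN).mul hg
  have hblock : (gᵀ * (N + Nᵀ) * g).submatrix ε ε =
      fromBlocks !![0, 1; 1, 0] 0 0 (M' + M'ᵀ) := by
    have hentry : ∀ s t, ((gᵀ * (N + Nᵀ) * g).submatrix ε ε) s t =
        bf N (H *ᵥ Pi.single s 1) (H *ᵥ Pi.single t 1) := fun s t => by
      rw [bf, mulVec_single_one, mulVec_single_one, submatrix_apply, Matrix.mul_assoc]
      simp [Matrix.mul_apply, dotProduct, mulVec, g, Matrix.col]
    have hl : ∀ c : Fin 2, H *ᵥ Pi.single (Sum.inl c) 1 = (![v', w']) c := fun c => by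
      rw [show (Pi.single (Sum.inl c) (1 : C) : Fin 2 ⊕ (Fin m ⊕ Fin m) → C) =
        Sum.elim (Pi.single c 1) 0 by ext (_ | _) <;> simp [Pi.single_apply], hH]
      fin_cases c <;> simp
    have hr' : ∀ z, H *ᵥ Pi.single (Sum.inr z) 1 = U *ᵥ Pi.single z 1 := fun z => by
      rw [show (Pi.single (Sum.inr z) (1 : C) : Fin 2 ⊕ (Fin m ⊕ Fin m) → C) =
        Sum.elim (0 : Fin 2 → C) (Pi.single z 1) by ext (_ | _) <;> simp [Pi.single_apply], hH, hU]
      simp
    have hU1 : ∀ z, U *ᵥ Pi.single z 1 = u z := fun z => by rw [mulVec_single_one]; rfl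
    ext (s | s) (t | t)
    · rw [hentry, hl, hl]
      fin_cases s <;> fin_cases t <;> simp [bf_self, hv', hw', hvw', bf_comm N w' v']
    · rw [hentry, hl, hr', hU1, bf_comm]
      fin_cases s <;> simp [huv, huw]
    · rw [hentry, hr', hl, hU1]
      fin_cases t <;> simp [huv, huw]
    · rw [hentry, hr', hr', bf_eq, fromBlocks_apply₂₂, Matrix.add_apply, Matrix.transpose_apply]
      congr 1 <;>
      · rw [mulVec_single_one, mulVec_single_one]
        simp [M', Matrix.mul_assoc, Matrix.mul_apply, dotProduct, mulVec, Matrix.col]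
  rw [hblock, det_fromBlocks_zero₂₁, det_fin_two] at hG
  simp only [of_apply, cons_val', cons_val_zero, cons_val_one, empty_val', cons_val_fin_one,
    mul_zero, mul_one, zero_sub, neg_mul, one_mul, IsUnit.neg_iff] at hG
  exact hG

/-- The quadratic form is split in an etale neighbourhood of every prime. -/
theorem split_near : ∀ (m : ℕ) (A : Type u) [CommRing A]
    (M : Matrix (Fin m ⊕ Fin m) (Fin m ⊕ Fin m) A), IsUnit (M + Mᵀ).det →
    ∀ p : PrimeSpectrum A, ∃ (B : Type u) (_ : CommRing B) (_ : Algebra A B),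
      Algebra.Etale A B ∧ (∃ q : PrimeSpectrum B, q.asIdeal.comap (algebraMap A B) = p.asIdeal) ∧
      ∃ g : Matrix (Fin m ⊕ Fin m) (Fin m ⊕ Fin m) B, IsUnit g.det ∧
        ∀ x, qf (M.map (algebraMap A B)) (g *ᵥ x) = hyp x := by
  intro m
  induction m with
  | zero =>
    intro A _ M _ p
    exact ⟨A, inferInstance, inferInstance, inferInstance, ⟨p, by simp⟩, 1, by simp,
      fun x => by simp [qf, hyp, dotProduct]⟩
  | succ m ih =>
    intro A _ M hM p
    classical
    haveI : Nontrivial (Fin (m + 1) ⊕ Fin (m + 1)) := ⟨⟨Sum.inl 0, Sum.inr 0, by simp⟩⟩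
    obtain ⟨e, f, hr⟩ := exists_plane_at M hM p.asIdeal
    set r := qf M f * (bf M e f ^ 2 - 4 * qf M e * qf M f)
    -- invert `r`
    let A₁ := Localization.Away r
    let φ₁ : A →+* A₁ := algebraMap A A₁
    have hru : IsUnit (φ₁ r) := IsLocalization.Away.algebraMap_isUnit r
    rw [map_mul, IsUnit.mul_iff] at hru
    obtain ⟨⟨c, hc⟩, hdisc⟩ := hru
    obtain ⟨p₁, hp₁⟩ : ∃ p₁ : PrimeSpectrum A₁, PrimeSpectrum.comap φ₁ p₁ = p := by
      have : p ∈ Set.range (PrimeSpectrum.comap φ₁) := by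
        rw [PrimeSpectrum.localization_away_comap_range A₁ r]; exact hr
      exact this
    let e₁ : _ → A₁ := fun i => φ₁ (e i)
    let f₁ : _ → A₁ := fun i => φ₁ (f i)
    let M₁ := M.map φ₁
    let P : A₁[X] := X ^ 2 + Polynomial.C (↑c⁻¹ * bf M₁ e₁ f₁) * X + Polynomial.C (↑c⁻¹ * qf M₁ e₁)
    have hP : P.Monic := by simp only [P]; monicity!
    let A₂ := AdjoinRoot P
    set τ : A₂ := AdjoinRoot.root P with hτ
    let φ₂ : A₁ →+* A₂ := algebraMap A₁ A₂
    let M₂ := M₁.map φ₂
    let e₂ : _ → A₂ := fun i => φ₂ (e₁ i)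
    let f₂ : _ → A₂ := fun i => φ₂ (f₁ i)
    have hroot : qf M₂ e₂ + τ * bf M₂ e₂ f₂ + τ ^ 2 * qf M₂ f₂ = 0 := by
      have h := AdjoinRoot.eval₂_root P
      simp only [P, eval₂_add, eval₂_mul, eval₂_X_pow, eval₂_C, eval₂_X, map_mul,
        ← AdjoinRoot.algebraMap_eq] at h
      have hcc : φ₂ c * φ₂ ↑c⁻¹ = 1 := by rw [← map_mul, Units.mul_inv, map_one]
      have hc₂ : φ₂ c = qf M₂ f₂ := by rw [hc, map_qf, map_qf]
      rw [← map_qf φ₂, ← map_bf φ₂, ← hc₂]
      linear_combination (φ₂ c) * h - (φ₂ (qf M₁ e₁) + τ * φ₂ (bf M₁ e₁ f₁)) * hcc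
    let v : _ → A₂ := e₂ + τ • f₂
    have hv : qf M₂ v = 0 := by rw [qf_add_smul]; exact hroot
    set s := bf M₂ v f₂ with hs
    have hsq : s ^ 2 = φ₂ (φ₁ (bf M e f ^ 2 - 4 * qf M e * qf M f)) := by
      simp only [map_sub, map_mul, map_pow, map_qf, map_bf, map_ofNat]
      rw [hs, bf_add_smul_left, bf_self]
      linear_combination (4 * qf M₂ f₂) * hroot
    have hsu : IsUnit s := (isUnit_pow_iff two_ne_zero).1 (hsq ▸ hdisc.map φ₂)
    obtain ⟨s', hs'⟩ := hsu
    haveI : Algebra.Etale A₁ A₂ := by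
      refine Hensel.etale_adjoinRoot hP ?_
      have hds : aeval τ (derivative P) = φ₂ ↑c⁻¹ * s := by
        have hcc : φ₂ ↑c⁻¹ * qf M₂ f₂ = 1 := by
          rw [← map_qf φ₂, ← map_qf φ₁, ← hc, ← map_mul, Units.inv_mul, map_one]
        simp only [P, derivative_add, derivative_C_mul_X, derivative_X_pow, derivative_C]
        simp only [Nat.cast_ofNat, Nat.add_one_sub_one, pow_one, map_add, map_mul, aeval_C, aeval_X,
          map_zero, add_zero]
        rw [hs, bf_add_smul_left, bf_self, map_ofNat, map_bf]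
        linear_combination (-2 * τ) * hcc
      rw [hds]
      exact (c⁻¹.isUnit.map φ₂).mul ⟨s', hs'⟩
    haveI : Module.Finite A₁ A₂ := hP.finite_adjoinRoot
    haveI : Module.Free A₁ A₂ := hP.free_adjoinRoot
    haveI : Nontrivial A₁ := nontrivial_of_ne _ _ (fun h : (0 : A₁) = 1 =>
      p₁.isPrime.ne_top ((Ideal.eq_top_iff_one _).2 (h ▸ zero_mem _)))
    haveI : Nontrivial A₂ := nontrivial_of_ne 1 0 (by
      have : P.natDegree = 2 := by simp only [P]; compute_degree!
      rw [← map_one (AdjoinRoot.mk P)]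
      exact AdjoinRoot.mk_ne_zero_of_natDegree_lt hP one_ne_zero (by rw [natDegree_one, this]; omega))
    haveI : Module.FaithfullyFlat A₁ A₂ := inferInstance
    obtain ⟨p₂, hp₂⟩ := PrimeSpectrum.comap_surjective_of_faithfullyFlat (A := A₁) (B := A₂) p₁
    -- the hyperbolic pair
    let w : _ → A₂ := (↑s'⁻¹ : A₂) • (f₂ + (-(↑s'⁻¹ * qf M₂ f₂)) • v)
    have hss : (↑s'⁻¹ : A₂) * s = 1 := by rw [← hs', Units.inv_mul]
    have hw : qf M₂ w = 0 := by
      rw [qf_smul, qf_add_smul, hv, bf_comm M₂ f₂ v, ← hs]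
      linear_combination (-(↑s'⁻¹ : A₂) ^ 2 * qf M₂ f₂) * hss
    have hvw : bf M₂ v w = 1 := by
      rw [bf_smul_right, bf_add_smul_right, bf_self, hv, ← hs]
      linear_combination hss
    obtain ⟨r₂, hr₂, hsplit⟩ := split_plane M₂ v w hv hw hvw p₂.asIdeal
    let A₃ := Localization.Away r₂
    let φ₃ : A₂ →+* A₃ := algebraMap A₂ A₃
    obtain ⟨p₃, hp₃⟩ : ∃ p₃ : PrimeSpectrum A₃, PrimeSpectrum.comap φ₃ p₃ = p₂ := by
      have : p₂ ∈ Set.range (PrimeSpectrum.comap φ₃) := by
        rw [PrimeSpectrum.localization_away_comap_range A₃ r₂]; exact hr₂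
      exact this
    have hM₂ : IsUnit (M₂ + M₂ᵀ).det := by
      have : M₂ + M₂ᵀ = (M + Mᵀ).map (φ₂.comp φ₁) := by ext a b; simp [M₂, M₁]
      rw [this, ← RingHom.mapMatrix_apply, ← RingHom.map_det]
      exact hM.map _
    obtain ⟨H, M', hM', ⟨H', hHH'⟩, hdec⟩ :=
      hsplit A₃ φ₃ (IsLocalization.Away.algebraMap_isUnit r₂) hM₂
    obtain ⟨B, _, _, hB, ⟨q, hq⟩, g, hg, hgx⟩ := ih A₃ M' hM' p₃
    letI : Algebra A₂ B := ((algebraMap A₃ B).comp φ₃).toAlgebra
    haveI : IsScalarTower A₂ A₃ B := IsScalarTower.of_algebraMap_eq' rfl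
    haveI : Algebra.Etale A₂ B := Algebra.Etale.comp A₂ A₃ B
    letI : Algebra A₁ B := ((algebraMap A₂ B).comp φ₂).toAlgebra
    haveI : IsScalarTower A₁ A₂ B := IsScalarTower.of_algebraMap_eq' rfl
    haveI : Algebra.Etale A₁ B := Algebra.Etale.comp A₁ A₂ B
    letI : Algebra A B := ((algebraMap A₁ B).comp φ₁).toAlgebra
    haveI : IsScalarTower A A₁ B := IsScalarTower.of_algebraMap_eq' rfl
    haveI : Algebra.Etale A B := Algebra.Etale.comp A A₁ B
    let ρ : A₃ →+* B := algebraMap A₃ B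
    refine ⟨B, inferInstance, inferInstance, inferInstance, ⟨q, ?_⟩, ?_⟩
    · rw [← hp₁, ← hp₂, ← hp₃]
      show _ = (PrimeSpectrum.comap φ₁ (PrimeSpectrum.comap φ₂ (PrimeSpectrum.comap φ₃ p₃))).asIdeal
      simp only [PrimeSpectrum.comap_asIdeal]
      rw [← hq]
      rfl
    -- assemble
    let G : Matrix (Fin 2 ⊕ (Fin m ⊕ Fin m)) (Fin (m + 1) ⊕ Fin (m + 1)) B :=
      (fromBlocks (1 : Matrix (Fin 2) (Fin 2) B) 0 0 g).submatrix id
        (Sum.elim (Fin.cons (Sum.inl 0) (fun j => Sum.inr (Sum.inl j)))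
          (Fin.cons (Sum.inl 1) (fun j => Sum.inr (Sum.inr j))))
    let ee : (Fin (m + 1) ⊕ Fin (m + 1)) ≃ (Fin 2 ⊕ (Fin m ⊕ Fin m)) :=
      Equiv.ofBijective (Sum.elim (Fin.cons (Sum.inl 0) (fun j => Sum.inr (Sum.inl j)))
          (Fin.cons (Sum.inl 1) (fun j => Sum.inr (Sum.inr j)))) (by
        rw [Fintype.bijective_iff_surjective_and_card]
        refine ⟨?_, by simp; omega⟩
        rintro (c | (z | z))
        · fin_cases c
          · exact ⟨Sum.inl 0, rfl⟩
          · exact ⟨Sum.inr 0, rfl⟩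
        · exact ⟨Sum.inl z.succ, by simp⟩
        · exact ⟨Sum.inr z.succ, by simp⟩)
    refine ⟨H.map ρ * G, ?_, fun x => ?_⟩
    · let gi := g⁻¹
      refine isUnit_det_of_right_inverse
        (B := ((fromBlocks (1 : Matrix (Fin 2) (Fin 2) B) 0 0 gi).submatrix ee id) * H'.map ρ) ?_
      have h1 : G * (fromBlocks (1 : Matrix (Fin 2) (Fin 2) B) 0 0 gi).submatrix ee id = 1 := by
        rw [show G = (fromBlocks (1 : Matrix (Fin 2) (Fin 2) B) 0 0 g).submatrix id ee from rfl,
          submatrix_mul_equiv, fromBlocks_multiply]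
        simp [gi, mul_nonsing_inv g hg, fromBlocks_one]
      rw [Matrix.mul_assoc, ← Matrix.mul_assoc G, h1, Matrix.one_mul, ← Matrix.map_mul, hHH']
      simp
    · have hGx : G *ᵥ x = Sum.elim ![x (Sum.inl 0), x (Sum.inr 0)]
          (g *ᵥ Sum.elim (fun j => x (Sum.inl j.succ)) (fun j => x (Sum.inr j.succ))) := by
        rw [show G = (fromBlocks (1 : Matrix (Fin 2) (Fin 2) B) 0 0 g).submatrix id ee from rfl,
          submatrix_mulVec_equiv, Function.comp_id]
        have : x ∘ ee.symm = Sum.elim ![x (Sum.inl 0), x (Sum.inr 0)]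
            (Sum.elim (fun j => x (Sum.inl j.succ)) (fun j => x (Sum.inr j.succ))) := by
          ext t
          obtain ⟨t, rfl⟩ := ee.surjective t
          rw [Function.comp_apply, Equiv.symm_apply_apply]
          rcases t with t | t <;> refine Fin.cases ?_ (fun j => ?_) t <;> simp [ee]
        rw [this, fromBlocks_mulVec]
        simp [Function.comp_def]
      have hdecB : ∀ (a : Fin 2 → B) (y : Fin m ⊕ Fin m → B),
          qf ((M₂.map φ₃).map ρ) (H.map ρ *ᵥ Sum.elim a y) = a 0 * a 1 + qf (M'.map ρ) y := by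
        intro a y
        have key : (H.map ρ)ᵀ * (M₂.map φ₃).map ρ * H.map ρ = (Hᵀ * M₂.map φ₃ * H).map ρ := by
          rw [Matrix.map_mul, Matrix.map_mul, transpose_map]
        let T : Matrix (Fin 2 ⊕ (Fin m ⊕ Fin m)) (Fin 2 ⊕ (Fin m ⊕ Fin m)) A₃ :=
          fromBlocks !![0, 1; 0, 0] 0 0 M'
        have hT : ∀ z, qf (Hᵀ * M₂.map φ₃ * H) z = qf T z := fun z => by
          rw [← qf_mulVec, ← Sum.elim_comp_inl_inr z, hdec, qf, qf, fromBlocks_mulVec,
            sumElim_dotProduct_sumElim]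
          simp [qf, dotProduct, Fin.sum_univ_two, mulVec]
        rw [qf_mulVec, key, qf_eq_of_forall ρ hT, qf, qf, show T.map ρ =
          fromBlocks (!![0, 1; 0, 0] : Matrix (Fin 2) (Fin 2) B) 0 0 (M'.map ρ) by
            rw [fromBlocks_map]
            congr 1
            · ext a b; fin_cases a <;> fin_cases b <;> simp
            all_goals ext a b; simp,
          fromBlocks_mulVec, sumElim_dotProduct_sumElim]
        simp [dotProduct, Fin.sum_univ_two, mulVec]
      have hMB : M.map (algebraMap A B) = (M₂.map φ₃).map ρ := rfl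
      rw [← mulVec_mulVec, hGx, hMB, hdecB, hgx, hyp, hyp, Fin.sum_univ_succ]
      simp

end Groth.Agent.SGA7X.QuadSplit
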