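import Groth.Agent.P1Inertia.IndEtale

/-! Elements fixed by inertia live in an étale subalgebra of the valuation ring. -/

universe u

set_option autoImplicit false
set_option linter.style.haveILetI false

namespace Groth.Agent.SGA7X.InertField

open Groth.Agent.P1Inertia

set_option maxHeartbeats 1600000 in
theorem exists_etale_sub {A K L : Type u} [CommRing A] [IsDomain A] [IsIntegrallyClosed A]
    [Field K] [Field L] [Algebra A K] [IsFractionRing A K] [Algebra K L] [Algebra A L] [IsScalarTower A K L]
    [IsGalois K L] (q : Ideal (integralClosure A L)) [q.IsPrime]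
    (I : Subgroup (L ≃ₐ[K] L))
    (hI : ∀ σ : L ≃ₐ[K] L, σ ∈ I ↔ ∀ b : integralClosure A L, ∃ c ∈ q, (c : L) = σ b - b)
    (S : Finset L) (hS : ∀ x ∈ S, ∀ σ ∈ I, σ x = x) :
    ∃ (M : Type u) (_ : CommRing M) (_ : Algebra A M) (ψ : M →ₐ[A] L),
      Algebra.Etale A M ∧ Function.Injective ψ ∧
      (∀ m, ∃ c d : integralClosure A L, d ∉ q ∧ ψ m * (d : L) = c) ∧
      ∀ s ∈ S, ∃ a : A, a ≠ 0 ∧ ∃ m, ψ m = algebraMap A L a * s := by
  classical
  obtain ⟨T, hT⟩ := exists_finite_separating q I hI S hS
  let s : Set L := ↑(S ∪ T.image (fun b : integralClosure A L => (b : L)))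
  haveI : Finite s := (S ∪ T.image (fun b : integralClosure A L => (b : L))).finite_toSet.to_subtype
  let E := (FiniteGaloisIntermediateField.adjoin K s).toIntermediateField
  have hsE : s ⊆ E := FiniteGaloisIntermediateField.subset_adjoin K s
  haveI : IsScalarTower A K E := IsScalarTower.of_algebraMap_eq fun a => Subtype.ext (IsScalarTower.algebraMap_apply A K L a)
  let R := integralClosure A E
  let G := E ≃ₐ[K] E
  letI : MulSemiringAction G R := MulSemiringAction.compHom R (galRestrict A K E R).toMonoidHom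
  have hsmul : ∀ (τ : G) (b : R), ((τ • b : R) : E) = τ (b : E) := fun τ b =>
    algebraMap_galRestrict_apply A τ b
  let j : R →ₐ[A] integralClosure A L :=
    AlgHom.codRestrict (((E.val).restrictScalars A).comp (integralClosure A E).val) (integralClosure A L)
      fun b => (b.2 : IsIntegral A (b : E)).map ((E.val).restrictScalars A)
  have hj : ∀ b, ((j b : integralClosure A L) : L) = ((b : E) : L) := fun b => rfl
  let q' := q.comap j
  have hres : ∀ (σ : L ≃ₐ[K] L) (b : E),
      ((AlgEquiv.restrictNormalHom E σ b : E) : L) = σ (b : L) := fun σ b =>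
    AlgEquiv.restrictNormal_commutes σ E b
  let M := FixedPoints.subring R (q'.inertia G)
  let A' := FixedPoints.subring R G
  have hfix : ∀ a : A, algebraMap A R a ∈ A' := fun a τ => Subtype.ext (by
    rw [hsmul]
    show τ (algebraMap A E a) = algebraMap A E a
    rw [IsScalarTower.algebraMap_apply A K E, τ.commutes])
  let ρ : A →+* A' := (algebraMap A R).codRestrict A' hfix
  letI : Algebra A A' := ρ.toAlgebra
  letI : Algebra A M := ((algebraMap A' M).comp ρ).toAlgebra
  haveI : IsScalarTower A A' M := IsScalarTower.of_algebraMap_eq fun _ => rfl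
  have hρ : Function.Bijective ρ := by
    refine ⟨fun a b h => ?_, fun x => ?_⟩
    · have h' : algebraMap A E a = algebraMap A E b := congrArg (fun z : A' => ((z : R) : E)) h
      rw [IsScalarTower.algebraMap_apply A K E, IsScalarTower.algebraMap_apply A K E] at h'
      exact IsFractionRing.injective A K ((algebraMap K E).injective h')
    · obtain ⟨k, hk⟩ := (IsGalois.mem_range_algebraMap_iff_fixed ((x : R) : E)).2 fun τ =>
        (hsmul τ x).symm.trans (congrArg Subtype.val (x.2 τ))
      have hint : IsIntegral A k := (isIntegral_algHom_iff (IsScalarTower.toAlgHom A K E)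
        (algebraMap K E).injective).1 (by show IsIntegral A (algebraMap K E k); rw [hk]; exact x.1.2)
      obtain ⟨a, ha⟩ := IsIntegrallyClosed.isIntegral_iff.1 hint
      refine ⟨a, Subtype.ext (Subtype.ext ?_)⟩
      show algebraMap A E a = _
      rw [IsScalarTower.algebraMap_apply A K E, ha, hk]
  haveI : Algebra.Etale A A' := Algebra.Etale.of_equiv (AlgEquiv.ofBijective (Algebra.ofId A A') hρ)
  let ψ0 : M →ₐ[A] L :=
    { toFun := fun m => (((m : R) : E) : L)
      map_one' := rfl
      map_mul' := fun _ _ => rfl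
      map_zero' := rfl
      map_add' := fun _ _ => rfl
      commutes' := fun a => by
        show ((algebraMap A E a : E) : L) = algebraMap A L a
        rw [IsScalarTower.algebraMap_apply A K E, IsScalarTower.algebraMap_apply A K L]
        rfl }
  have hψ0 : ∀ m, ψ0 m = ((j (m : R) : integralClosure A L) : L) := fun m => rfl
  have hψ0inj : Function.Injective ψ0 := fun m m' h => Subtype.ext (Subtype.ext (Subtype.ext h))
  haveI : q'.IsPrime := inferInstanceAs (q.comap j).IsPrime
  obtain ⟨g, hg, hget⟩ := P1Inertia.exists_etale_away (G := G) q'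
  have hg0 : ψ0 g ≠ 0 := by
    intro h
    apply hg
    show j (g : R) ∈ q
    rw [show j (g : R) = 0 from Subtype.ext h]
    exact q.zero_mem
  let M1 := Localization.Away g
  haveI : Algebra.Etale A' M1 := hget
  haveI : Algebra.Etale A M1 := Algebra.Etale.comp A A' M1
  let ψ : M1 →ₐ[A] L := IsLocalization.liftAlgHom (M := Submonoid.powers g) (f := ψ0) fun y => by
    obtain ⟨n, hn⟩ := y.2
    rw [← hn, map_pow]
    exact (isUnit_iff_ne_zero.2 hg0).pow n
  have hψ : ∀ m, ψ (algebraMap M M1 m) = ψ0 m := fun m => IsLocalization.lift_eq _ m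
  refine ⟨M1, inferInstance, inferInstance, ψ, inferInstance, ?_, fun m => ?_, fun x hx => ?_⟩
  · refine (IsLocalization.lift_injective_iff _).2 fun a b => ⟨fun h => ?_, fun h => ?_⟩
    · obtain ⟨c, hc⟩ := (IsLocalization.eq_iff_exists (Submonoid.powers g) M1).1 h
      have := congrArg ψ0 hc
      obtain ⟨n, hn⟩ := c.2
      rw [map_mul, map_mul, ← hn, map_pow] at this
      exact mul_left_cancel₀ (pow_ne_zero n hg0) this
    · rw [hψ0inj h]
  · obtain ⟨⟨a, b⟩, hab⟩ := IsLocalization.surj (Submonoid.powers g) m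
    obtain ⟨n, hn⟩ := b.2
    refine ⟨j (a : R), j ((g : R) ^ n), ?_, ?_⟩
    · rw [map_pow]
      exact fun h => hg (Ideal.IsPrime.mem_of_pow_mem inferInstance n h)
    · have h := congrArg ψ hab
      rw [map_mul, hψ, hψ, ← hn] at h
      exact h
  · have hxE : x ∈ E := hsE (Finset.mem_coe.2 (Finset.mem_union_left _ hx))
    have halg : IsAlgebraic A (⟨x, hxE⟩ : E) :=
      (IsFractionRing.isAlgebraic_iff A K E).2 (Algebra.IsAlgebraic.isAlgebraic _)
    obtain ⟨a, ha, hint⟩ := halg.exists_integral_multiple
    refine ⟨a, ha, algebraMap M M1 ⟨⟨a • (⟨x, hxE⟩ : E), hint⟩, ?_⟩, ?_⟩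
    · rintro ⟨τ, hτ⟩
      obtain ⟨σ, rfl⟩ := AlgEquiv.restrictNormalHom_surjective (E := L) τ
      apply Subtype.ext
      refine (hsmul _ _).trans ?_
      show AlgEquiv.restrictNormalHom E σ (a • (⟨x, hxE⟩ : E)) = a • (⟨x, hxE⟩ : E)
      rw [Algebra.smul_def, map_mul, IsScalarTower.algebraMap_apply A K E, AlgEquiv.commutes]
      congr 1
      apply Subtype.ext
      rw [hres]
      refine hT σ (fun b hb => ?_) _ hx
      have hbE : (b : L) ∈ E := hsE (Finset.mem_coe.2 (Finset.mem_union_right _ (Finset.mem_image_of_mem _ hb)))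
      let rb : R := ⟨⟨b, hbE⟩, (isIntegral_algHom_iff ((E.val).restrictScalars A) Subtype.val_injective).1 b.2⟩
      refine ⟨j (AlgEquiv.restrictNormalHom E σ • rb - rb), hτ rb, ?_⟩
      rw [hj]
      simp [hsmul, hres, rb]
    · rw [hψ]
      show ((a • (⟨x, hxE⟩ : E) : E) : L) = _
      rw [Algebra.smul_def]
      rfl

end Groth.Agent.SGA7X.InertField
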