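import Mathlib.Algebra.Module.Basic
import Mathlib.LinearAlgebra.Finsupp.LinearCombination
import Mathlib.LinearAlgebra.Quotient.Basic
import Mathlib.Tactic

/-!
# The extension defined by a symmetric two-cocycle
-/

universe u v

namespace Groth.Agent.SGA7X

/-- A normalisation-free symmetric 2-cocycle. -/
structure SymCocycle (P : Type u) (M : Type v) [AddCommGroup P] [AddCommGroup M] where
  toFun : P → P → M
  cocycle : ∀ p q r, toFun (p + q) r + toFun p q = toFun p (q + r) + toFun q r
  symm : ∀ p q, toFun p q = toFun q p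

namespace SymCocycle

variable {P : Type u} {M : Type v} [AddCommGroup P] [AddCommGroup M] (c : SymCocycle P M)

lemma zero_left (q : P) : c.toFun 0 q = c.toFun 0 0 := by
  have h := c.cocycle 0 0 q
  simp only [add_zero, zero_add] at h
  exact (add_left_cancel h).symm

@[ext]
structure Carrier (c : SymCocycle P M) where
  fst : M
  snd : P

instance : Add (Carrier c) := ⟨fun a b => ⟨a.fst + b.fst + c.toFun a.snd b.snd, a.snd + b.snd⟩⟩
instance : Zero (Carrier c) := ⟨⟨-c.toFun 0 0, 0⟩⟩
instance : Neg (Carrier c) :=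
  ⟨fun a => ⟨-a.fst - c.toFun (-a.snd) a.snd - c.toFun 0 0, -a.snd⟩⟩

@[simp] lemma add_fst (a b : Carrier c) :
    (a + b).fst = a.fst + b.fst + c.toFun a.snd b.snd := rfl
@[simp] lemma add_snd (a b : Carrier c) : (a + b).snd = a.snd + b.snd := rfl
@[simp] lemma zero_fst : (0 : Carrier c).fst = -c.toFun 0 0 := rfl
@[simp] lemma zero_snd : (0 : Carrier c).snd = 0 := rfl
@[simp] lemma neg_fst (a : Carrier c) :
    (-a).fst = -a.fst - c.toFun (-a.snd) a.snd - c.toFun 0 0 := rfl
@[simp] lemma neg_snd (a : Carrier c) : (-a).snd = -a.snd := rfl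

instance : AddCommGroup (Carrier c) where
  add_assoc a b d := by
    ext
    · simp only [add_fst, add_snd]
      calc a.fst + b.fst + c.toFun a.snd b.snd + d.fst + c.toFun (a.snd + b.snd) d.snd
          = a.fst + b.fst + d.fst + (c.toFun (a.snd + b.snd) d.snd + c.toFun a.snd b.snd) := by abel
        _ = a.fst + b.fst + d.fst + (c.toFun a.snd (b.snd + d.snd) + c.toFun b.snd d.snd) := by
          rw [c.cocycle]
        _ = _ := by abel
    · simp [add_assoc]
  zero_add a := by ext <;> simp [zero_left]
  add_zero a := by ext <;> simp [c.symm _ 0, zero_left]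
  add_comm a b := by
    ext
    · simp [c.symm a.snd b.snd, add_comm a.fst b.fst]
    · simp [add_comm]
  neg_add_cancel a := by
    ext
    · simp only [add_fst, neg_fst, neg_snd, zero_fst]; abel
    · simp
  nsmul := nsmulRec
  zsmul := zsmulRec

def incl : M →+ Carrier c where
  toFun m := ⟨m - c.toFun 0 0, 0⟩
  map_zero' := by ext <;> simp
  map_add' m n := by
    ext
    · simp only [add_fst]; abel
    · simp

lemma incl_injective : Function.Injective (incl c) := by
  intro m n h
  simpa [incl, Carrier.ext_iff] using h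

lemma sect_add (p q : P) :
    (⟨0, p⟩ : Carrier c) + ⟨0, q⟩ = incl c (c.toFun p q) + ⟨0, p + q⟩ := by
  ext
  · simp only [incl, AddMonoidHom.coe_mk, ZeroHom.coe_mk, add_fst, zero_left]; abel
  · simp [incl]

end SymCocycle

end Groth.Agent.SGA7X
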