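import Groth.Agent.SGA7X.Sheet

/-! # The sheet through a section of a torsor trivial on connected fibres is open -/

set_option autoImplicit false
set_option linter.style.haveILetI false
set_option backward.isDefEq.respectTransparency.types false

universe u

open CategoryTheory CategoryTheory.Limits MonoidalCategory CartesianMonoidalCategory MonObj AlgebraicGeometry
open Topology Groth.Agent.SchTorsor IsLocalRing

namespace Groth.Agent.SGA7X.SheetOpen

variable {S P : Scheme.{u}} (p : P ⟶ S) [Smooth p] [QuasiCompact p] [QuasiSeparated p]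
  [GeometricallyConnected p] (e : S ⟶ P) (he : e ≫ p = 𝟙 S) {Z : Type u} [Group Z]
  {G : Over P} [GrpObj G] {eG : G ≅ TwC.const P Z} (hG : TwC.IsConstGrp Z G eG)
  (E : NonAbH1.TorsorSch G Scheme.fppfPrecoverage) (e' : S ⟶ E.X.left) (he' : e' ≫ E.X.hom = e)

include eG he he' in
omit [Group Z] [Smooth p] [QuasiCompact p] [QuasiSeparated p] [GeometricallyConnected p] in
/-- A trivialisation of a fibre can be moved to pass through the given section. -/
theorem exists_through (s : S)
    (h : NonAbH1.HasSectionOver E.X (pullback.fst p (S.fromSpecResidueField s))) :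
    ∃ g : p.fiber s ⟶ E.X.left, g ≫ E.X.hom = p.fiberι s ∧ e' s ∈ Set.range g := by
  obtain ⟨h, hh⟩ := h
  let k := S.fromSpecResidueField s
  let j : p.fiber s ⟶ P := pullback.fst p k
  let es : Spec (S.residueField s) ⟶ p.fiber s :=
    pullback.lift (k ≫ e) (𝟙 _) (by rw [Category.assoc, he, Category.comp_id, Category.id_comp])
  have hes : es ≫ j = k ≫ e := pullback.lift_fst _ _ _
  let T : Over P := Over.mk (k ≫ e)
  let a : T ⟶ E.X := Over.homMk (k ≫ e') (by rw [Category.assoc, he']; rfl)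
  let kk : T ⟶ Over.mk j := Over.homMk es hes
  let b : Over.mk j ⟶ E.X := Over.homMk h hh
  obtain ⟨d, hd⟩ := exists_div E.isTorsor.1 a (kk ≫ b)
  haveI : ConnectedSpace T.left := inferInstanceAs (ConnectedSpace (Spec (S.residueField s)))
  obtain ⟨m, hm⟩ := ConstTarget.exists_eq_pt (d ≫ eG.hom)
  have hd' : d = ConstTarget.ptG eG T m := by
    unfold ConstTarget.ptG
    rw [← Category.assoc, ← hm, Category.assoc, Iso.hom_inv_id, Category.comp_id]
  let g := lift (ConstTarget.ptG eG (Over.mk j) m) b ≫ E.act.act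
  have e1 : kk ≫ g = a := by
    rw [comp_lift_assoc, show kk ≫ ConstTarget.ptG eG (Over.mk j) m = d by
      rw [hd']; unfold ConstTarget.ptG
      rw [← Category.assoc, toUnit_unique (kk ≫ toUnit _) (toUnit _)], hd]
  refine ⟨g.left, Over.w g, es default, ?_⟩
  have h2 : es ≫ g.left = k ≫ e' := congrArg CommaMorphism.left e1
  rw [← Scheme.Hom.comp_apply, h2, Scheme.Hom.comp_apply, show k default = s from
    Scheme.fromSpecResidueField_apply s _]

variable (g : ∀ s, p.fiber s ⟶ E.X.left) (hg : ∀ s, g s ≫ E.X.hom = p.fiberι s)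

/-- The union of the ranges of the sections of the fibres. -/
abbrev sheet : Set E.X.left := {x | ∃ s, x ∈ Set.range (g s)}

include hg

omit [Smooth p] [QuasiCompact p] [QuasiSeparated p] [GeometricallyConnected p] in
theorem apply_q (s : S) (z : p.fiber s) : p (E.X.hom (g s z)) = s := by
  have h : E.X.hom (g s z) = p.fiberι s z := by rw [← Scheme.Hom.comp_apply, hg]
  rw [h]
  exact (p.range_fiberι s).le (Set.mem_range_self z)

omit [Smooth p] [QuasiCompact p] [QuasiSeparated p] [GeometricallyConnected p] in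
theorem mem_sheet_iff {x : E.X.left} {s : S} (hx : p (E.X.hom x) = s) :
    x ∈ sheet p E g ↔ x ∈ Set.range (g s) := by
  refine ⟨fun ⟨s', z, hz⟩ => ?_, fun h => ⟨s, h⟩⟩
  obtain rfl : s' = s := by rw [← hx, ← hz, apply_q p E g hg]
  exact ⟨z, hz⟩

include hG

omit [Smooth p] [QuasiCompact p] [QuasiSeparated p] [GeometricallyConnected p] in
/-- In each fibre the sheet is open and closed. -/
theorem fibre_clopen (s : S) : ∃ U : Set ↥(pullback E.X.hom (p.fiberι s)), IsClopen U ∧
    pullback.fst E.X.hom (p.fiberι s) ⁻¹' sheet p E g = U ∧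
    (∀ x, x ∈ Set.range (pullback.fst E.X.hom (p.fiberι s)) ↔ p (E.X.hom x) = s) ∧
    ∀ {T' : Scheme.{u}} (v : T' ⟶ E.X.left) (t : T' ⟶ p.fiber s) (_ : v ≫ E.X.hom = t ≫ p.fiberι s),
      (∀ z, v z ∈ sheet p E g) → v = t ≫ g s := by
  obtain ⟨hU, hU'⟩ := Sheet.section_clopen E hG (p.fiberι s) (g s) (hg s)
  have hr : ∀ x, x ∈ Set.range (pullback.fst E.X.hom (p.fiberι s)) ↔ p (E.X.hom x) = s := fun x => by
    rw [Scheme.Pullback.range_fst, p.range_fiberι]; rfl
  have hW : pullback.fst E.X.hom (p.fiberι s) ⁻¹' sheet p E g = Set.range (pullback.lift (g s) (𝟙 _)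
      (by rw [hg, Category.id_comp]) : p.fiber s ⟶ pullback E.X.hom (p.fiberι s)) := by
    ext w
    rw [Set.mem_preimage, mem_sheet_iff p E g hg ((hr _).1 ⟨w, rfl⟩)]
    refine ⟨fun ⟨z, hz⟩ => ⟨z, (pullback.fst E.X.hom (p.fiberι s)).isEmbedding.injective ?_⟩, ?_⟩
    · rw [← Scheme.Hom.comp_apply, pullback.lift_fst, hz]
    · rintro ⟨z, rfl⟩
      exact ⟨z, by rw [← Scheme.Hom.comp_apply, pullback.lift_fst]⟩
  refine ⟨_, hU, hW, hr, fun v t hv hvW => hU' v t hv fun z => ?_⟩
  rw [← hW, Set.mem_preimage, ← Scheme.Hom.comp_apply, pullback.lift_fst]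
  exact hvW z

omit [Smooth p] [QuasiCompact p] [QuasiSeparated p] [GeometricallyConnected p] in
/-- Points of the sheet with values in a field are determined by their images in `P`. -/
theorem sheet_inj (K : Type u) [Field K] (u v : Spec (.of K) ⟶ E.X.left)
    (huv : u ≫ E.X.hom = v ≫ E.X.hom) (hu : ∀ z, u z ∈ sheet p E g) (hv : ∀ z, v z ∈ sheet p E g) :
    u = v := by
  obtain ⟨φ, hφ⟩ := SheetGen.exists_factor_residue (u ≫ E.X.hom ≫ p)
    (s := p (E.X.hom (u (closedPoint K)))) fun z => by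
      rw [Subsingleton.elim z (closedPoint K)]; rfl
  obtain ⟨U, -, -, -, h⟩ := fibre_clopen p hG E g hg (p (E.X.hom (u (closedPoint K))))
  let t : Spec (.of K) ⟶ p.fiber _ :=
    pullback.lift (u ≫ E.X.hom) φ (by rw [Category.assoc, hφ])
  have ht : t ≫ p.fiberι _ = u ≫ E.X.hom := pullback.lift_fst _ _ _
  rw [h u t ht.symm hu, h v t (huv.symm.trans ht.symm) hv]

variable (hn : ∀ s, e' s ∈ Set.range (g s))
include hn he he'

omit [QuasiSeparated p] in
/-- The sheet is stable under generization. -/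
theorem sheet_gen {x' x : E.X.left} (h : x' ⤳ x) (hx : x ∈ sheet p E g) : x' ∈ sheet p E g := by
  haveI : Etale E.X.hom := Sheet.etale_hom (eG := eG) E
  let q := E.X.hom ≫ p
  obtain ⟨A, l, hl, hcl⟩ := HTopCov.exists_valuationSubring_of_specializes h
  let a : Spec (.of A) ⟶ S := l ≫ q
  let f := pullback.snd q a
  let pr := pullback.fst q a
  let r₁ : Spec (.of A) ⟶ pullback q a := pullback.lift l (𝟙 _) (Category.id_comp _).symm
  let r₂ : Spec (.of A) ⟶ pullback q a := pullback.lift (a ≫ e') (𝟙 _)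
    (by rw [Category.assoc, reassoc_of% he', he, Category.comp_id, Category.id_comp])
  let bot : Spec (.of A) := (⊥ : PrimeSpectrum A)
  let cl : Spec (.of A) := closedPoint A
  have hbot : l bot = x' := by
    let z : PrimeSpectrum (E.X.left.residueField x') := ⊥
    have hz : (Spec.map (CommRingCat.ofHom A.subtype)) z = bot :=
      PrimeSpectrum.ext ((RingHom.injective_iff_ker_eq_bot A.subtype).mp Subtype.val_injective)
    rw [← hz, ← Scheme.Hom.comp_apply, hl]
    exact Scheme.fromSpecResidueField_apply x' z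
  have hsp : bot ⤳ cl := IsLocalRing.specializes_closedPoint _
  let s := a cl
  obtain ⟨φ, hφ⟩ := SheetGen.exists_factor_residue
    (K := ResidueField A) (Spec.map (CommRingCat.ofHom (residue A)) ≫ a) (s := s) fun z => by
      rw [Scheme.Hom.comp_apply]
      refine congrArg a ?_
      rw [Subsingleton.elim z (closedPoint (ResidueField A))]
      exact comap_closedPoint (residue A)
  let k : Spec (.of (ResidueField A)) ⟶ Spec (.of A) := Spec.map (CommRingCat.ofHom (residue A))
  have hk : ∀ z, k z = cl := fun z => by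
    rw [Subsingleton.elim z (closedPoint (ResidueField A))]
    exact comap_closedPoint (residue A)
  let T := pullback p (k ≫ a)
  haveI : IsLocallyNoetherian T := LocallyOfFiniteType.isLocallyNoetherian (pullback.snd p (k ≫ a))
  haveI : CompactSpace T := QuasiCompact.compactSpace_of_compactSpace (pullback.snd p (k ≫ a))
  haveI : IsNoetherian T := {}
  haveI : ConnectedSpace (Spec (CommRingCat.of (ResidueField A))) :=
    inferInstanceAs (ConnectedSpace (PrimeSpectrum (ResidueField A)))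
  let m : T ⟶ p.fiber s := pullback.lift (pullback.fst _ _) (pullback.snd _ _ ≫ φ)
    (by rw [Category.assoc, hφ]; exact pullback.condition)
  have hm : m ≫ p.fiberι s = pullback.fst p (k ≫ a) := pullback.lift_fst _ _ _
  let j : T ⟶ pullback q a := pullback.lift (m ≫ g s) (pullback.snd _ _ ≫ k)
    (by simp only [q, Category.assoc, reassoc_of% (hg s), reassoc_of% hm]
        exact pullback.condition)
  have hrange : ∀ r : Spec (.of A) ⟶ pullback q a, r ≫ f = 𝟙 _ → pr (r cl) ∈ sheet p E g →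
      r cl ∈ Set.range j := by
    intro r hr hmem
    let τ : Spec (.of (ResidueField A)) ⟶ T := pullback.lift (k ≫ r ≫ pr ≫ E.X.hom) (𝟙 _) (by
      simp only [Category.assoc, Category.id_comp]
      rw [show r ≫ pr ≫ E.X.hom ≫ p = r ≫ f ≫ a from congrArg (r ≫ ·) pullback.condition, reassoc_of% hr])
    have hτ : τ ≫ j = k ≫ r := by
      refine pullback.hom_ext ?_ ?_
      · simp only [j, Category.assoc, pullback.lift_fst]
        refine sheet_inj p hG E g hg _ _ _ ?_ (fun z => ⟨s, m (τ z), rfl⟩) fun z => ?_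
        · simp only [Category.assoc, hg, hm, τ, pullback.lift_fst]
          rfl
        · rw [Scheme.Hom.comp_apply, Scheme.Hom.comp_apply, hk]
          exact hmem
      · simp only [j, τ, Category.assoc, pullback.lift_snd, pullback.lift_snd_assoc, Category.id_comp]
        rw [show r ≫ pullback.snd q a = 𝟙 _ from hr, Category.comp_id]
    exact ⟨τ (closedPoint _), by rw [← Scheme.Hom.comp_apply, hτ, Scheme.Hom.comp_apply, hk]⟩
  have hr₁ : r₁ ≫ f = 𝟙 _ := pullback.lift_snd _ _ _
  have hr₂ : r₂ ≫ f = 𝟙 _ := pullback.lift_snd _ _ _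
  have hf₁ : ∀ z, pr (r₁ z) = l z := fun z => by rw [← Scheme.Hom.comp_apply, pullback.lift_fst]
  have hf₂ : ∀ z, pr (r₂ z) = e' (a z) := fun z => by
    rw [← Scheme.Hom.comp_apply, pullback.lift_fst, Scheme.Hom.comp_apply]
  haveI : Smooth f := inferInstance
  have key := SheetGen.mem_of_connected_piece (V := CommRingCat.of A) f (pr ⁻¹' sheet p E g)
    (fun c d hc hd hcd => ?_) j (x := r₂ cl)
    (hrange r₂ hr₂ (by rw [hf₂]; exact ⟨_, hn _⟩)) (hsp.map r₂.continuous)
    (by rw [← Scheme.Hom.comp_apply, hr₂]; rfl) (by rw [Set.mem_preimage, hf₂]; exact ⟨_, hn _⟩)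
    (y := r₁ cl) (hrange r₁ hr₁ (by rw [hf₁, hcl]; exact hx)) (hsp.map r₁.continuous)
    (by rw [← Scheme.Hom.comp_apply, hr₁]; rfl)
  · rwa [Set.mem_preimage, hf₁, hbot] at key
  · obtain ⟨U, hU, hWU, hr, -⟩ := fibre_clopen p hG E g hg (a bot)
    have hq : ∀ w, f w = bot → p (E.X.hom (pr w)) = a bot := fun w hw => by
      have := congrArg (fun (F : pullback q a ⟶ S) => F w) pullback.condition
      simp only [q, Scheme.Hom.comp_apply] at this
      rw [this, ← hw]
    obtain ⟨c', hc'⟩ := (hr _).2 (hq c hc)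
    obtain ⟨d', hd'⟩ := (hr _).2 (hq d hd)
    have hcd' : c' ⤳ d' := by
      rw [← (pullback.fst E.X.hom (p.fiberι (a bot))).isEmbedding.isInducing.specializes_iff, hc', hd']
      exact hcd.map pr.continuous
    rw [Set.mem_preimage, Set.mem_preimage, ← hc', ← hd', ← Set.mem_preimage, ← Set.mem_preimage, hWU]
    exact ⟨fun hu => hcd'.mem_closed hU.1 hu, fun hu => hcd'.mem_open hU.2 hu⟩

/-- The sheet is open. -/
theorem isOpen_sheet : IsOpen (sheet p E g) := by
  haveI : Etale E.X.hom := Sheet.etale_hom (eG := eG) E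
  haveI : IsSeparated E.X.hom := Sheet.isSeparated_hom (eG := eG) E
  let π := E.X.hom
  have hfib : ∀ s, ∃ O O' : Set E.X.left, IsOpen O ∧ IsOpen O' ∧ ∀ x, p (π x) = s →
      ((x ∈ O ↔ x ∈ sheet p E g) ∧ (x ∈ O' ↔ x ∉ sheet p E g)) := by
    intro s
    obtain ⟨U, hU, hWU, hr, -⟩ := fibre_clopen p hG E g hg s
    obtain ⟨O, hO, hOU⟩ := (pullback.fst E.X.hom (p.fiberι s)).isEmbedding.isInducing.isOpen_iff.1 hU.2
    obtain ⟨O', hO', hO'U⟩ :=
      (pullback.fst E.X.hom (p.fiberι s)).isEmbedding.isInducing.isOpen_iff.1 hU.1.isOpen_compl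
    refine ⟨O, O', hO, hO', fun x hx => ?_⟩
    obtain ⟨w, rfl⟩ := (hr x).2 hx
    exact ⟨(Set.ext_iff.1 (hOU.trans hWU.symm) w), (Set.ext_iff.1 (hO'U.trans (congrArg compl hWU.symm)) w)⟩
  rw [isOpen_iff_mem_nhds]
  intro x hx
  obtain ⟨_, ⟨V₀, hV, rfl⟩, hxV, -⟩ :=
    S.isBasis_affineOpens.exists_subset_of_mem_open (Set.mem_univ (p (π x))) isOpen_univ
  let V : S.Opens := V₀
  haveI : IsAffine (V : Scheme.{u}) := hV
  let PV := p ⁻¹ᵁ V
  let EV := π ⁻¹ᵁ PV
  have hmemV : ∀ s : (V : Scheme.{u}), (V.ι ≫ e') s ∈ Set.range EV.ι := fun s => by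
    rw [Scheme.Opens.range_ι]
    show p (π (e' s.1)) ∈ V
    rw [← Scheme.Hom.comp_apply, ← Scheme.Hom.comp_apply, reassoc_of% he', he]
    exact s.2
  let e'' : (V : Scheme.{u}) ⟶ EV := IsOpenImmersion.lift EV.ι (V.ι ≫ e')
    (by rintro _ ⟨s, rfl⟩; exact hmemV s)
  have he'' : ∀ s, (e'' s).1 = e' s.1 := fun s => by
    show EV.ι (e'' s) = _
    rw [← Scheme.Hom.comp_apply, IsOpenImmersion.lift_fac]; rfl
  haveI : QuasiSeparatedSpace (V : Scheme.{u}) := inferInstance
  have hcoe : ∀ w : (EV : Scheme.{u}), ((p ∣_ V) ((π ∣_ PV) w)).1 = p (π w.1) := fun w => by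
    rw [morphismRestrict_base_coe, morphismRestrict_base_coe]
  have hlc := SheetGen.isLocallyConstructible_sheet (π ∣_ PV) (p ∣_ V) e''
    (EV.ι ⁻¹' sheet p E g)
    (fun s => Subtype.ext (by
      rw [hcoe, he'', ← Scheme.Hom.comp_apply, ← Scheme.Hom.comp_apply, reassoc_of% he', he]; rfl))
    (fun s => ⟨s.1, by
      show EV.ι (e'' s) ∈ _
      rw [show EV.ι (e'' s) = e' s.1 from he'' s]; exact hn _⟩)
    (fun s => ((p ∣_ V).isConnected_preimage_singleton s).isPreconnected)
    (fun s => by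
      obtain ⟨O, O', hO, -, h⟩ := hfib s.1
      exact ⟨EV.ι ⁻¹' O, hO.preimage EV.ι.continuous, fun w hw =>
        (h (EV.ι w) ((hcoe w).symm.trans (congrArg Subtype.val hw))).1⟩)
    (fun s => by
      obtain ⟨O, O', -, hO', h⟩ := hfib s.1
      exact ⟨EV.ι ⁻¹' O', hO'.preimage EV.ι.continuous, fun w hw =>
        (h (EV.ι w) ((hcoe w).symm.trans (congrArg Subtype.val hw))).2⟩)
    (fun y => by
      obtain ⟨z, hz⟩ := (p.range_fiberι (p y.1)).ge (rfl : p y.1 = p y.1)
      have hπ : π (g _ z) = y.1 := by rw [← Scheme.Hom.comp_apply, hg, hz]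
      refine ⟨⟨g _ z, show p (π (g _ z)) ∈ V by rw [hπ]; exact y.2⟩, ⟨_, z, rfl⟩, Subtype.ext ?_⟩
      rw [morphismRestrict_base_coe]; exact hπ)
    (fun s => by
      refine EV.ι.isEmbedding.isCompact_iff.2 ?_
      have : EV.ι '' (EV.ι ⁻¹' sheet p E g ∩ {w | (p ∣_ V) ((π ∣_ PV) w) = s}) = Set.range (g s.1) := by
        ext w
        refine ⟨?_, fun hw => ?_⟩
        · rintro ⟨w, ⟨hw, hws⟩, rfl⟩
          exact (mem_sheet_iff p E g hg ((hcoe w).symm.trans (congrArg Subtype.val hws))).1 hw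
        · obtain ⟨z, rfl⟩ := hw
          have hq := apply_q p E g hg s.1 z
          exact ⟨⟨g s.1 z, show p (π (g s.1 z)) ∈ V by rw [hq]; exact s.2⟩,
            ⟨⟨_, z, rfl⟩, Subtype.ext ((hcoe _).trans hq)⟩, rfl⟩
      rw [this]
      haveI : CompactSpace (p.fiber s.1) := inferInstance
      exact isCompact_range (g s.1).continuous)
    (fun K _ u v huv hu hv => by
      rw [← cancel_mono EV.ι]
      refine sheet_inj p hG E g hg K _ _ ?_ hu hv
      have := congrArg (· ≫ PV.ι) huv
      simpa only [Category.assoc, morphismRestrict_ι] using this)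
  have h := FibDim.mem_nhds_of_generizations hlc (y := (⟨x, hxV⟩ : (EV : Scheme.{u}))) fun w hw =>
    sheet_gen p e he hG E e' he' g hg hn (hw.map EV.ι.continuous) hx
  exact Filter.mem_of_superset (EV.ι.isOpenEmbedding.image_mem_nhds.2 h) (Set.image_preimage_subset _ _)

end Groth.Agent.SGA7X.SheetOpen
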