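import Groth.Prelude.Def_TwC
import Groth.Agent.SGA7X.ExtGrp
import Mathlib.AlgebraicGeometry.Limits
import Mathlib.AlgebraicGeometry.ResidueField

/-! # Morphisms into constant group schemes; rigidity of extensions by torsion-free constant groups -/

universe u

open CategoryTheory CategoryTheory.Limits MonoidalCategory CartesianMonoidalCategory MonObj GrpObj
  AlgebraicGeometry
open Groth.Agent.GrpSchLib.TopDescent

set_option linter.style.haveILetI false

namespace Groth.Agent.SGA7X.ConstTarget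

variable {S : Scheme.{u}} {M : Type u}

/-- The copy of `S` of index `m`. -/
noncomputable abbrev piece (m : M) : (TwC.const S M).left.Opens := (Sigma.ι (fun _ : M => S) m).opensRange

theorem exists_mem_piece (x : (TwC.const S M).left) : ∃ m : M, x ∈ piece m := by
  obtain ⟨⟨m, y⟩, hy⟩ := (sigmaMk fun _ : M => S).surjective x
  rw [sigmaMk_mk] at hy
  exact ⟨m, y, hy⟩

theorem piece_inj {m n : M} {x : (TwC.const S M).left} (hm : x ∈ piece m) (hn : x ∈ piece n) : m = n := by
  by_contra h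
  exact (TopologicalSpace.Opens.coe_disjoint.2
    (disjoint_opensRange_sigmaι (fun _ : M => S) m n h)).le_bot ⟨hm, hn⟩

theorem isClopen_piece (m : M) : IsClopen (piece (S := S) m : Set (TwC.const S M).left) := by
  refine ⟨⟨?_⟩, (piece m).2⟩
  have : (piece (S := S) m : Set (TwC.const S M).left)ᶜ = ⋃ (n : M) (_ : n ≠ m), ↑(piece (S := S) n) := by
    ext x
    obtain ⟨n, hn⟩ := exists_mem_piece x
    simp only [Set.mem_compl_iff, SetLike.mem_coe, Set.mem_iUnion]
    exact ⟨fun hx => ⟨n, fun e => hx (e ▸ hn), hn⟩, fun ⟨j, hj, hxj⟩ hx => hj (piece_inj hxj hx)⟩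
  rw [this]
  exact isOpen_iUnion fun n => isOpen_iUnion fun _ => (piece n).2

theorem eq_pt_of_forall_mem {T : Over S} (f : T ⟶ TwC.const S M) (m : M)
    (h : ∀ t, f.left t ∈ piece m) : f = toUnit T ≫ TwC.pt S M m := by
  have hr : Set.range f.left ⊆ Set.range (Sigma.ι (fun _ : M => S) m) := by
    rintro _ ⟨t, rfl⟩
    exact h t
  let l := IsOpenImmersion.lift (Sigma.ι (fun _ : M => S) m) f.left hr
  have hl : l ≫ Sigma.ι (fun _ : M => S) m = f.left := IsOpenImmersion.lift_fac _ _ hr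
  have hw : f.left ≫ (Sigma.desc fun _ : M => 𝟙 S) = T.hom := Over.w f
  have : l = T.hom := by
    rw [← hw, ← hl, Category.assoc, Sigma.ι_desc, Category.comp_id]
  apply Over.OverMorphism.ext
  rw [← hl, this]
  rfl

theorem mem_piece_pt (m : M) (s : S) : (TwC.pt S M m).left s ∈ piece (S := S) m := ⟨s, rfl⟩

theorem exists_eq_pt {T : Over S} [ConnectedSpace T.left] (f : T ⟶ TwC.const S M) :
    ∃ m, f = toUnit T ≫ TwC.pt S M m := by
  obtain ⟨t₀⟩ := (inferInstance : Nonempty T.left)
  obtain ⟨m, hm⟩ := exists_mem_piece (f.left t₀)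
  refine ⟨m, eq_pt_of_forall_mem f m fun t => ?_⟩
  have := ((isClopen_piece m).preimage f.left.continuous).eq_univ ⟨t₀, hm⟩
  exact Set.eq_univ_iff_forall.1 this t

section Grp

variable [Group M] {G : Over S} [GrpObj G] {eG : G ≅ TwC.const S M}

/-- The constant section of index `m`. -/
noncomputable def ptG (eG : G ≅ TwC.const S M) (T : Over S) (m : M) : T ⟶ G := toUnit T ≫ TwC.pt S M m ≫ eG.inv

variable (hG : TwC.IsConstGrp M G eG)
include hG

theorem ptG_mul (T : Over S) (m n : M) : ptG eG T m * ptG eG T n = ptG eG T (m * n) := by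
  unfold ptG
  rw [← MonObj.comp_mul, hG m n]

theorem ptG_one (T : Over S) : ptG eG T 1 = 1 := by
  have := ptG_mul hG T 1 1
  rwa [_root_.mul_one, mul_eq_right] at this

theorem ptG_pow (T : Over S) (m : M) (n : ℕ) : ptG eG T m ^ n = ptG eG T (m ^ n) := by
  induction n with
  | zero => rw [pow_zero, pow_zero, ptG_one hG]
  | succ n ih => rw [pow_succ, pow_succ, ih, ptG_mul hG]

omit hG [Group M] [GrpObj G] in
theorem eq_ptG_of_forall_mem {T : Over S} (f : T ⟶ G) (m : M)
    (h : ∀ t, (f ≫ eG.hom).left t ∈ piece m) : f = ptG eG T m := by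
  have := eq_pt_of_forall_mem (f ≫ eG.hom) m h
  unfold ptG
  rw [← Category.assoc, ← this, Category.assoc, Iso.hom_inv_id, Category.comp_id]

omit hG [Group M] [GrpObj G] in
theorem mem_piece_ptG {T : Over S} (m : M) (t : T.left) : (ptG eG T m ≫ eG.hom).left t ∈ piece m := by
  have : ptG eG T m ≫ eG.hom = toUnit T ≫ TwC.pt S M m := by simp [ptG]
  rw [this, Over.comp_left, Scheme.Hom.comp_apply]
  exact mem_piece_pt m _

/-- A pointed morphism from a connected scheme to a constant group is trivial. -/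
theorem eq_one_of_connected {P : Over S} [ConnectedSpace P.left] (χ : P ⟶ G) (s : S)
    (o : 𝟙_ (Over S) ⟶ P) (ho : o ≫ χ = 1) : χ = 1 := by
  obtain ⟨m, hm⟩ := exists_eq_pt (χ ≫ eG.hom)
  have hχ : χ = ptG eG P m := by
    unfold ptG
    rw [← Category.assoc, ← hm, Category.assoc, Iso.hom_inv_id, Category.comp_id]
  suffices m = 1 by rw [hχ, this, ptG_one hG]
  have e : ptG eG (𝟙_ (Over S)) m = ptG eG (𝟙_ (Over S)) 1 := by
    rw [ptG_one hG, ← ho, hχ]
    unfold ptG
    rw [← Category.assoc o, toUnit_unique (o ≫ toUnit P) (toUnit _)]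
  have h1 := mem_piece_ptG (eG := eG) (T := 𝟙_ (Over S)) m s
  have h2 := mem_piece_ptG (eG := eG) (T := 𝟙_ (Over S)) 1 s
  rw [e] at h1
  exact piece_inj h1 h2

/-- A homomorphism from a quasi-compact group scheme to a torsion-free constant group is trivial. -/
theorem eq_one_of_compact (hZ : ∀ z : M, IsOfFinOrder z → z = 1) {P : Over S} [GrpObj P]
    [CompactSpace P.left] (χ : P ⟶ G) [IsMonHom χ] : χ = 1 := by
  let c := χ ≫ eG.hom
  obtain ⟨F, hF⟩ := isCompact_univ.elim_finite_subcover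
    (fun m : M => c.left ⁻¹' (piece (S := S) m : Set (TwC.const S M).left))
    (fun m => (piece m).2.preimage c.left.continuous) (fun x _ => by
      obtain ⟨m, hm⟩ := exists_mem_piece (c.left x)
      exact Set.mem_iUnion.2 ⟨m, hm⟩)
  suffices h : ∀ x m, c.left x ∈ piece m → m = 1 by
    rw [eq_ptG_of_forall_mem (eG := eG) χ 1 fun x => ?_, ptG_one hG]
    obtain ⟨m, hm⟩ := exists_mem_piece (c.left x)
    have := h x m hm
    subst this
    exact hm
  intro x m hm
  let T : Over S := Over.mk (P.left.fromSpecResidueField x ≫ P.hom)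
  let xT : T ⟶ P := Over.homMk (P.left.fromSpecResidueField x) rfl
  have hxT : xT ≫ χ = ptG eG T m := by
    refine eq_ptG_of_forall_mem _ m fun t => ?_
    rw [Category.assoc, Over.comp_left, Scheme.Hom.comp_apply]
    rw [show xT.left t = x from Scheme.fromSpecResidueField_apply x t]
    exact hm
  have hpow : ∀ n : ℕ, m ^ n ∈ F := by
    intro n
    let t : T.left := (default : Spec (P.left.residueField x))
    have h1 : ((xT ^ n) ≫ χ) = ptG eG T (m ^ n) := by rw [MonObj.pow_comp, hxT, ptG_pow hG]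
    have h2 := mem_piece_ptG (eG := eG) (T := T) (m ^ n) t
    rw [← h1, Category.assoc, Over.comp_left, Scheme.Hom.comp_apply] at h2
    obtain ⟨j, hj, hmem⟩ := Set.mem_iUnion₂.1 (hF (Set.mem_univ ((xT ^ n).left t)))
    rwa [piece_inj h2 hmem]
  apply hZ
  rw [← finite_powers]
  refine F.finite_toSet.subset ?_
  rintro _ ⟨n, rfl⟩
  exact hpow n

end Grp

/-- The deviation from the identity of an automorphism of an extension descends to the quotient. -/
theorem exists_desc_deviation {G E P : Over S} [GrpObj G] [GrpObj E] [GrpObj P] {u : G ⟶ E} {v : E ⟶ P}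
    (hex : NonAbH1.IsExactSeq Scheme.fppfPrecoverage u v) (φ : E ⟶ E) [IsMonHom φ]
    (hu : u ≫ φ = u) (hv : φ ≫ v = v) :
    ∃ χ : P ⟶ G, (v ≫ χ) ≫ u = φ * (𝟙 E)⁻¹ ∧ η[P] ≫ χ = 1 ∧ (IsCommMonObj E → IsMonHom χ) := by
  haveI := hex.1; haveI := hex.2.1
  obtain ⟨k, hk⟩ := exists_ker_lift hex (φ * (𝟙 E)⁻¹)
    (by rw [MonObj.mul_comp, GrpObj.inv_comp, Category.id_comp, hv, _root_.mul_inv_cancel])
  have hkT : ∀ {T : Over S} (x : T ⟶ E), (x ≫ k) ≫ u = (x ≫ φ) * x⁻¹ := fun x => by
    rw [Category.assoc, hk, MonObj.comp_mul, GrpObj.comp_inv, Category.comp_id]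
  have hls := hasLocSec_of_isExactSeq hex
  obtain ⟨χ, hχ, -⟩ := hls.existsUnique_desc k fun T a b hab => by
    obtain ⟨g, hg⟩ := exists_translate hex a b hab
    apply u_cancel hex
    rw [hkT, hkT, ← hg, MonObj.mul_comp, Category.assoc, hu]
    simp [_root_.mul_assoc]
  have hη : η[P] = η[E] ≫ v := (IsMonHom.one_hom v).symm
  have hη1 : η[E] ≫ k = 1 := by
    apply u_cancel hex
    rw [hkT, MonObj.one_comp, IsMonHom.one_hom φ, _root_.mul_inv_cancel]
  refine ⟨χ, by rw [hχ, hk], by rw [hη, Category.assoc, hχ, hη1], fun hc => ?_⟩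
  refine { one_hom := ?_, mul_hom := ?_ }
  · rw [hη, Category.assoc, hχ, hη1, Hom.one_def, toUnit_unit, Category.id_comp]
  · refine (hasLocSec_tensorHom hls hls).hom_ext ?_
    rw [← Category.assoc, ← IsMonHom.mul_hom v, Category.assoc, hχ, MonoidalCategory.tensorHom_comp_tensorHom_assoc, hχ]
    apply u_cancel hex
    rw [hkT, Category.assoc _ μ[G], IsMonHom.mul_hom u, MonoidalCategory.tensorHom_comp_tensorHom_assoc]
    rw [show μ[E] = fst E E * snd E E by simp [Hom.mul_def], MonObj.mul_comp]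
    simp only [MonObj.comp_mul, tensorHom_fst, tensorHom_snd]
    simp only [← Category.assoc _ k, hkT]
    haveI := hc
    rw [_root_.mul_inv_rev, mul_comm (snd E E)⁻¹ (fst E E)⁻¹, _root_.mul_mul_mul_comm]

/-- An automorphism of an extension with trivial deviation is the identity. -/
theorem eq_id_of_desc_eq_one {G E P : Over S} [GrpObj G] [GrpObj E] [GrpObj P] {u : G ⟶ E} {v : E ⟶ P}
    (hex : NonAbH1.IsExactSeq Scheme.fppfPrecoverage u v) (φ : E ⟶ E) (χ : P ⟶ G)
    (h : (v ≫ χ) ≫ u = φ * (𝟙 E)⁻¹) (h1 : χ = 1) : φ = 𝟙 E := by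
  haveI := hex.1
  rw [h1, MonObj.comp_one, MonObj.one_comp] at h
  exact mul_inv_eq_one.1 h.symm

end Groth.Agent.SGA7X.ConstTarget
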