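import Groth.Agent.SGA7X.SheetGen
import Groth.Agent.SGA7X.ConstTarget
import Groth.Agent.SchTorsor.Props
import Groth.Agent.EtFound.Descent
import Mathlib.AlgebraicGeometry.Geometrically.Connected
import Mathlib.AlgebraicGeometry.Morphisms.FlatMono

/-! # Sheets of torsors under constant groups -/

set_option autoImplicit false
set_option linter.style.haveILetI false
set_option backward.isDefEq.respectTransparency.types false

universe u

open CategoryTheory CategoryTheory.Limits MonoidalCategory CartesianMonoidalCategory MonObj AlgebraicGeometry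
open Topology Groth.Agent.SchTorsor

namespace Groth.Agent.SGA7X.Sheet

variable {P : Scheme.{u}} {Z : Type u} [Group Z]

omit [Group Z] in
/-- Constant schemes are étale and separated. -/
theorem etale_const : Etale (TwC.const P Z).hom :=
  IsZariskiLocalAtSource.sigmaDesc fun _ => inferInstance

omit [Group Z] in
theorem isSeparated_const : IsSeparated (TwC.const P Z).hom := by
  let C := TwC.const P Z
  refine ⟨IsClosedImmersion.of_isPreimmersion _ ?_⟩
  have key : Set.range (pullback.diagonal C.hom) =
      ⋃ m : Z, ((pullback.fst C.hom C.hom) ⁻¹' (SetLike.coe (ConstTarget.piece (S := P) m)) ∩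
        (pullback.snd C.hom C.hom) ⁻¹' (SetLike.coe (ConstTarget.piece (S := P) m))) := by
    refine Set.Subset.antisymm ?_ fun z hz => ?_
    · rintro _ ⟨c, rfl⟩
      obtain ⟨m, hm⟩ := ConstTarget.exists_mem_piece c
      refine Set.mem_iUnion.2 ⟨m, ?_, ?_⟩ <;>
        simp only [Set.mem_preimage, ← Scheme.Hom.comp_apply, pullback.diagonal_fst, pullback.diagonal_snd] <;>
        exact hm
    · obtain ⟨m, h1, h2⟩ := Set.mem_iUnion.1 hz
      let i := (pullback C.hom C.hom).fromSpecResidueField z
      let T : Over P := Over.mk (i ≫ pullback.fst C.hom C.hom ≫ C.hom)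
      let a : T ⟶ C := Over.homMk (i ≫ pullback.fst C.hom C.hom) (Category.assoc _ _ _)
      let b : T ⟶ C := Over.homMk (i ≫ pullback.snd C.hom C.hom)
        (by rw [Category.assoc, ← pullback.condition]; rfl)
      have hi : ∀ t : T.left, i t = z := fun t => Scheme.fromSpecResidueField_apply z t
      have hab : a = b := by
        rw [ConstTarget.eq_pt_of_forall_mem a m fun t => ?_, ConstTarget.eq_pt_of_forall_mem b m fun t => ?_]
        all_goals first
          | (show (i ≫ pullback.fst C.hom C.hom) t ∈ ConstTarget.piece m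
             rw [Scheme.Hom.comp_apply, hi]; exact h1)
          | (show (i ≫ pullback.snd C.hom C.hom) t ∈ ConstTarget.piece m
             rw [Scheme.Hom.comp_apply, hi]; exact h2)
      have h : i ≫ pullback.fst C.hom C.hom = i ≫ pullback.snd C.hom C.hom := congrArg CommaMorphism.left hab
      have hfac : i = (i ≫ pullback.fst C.hom C.hom) ≫ pullback.diagonal C.hom := by
        refine pullback.hom_ext ?_ ?_
        · rw [Category.assoc, pullback.diagonal_fst, Category.comp_id]
        · rw [Category.assoc, pullback.diagonal_snd, Category.comp_id, h]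
      refine ⟨(i ≫ pullback.fst C.hom C.hom) (default : Spec ((pullback C.hom C.hom).residueField z)), ?_⟩
      rw [← Scheme.Hom.comp_apply, ← hfac]
      exact Scheme.fromSpecResidueField_apply z _
  rw [key, ← isOpen_compl_iff]
  refine isOpen_iff_forall_mem_open.2 fun z hz => ?_
  obtain ⟨m, hm⟩ := ConstTarget.exists_mem_piece (pullback.fst C.hom C.hom z)
  obtain ⟨n, hn⟩ := ConstTarget.exists_mem_piece (pullback.snd C.hom C.hom z)
  refine ⟨_, fun w hw hw' => ?_, ((ConstTarget.piece m).2.preimage (pullback.fst C.hom C.hom).continuous).inter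
    ((ConstTarget.piece n).2.preimage (pullback.snd C.hom C.hom).continuous), hm, hn⟩
  obtain ⟨k, hk1, hk2⟩ := Set.mem_iUnion.1 hw'
  refine hz (Set.mem_iUnion.2 ⟨m, hm, ?_⟩)
  rw [ConstTarget.piece_inj hw.1 hk1, ← ConstTarget.piece_inj hw.2 hk2]
  exact hn

variable {G : Over P} [GrpObj G] {eG : G ≅ TwC.const P Z} (E : NonAbH1.TorsorSch G Scheme.fppfPrecoverage)

include eG in
theorem etale_hom : Etale E.X.hom := by
  refine torsor_property @Etale (a := E.act) ⟨E.isTorsor.1, ?_⟩ ?_
  · obtain ⟨R, hR, h⟩ := E.isTorsor.2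
    exact ⟨R, Scheme.fppfPrecoverage_le_fpqcPrecoverage _ hR, h⟩
  · haveI := etale_const (P := P) (Z := Z)
    haveI : IsIso eG.hom.left := (Over.forget P).map_isIso eG.hom
    rw [← Over.w eG.hom]
    infer_instance

include eG in
theorem isSeparated_hom : IsSeparated E.X.hom := by
  haveI := EtFound.fpqc_isSeparated.{u}
  refine torsor_property @IsSeparated (a := E.act) ⟨E.isTorsor.1, ?_⟩ ?_
  · obtain ⟨R, hR, h⟩ := E.isTorsor.2
    exact ⟨R, Scheme.fppfPrecoverage_le_fpqcPrecoverage _ hR, h⟩
  · haveI := isSeparated_const (P := P) (Z := Z)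
    haveI : IsIso eG.hom.left := (Over.forget P).map_isIso eG.hom
    rw [← Over.w eG.hom]
    infer_instance

variable (hG : TwC.IsConstGrp Z G eG)
include hG

/-- Two points of a torsor over the same point of the base differ by a morphism to the group whose
unit piece is exactly the locus of coincidence. -/
theorem exists_coincidence {T : Scheme.{u}} (j : T ⟶ P) (u v : T ⟶ E.X.left) (hu : u ≫ E.X.hom = j)
    (hv : v ≫ E.X.hom = j) :
    ∃ U : Set T, IsClopen U ∧ (∀ {T' : Scheme.{u}} (k : T' ⟶ T), (∀ t', k t' ∈ U) → k ≫ u = k ≫ v) ∧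
      ∀ {T' : Scheme.{u}} (k : T' ⟶ T) (t' : T'), k ≫ u = k ≫ v → k t' ∈ U := by
  let a : Over.mk j ⟶ E.X := Over.homMk u hu
  let b : Over.mk j ⟶ E.X := Over.homMk v hv
  obtain ⟨d, hd⟩ := exists_div E.isTorsor.1 a b
  let c : T ⟶ (TwC.const P Z).left := (d ≫ eG.hom).left
  refine ⟨c ⁻¹' (SetLike.coe (ConstTarget.piece (S := P) (1 : Z))),
    (ConstTarget.isClopen_piece (1 : Z)).preimage c.continuous,
    fun {T'} k hk => ?_, fun {T'} k t' he => ?_⟩
  · let kk : Over.mk (k ≫ j) ⟶ Over.mk j := Over.homMk k rfl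
    have h1 : kk ≫ d = 1 := by
      rw [ConstTarget.eq_ptG_of_forall_mem (eG := eG) (kk ≫ d) 1 fun t => ?_, ConstTarget.ptG_one hG]
      rw [Category.assoc]
      exact hk t
    have e : kk ≫ a = kk ≫ b := by rw [← hd, comp_lift_assoc, h1, one_act_pt]
    exact congrArg CommaMorphism.left e
  · let kk : Over.mk (k ≫ j) ⟶ Over.mk j := Over.homMk k rfl
    have e : kk ≫ a = kk ≫ b := Over.OverMorphism.ext he
    have h1 : kk ≫ d = 1 := by
      refine act_free E.isTorsor.1 (y := kk ≫ b) ?_
      rw [← comp_lift_assoc, hd, one_act_pt, e]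
    have h2 := ConstTarget.mem_piece_ptG (eG := eG) (T := Over.mk (k ≫ j)) (1 : Z) t'
    rw [ConstTarget.ptG_one hG, ← h1, Category.assoc] at h2
    exact h2

/-- The range of a section over `T` is open and closed in the restriction of the torsor to `T`. -/
theorem section_clopen {T : Scheme.{u}} (j : T ⟶ P) (σ : T ⟶ E.X.left) (hσ : σ ≫ E.X.hom = j) :
    IsClopen (Set.range (pullback.lift σ (𝟙 T) (by rw [hσ, Category.id_comp]) :
      T ⟶ pullback E.X.hom j)) ∧
    ∀ {T' : Scheme.{u}} (u : T' ⟶ E.X.left) (t : T' ⟶ T) (hu : u ≫ E.X.hom = t ≫ j),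
      (∀ x, pullback.lift u t hu x ∈ Set.range (pullback.lift σ (𝟙 T) (by rw [hσ, Category.id_comp]) :
        T ⟶ pullback E.X.hom j)) → u = t ≫ σ := by
  let σ' : T ⟶ pullback E.X.hom j := pullback.lift σ (𝟙 T) (by rw [hσ, Category.id_comp])
  obtain ⟨U, hU, hU1, hU2⟩ := exists_coincidence E hG (pullback.snd E.X.hom j ≫ j)
    (pullback.fst E.X.hom j) (pullback.snd E.X.hom j ≫ σ) pullback.condition
    (by rw [Category.assoc, hσ])
  have hr : Set.range σ' = U := by
    refine Set.Subset.antisymm ?_ fun w hw => ?_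
    · rintro _ ⟨t, rfl⟩
      refine hU2 σ' t ?_
      simp only [σ', pullback.lift_fst, pullback.lift_snd_assoc, Category.id_comp]
    · let i := (pullback E.X.hom j).fromSpecResidueField w
      have hi : ∀ t, i t = w := fun t => Scheme.fromSpecResidueField_apply w t
      have key := hU1 i fun t => by rw [hi]; exact hw
      refine ⟨pullback.snd E.X.hom j w, ?_⟩
      have : i = (i ≫ pullback.snd E.X.hom j) ≫ σ' := by
        refine pullback.hom_ext ?_ ?_
        · simp only [Category.assoc, σ', pullback.lift_fst, key]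
        · simp only [Category.assoc, σ', pullback.lift_snd, Category.comp_id]
      calc σ' (pullback.snd E.X.hom j w)
          = ((i ≫ pullback.snd E.X.hom j) ≫ σ') default := by
            rw [Scheme.Hom.comp_apply, Scheme.Hom.comp_apply, hi]
        _ = w := by rw [← this]; exact hi _
  refine ⟨hr ▸ hU, fun {T'} u t hu h => ?_⟩
  have := hU1 (pullback.lift u t hu) fun x => hr ▸ h x
  simpa only [pullback.lift_fst, pullback.lift_snd_assoc] using this

end Groth.Agent.SGA7X.Sheet
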