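import Groth.Agent.SGA7X.UnibComp
import Groth.Agent.SGA7X.Sheet
import Groth.Agent.DescLib.EtaleFibre
import Mathlib.AlgebraicGeometry.Morphisms.FlatMono
import Mathlib.FieldTheory.IsAlgClosed.AlgebraicClosure
import Mathlib.FieldTheory.PrimitiveElement
import Mathlib.FieldTheory.Normal.Basic

/-! # Torsors under torsion-free constant groups over smooth schemes on geometrically unibranch bases -/

set_option autoImplicit false
set_option linter.style.haveILetI false
set_option backward.isDefEq.respectTransparency.types false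

universe u

open CategoryTheory CategoryTheory.Limits MonoidalCategory CartesianMonoidalCategory MonObj AlgebraicGeometry
open Topology Groth.Agent.SchTorsor IsLocalRing

namespace Groth.Agent.SGA7X.TorsorTriv

variable {P : Scheme.{u}} {Z : Type u} [Group Z] {G : Over P} [GrpObj G] {eG : G ≅ TwC.const P Z}
  (hG : TwC.IsConstGrp Z G eG) (E : NonAbH1.TorsorSch G Scheme.fppfPrecoverage)

/-- Translation by a constant. -/
noncomputable def tr (eG : G ≅ TwC.const P Z) (z : Z) : E.X ⟶ E.X := lift (ConstTarget.ptG eG E.X z) (𝟙 E.X) ≫ E.act.act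

omit [Group Z] in
theorem comp_tr {T : Over P} (x : T ⟶ E.X) (z : Z) :
    x ≫ tr E eG z = lift (ConstTarget.ptG eG T z) x ≫ E.act.act := by
  rw [tr, comp_lift_assoc, Category.comp_id]
  congr 2
  unfold ConstTarget.ptG
  rw [← Category.assoc, toUnit_unique (x ≫ toUnit _) (toUnit _)]

include hG

theorem tr_tr (z w : Z) : tr E eG z ≫ tr E eG w = tr E eG (w * z) := by
  rw [comp_tr]
  conv_rhs => rw [tr, ← ConstTarget.ptG_mul hG, act_assoc]
  rfl

theorem tr_one : tr E eG (1 : Z) = 𝟙 E.X := by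
  rw [tr, ConstTarget.ptG_one hG, one_act_pt]

/-- Two points over a connected scheme differ by a unique constant. -/
theorem exists_tr {T : Over P} [ConnectedSpace T.left] (x y : T ⟶ E.X) :
    ∃! z : Z, y ≫ tr E eG z = x := by
  obtain ⟨d, hd⟩ := exists_div E.isTorsor.1 x y
  obtain ⟨m, hm⟩ := ConstTarget.exists_eq_pt (d ≫ eG.hom)
  have hd' : d = ConstTarget.ptG eG T m := by
    unfold ConstTarget.ptG
    rw [← Category.assoc, ← hm, Category.assoc, Iso.hom_inv_id, Category.comp_id]
  refine ⟨m, by dsimp only; rw [comp_tr, ← hd', hd], fun n hn => ?_⟩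
  dsimp only at hn
  rw [comp_tr, ← hd] at hn
  have h := (act_free E.isTorsor.1 hn).trans hd'
  obtain ⟨t⟩ := (inferInstance : Nonempty T.left)
  have h1 := ConstTarget.mem_piece_ptG (eG := eG) (T := T) m t
  have h2 := ConstTarget.mem_piece_ptG (eG := eG) (T := T) n t
  rw [h] at h2
  exact ConstTarget.piece_inj h2 h1

variable (hZ : ∀ z : Z, IsOfFinOrder z → z = 1)
include hZ

/-- A torsor under a torsion-free constant group has no residue field extensions. -/
theorem surjective_residueFieldMap (δ : E.X.left) :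
    Function.Surjective (E.X.hom.residueFieldMap δ).hom := by
  haveI : Etale E.X.hom := Sheet.etale_hom (eG := eG) E
  let π := E.X.hom
  let κ := P.residueField (π δ)
  let L := E.X.left.residueField δ
  letI : Algebra κ L := (π.residueFieldMap δ).hom.toAlgebra
  haveI : Etale (Spec.map (π.residueFieldMap δ)) := DescLib.etale_SpecMap_residueFieldMap π δ
  haveI : Algebra.Etale κ L := (HasRingHomProperty.Spec_iff (P := @Etale)).1 ‹Etale (Spec.map (π.residueFieldMap δ))›
  haveI : Module.Finite κ L := Algebra.FormallyUnramified.finite_of_free _ _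
  haveI : Algebra.IsSeparable κ L := (Algebra.FormallyUnramified.iff_isSeparable _ _).1 inferInstance
  let Ω := AlgebraicClosure L
  haveI : Algebra.IsAlgebraic κ Ω := Algebra.IsAlgebraic.trans κ L Ω
  haveI : IsAlgClosure κ Ω := ⟨inferInstance, inferInstance⟩
  haveI : Normal κ Ω := IsAlgClosure.normal κ Ω
  let y : Spec (CommRingCat.of Ω) ⟶ P :=
    Spec.map (CommRingCat.ofHom (algebraMap κ Ω)) ≫ P.fromSpecResidueField (π δ)
  let T : Over P := Over.mk y
  haveI : ConnectedSpace T.left := inferInstanceAs (ConnectedSpace (PrimeSpectrum Ω))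
  let ps : (L →ₐ[κ] Ω) → (Spec (CommRingCat.of Ω) ⟶ E.X.left) := fun σ =>
    Spec.map (CommRingCat.ofHom σ.toRingHom) ≫ E.X.left.fromSpecResidueField δ
  have hps : ∀ σ, ps σ ≫ π = y := fun σ => by
    have h : π.residueFieldMap δ ≫ CommRingCat.ofHom σ.toRingHom = CommRingCat.ofHom (algebraMap κ Ω) := by
      ext a; exact σ.commutes a
    simp only [ps, y, ← h, Spec.map_comp, Category.assoc,
      Scheme.Hom.SpecMap_residueFieldMap_fromSpecResidueField]
    rfl
  let a : (L →ₐ[κ] Ω) → (T ⟶ E.X) := fun σ => Over.homMk (ps σ) (hps σ)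
  have ha : Function.Injective a := fun σ σ' h => by
    have h' : ps σ = ps σ' := congrArg CommaMorphism.left h
    simp only [ps, cancel_mono, Spec.map_inj] at h'
    exact AlgHom.ext fun x => congrArg (fun φ => φ x) (CommRingCat.hom_ext_iff.1 h')
  let σ₀ : L →ₐ[κ] Ω := IsScalarTower.toAlgHom κ L Ω
  choose w hw hwu using fun σ => exists_tr hG E (a σ) (a σ₀)
  dsimp only at hw
  have hkk : ∀ τ : Ω →ₐ[κ] Ω, ∀ σ, w (τ.comp σ) = w σ * w (τ.comp σ₀) := fun τ σ => by
    have hy : Spec.map (CommRingCat.ofHom τ.toRingHom) ≫ y = y := by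
      simp only [y, ← Category.assoc, ← Spec.map_comp]
      congr 2
      ext b; exact τ.commutes b
    let kk : T ⟶ T := Over.homMk (Spec.map (CommRingCat.ofHom τ.toRingHom)) hy
    have hk : ∀ σ, kk ≫ a σ = a (τ.comp σ) := fun σ => by
      apply Over.OverMorphism.ext
      show Spec.map (CommRingCat.ofHom τ.toRingHom) ≫ ps σ = ps (τ.comp σ)
      simp only [ps, ← Category.assoc, ← Spec.map_comp]
      rfl
    refine (hwu (τ.comp σ) _ ?_).symm
    show a σ₀ ≫ tr E eG _ = _
    rw [← tr_tr hG, ← Category.assoc, hw, ← hk, Category.assoc, hw, hk]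
  have hone : ∀ σ, w σ = 1 := fun σ => by
    obtain ⟨τ, hτ⟩ : ∃ τ : Ω →ₐ[κ] Ω, τ.comp σ₀ = σ :=
      ⟨σ.liftNormal Ω, AlgHom.ext fun x => AlgHom.liftNormal_commutes σ Ω x⟩
    have h0 : w σ₀ = 1 := (hwu σ₀ 1 (by dsimp only; rw [tr_one hG, Category.comp_id])).symm
    have hpow : ∀ n : ℕ, ∃ ρ, w ρ = w σ ^ n := by
      intro n
      induction n with
      | zero => exact ⟨σ₀, by rw [h0, pow_zero]⟩
      | succ n ih =>
        obtain ⟨ρ, hρ⟩ := ih
        exact ⟨τ.comp ρ, by rw [hkk, hρ, hτ, pow_succ]⟩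
    apply hZ
    rw [← finite_powers]
    refine (Set.finite_range w).subset ?_
    rintro _ ⟨n, rfl⟩
    exact hpow n
  haveI : Subsingleton (L →ₐ[κ] Ω) := ⟨fun σ σ' => ha (by
    rw [← hw σ, ← hw σ', hone, hone])⟩
  have h1 : Module.finrank κ L = 1 := by
    rw [← AlgHom.card (F := κ) (E := L) Ω]
    exact Fintype.card_eq_one_iff.2 ⟨σ₀, fun σ => Subsingleton.elim _ _⟩
  have h2 := Subalgebra.bot_eq_top_of_finrank_eq_one h1
  intro x
  have hx : x ∈ (⊤ : Subalgebra κ L) := trivial
  rw [← h2, Algebra.mem_bot] at hx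
  exact hx

omit hZ in
/-- Two points over the same point of the base without residue extensions differ by a translation. -/
theorem exists_tr_apply (δ δ' : E.X.left) (h : E.X.hom δ = E.X.hom δ')
    (hδ : Function.Surjective (E.X.hom.residueFieldMap δ).hom)
    (hδ' : Function.Surjective (E.X.hom.residueFieldMap δ').hom) :
    ∃ z : Z, (tr E eG z).left δ = δ' := by
  haveI : IsIso (E.X.hom.residueFieldMap δ) :=
    (ConcreteCategory.isIso_iff_bijective _).2 ⟨(E.X.hom.residueFieldMap δ).hom.injective, hδ⟩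
  haveI : IsIso (E.X.hom.residueFieldMap δ') :=
    (ConcreteCategory.isIso_iff_bijective _).2 ⟨(E.X.hom.residueFieldMap δ').hom.injective, hδ'⟩
  let s : ∀ ε : E.X.left, [IsIso (E.X.hom.residueFieldMap ε)] →
      (Spec (P.residueField (E.X.hom ε)) ⟶ E.X.left) := fun ε _ =>
    Spec.map (inv (E.X.hom.residueFieldMap ε)) ≫ E.X.left.fromSpecResidueField ε
  have hs : ∀ ε : E.X.left, [IsIso (E.X.hom.residueFieldMap ε)] →
      s ε ≫ E.X.hom = P.fromSpecResidueField (E.X.hom ε) := fun ε _ => by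
    simp only [s, Category.assoc, ← Scheme.Hom.SpecMap_residueFieldMap_fromSpecResidueField]
    rw [← Spec.map_comp_assoc, IsIso.hom_inv_id, Spec.map_id, Category.id_comp]
  let T : Over P := Over.mk (P.fromSpecResidueField (E.X.hom δ))
  haveI : ConnectedSpace T.left := inferInstanceAs (ConnectedSpace (PrimeSpectrum (P.residueField (E.X.hom δ))))
  let u : T ⟶ E.X := Over.homMk (s δ) (hs δ)
  let c := Spec.map (P.residueFieldCongr h).inv
  let v : T ⟶ E.X := Over.homMk (c ≫ s δ') (by
    rw [Category.assoc, hs]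
    simp only [c, Scheme.residueFieldCongr_inv]
    exact Scheme.residueFieldCongr_fromSpecResidueField _)
  obtain ⟨z, hz, -⟩ := exists_tr hG E v u
  refine ⟨z, ?_⟩
  obtain ⟨t⟩ := (inferInstance : Nonempty T.left)
  have h1 : u.left t = δ := by
    show (s δ) t = δ
    simp only [s, Scheme.Hom.comp_apply, Scheme.fromSpecResidueField_apply]
  have h2 : v.left t = δ' := by
    show (c ≫ s δ') t = δ'
    simp only [s, Scheme.Hom.comp_apply, Scheme.fromSpecResidueField_apply]
  rw [← h2, ← hz, Over.comp_left, Scheme.Hom.comp_apply, h1]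

/-- Torsors under torsion-free constant groups over smooth schemes on an irreducible geometrically
unibranch scheme are trivial. -/
theorem hasSection {S : Scheme.{u}} [IrreducibleSpace S]
    (hS : ∀ s : S, CAlg2.IsGeomUnibranch (S.presheaf.stalk s)) (f : P ⟶ S) [Smooth f] :
    ∃ g : P ⟶ E.X.left, g ≫ E.X.hom = 𝟙 P := by
  haveI : Etale E.X.hom := Sheet.etale_hom (eG := eG) E
  haveI : IsSeparated E.X.hom := Sheet.isSeparated_hom (eG := eG) E
  let π := E.X.hom
  haveI : Smooth (π ≫ f) := inferInstance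
  have hres := surjective_residueFieldMap hG E hZ
  -- maximal points of `E` lie over maximal points of `P`
  have hpush : ∀ δ : E.X.left, (∀ w, w ⤳ δ → w = δ) → ∀ y, y ⤳ π δ → y = π δ := fun δ hδ y hy => by
    obtain ⟨w, hw, rfl⟩ := Flat.generalizingMap (f := π) hy
    rw [hδ w hw]
  have huniq : ∀ {δ δ' x : E.X.left}, (∀ w, w ⤳ δ → w = δ) → (∀ w, w ⤳ δ' → w = δ') →
      δ ⤳ x → δ' ⤳ x → δ = δ' := fun {δ δ' x} hd hd' h h' => by
    obtain ⟨ε, he, he'⟩ := UnibComp.exists_common_gen hS (π ≫ f) h h'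
    rw [← hd ε he, hd' ε he']
  have hinvtr : ∀ (z : Z) (w : E.X.left), (tr E eG z).left ((tr E eG z⁻¹).left w) = w := fun z w => by
    rw [← Scheme.Hom.comp_apply, ← Over.comp_left, tr_tr hG, mul_inv_cancel, tr_one hG]
    rfl
  have hmaxtr : ∀ (z : Z) (δ : E.X.left), (∀ w, w ⤳ δ → w = δ) →
      ∀ w, w ⤳ (tr E eG z).left δ → w = (tr E eG z).left δ := fun z δ hd w hw => by
    have h1 := hw.map (tr E eG z⁻¹).left.continuous
    have h2 : (tr E eG z⁻¹).left ((tr E eG z).left δ) = δ := by
      have := hinvtr z⁻¹ δ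
      rwa [inv_inv] at this
    rw [h2] at h1
    rw [← hd _ h1, hinvtr]
  -- a maximal point of `E` over each maximal point of `P`
  have hlift : ∀ y : {y : P // ∀ w, w ⤳ y → w = y}, ∃ δ : E.X.left, π δ = y.1 ∧ ∀ w, w ⤳ δ → w = δ := by
    rintro ⟨y, hy⟩
    obtain ⟨R, hR, hsec⟩ := E.isTorsor.2
    obtain ⟨J, U, u, rfl⟩ := R.exists_eq_ofArrows
    have hfq : Presieve.ofArrows U u ∈ Scheme.fpqcPrecoverage P :=
      Scheme.fppfPrecoverage_le_fpqcPrecoverage _ hR
    obtain ⟨i, x, hx⟩ := ((Scheme.ofArrows_mem_precoverage_iff _).1 hfq.2).1 y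
    obtain ⟨σ, hσ⟩ := hsec (u i) (.mk i)
    have hx' : π (σ x) = y := by rw [← Scheme.Hom.comp_apply, hσ]; exact hx
    obtain ⟨δ, hd, hmax⟩ := FibDim.exists_maximal_generization (σ x)
    exact ⟨δ, hy _ ((hd.map π.continuous).trans (specializes_of_eq hx')), hmax⟩
  choose δ hδy hδmax using hlift
  let D : Set E.X.left := Set.range δ
  have hD : ∀ d ∈ D, ∀ w, w ⤳ d → w = d := by rintro _ ⟨y, rfl⟩; exact hδmax y
  have hC := UnibComp.isClopen_union hS (π ≫ f) D hD
  let C : E.X.left.Opens := ⟨_, hC.2⟩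
  let c : (C : Scheme.{u}) ⟶ P := C.ι ≫ π
  have hPuniq : ∀ {y y' x : P}, (∀ w, w ⤳ y → w = y) → (∀ w, w ⤳ y' → w = y') → y ⤳ x → y' ⤳ x → y = y' :=
    fun {y y' x} hd hd' h h' => by
      obtain ⟨ε, he, he'⟩ := UnibComp.exists_common_gen hS f h h'
      rw [← hd ε he, hd' ε he']
  haveI : Mono c := ⟨fun {T} u v huv => by
    rw [← cancel_mono C.ι]
    obtain ⟨U, -, hU1, hU2⟩ := Sheet.exists_coincidence E hG (u ≫ c) (u ≫ C.ι) (v ≫ C.ι)
      (Category.assoc _ _ _) ((Category.assoc _ _ _).trans huv.symm)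
    suffices h : ∀ t, t ∈ U by simpa using hU1 (𝟙 T) fun t => h t
    intro t
    let k := T.fromSpecResidueField t
    let T' : Over P := Over.mk (k ≫ u ≫ c)
    haveI : ConnectedSpace T'.left := inferInstanceAs (ConnectedSpace (PrimeSpectrum (T.residueField t)))
    let a : T' ⟶ E.X := Over.homMk (k ≫ u ≫ C.ι) (by simp only [Category.assoc]; rfl)
    let b : T' ⟶ E.X := Over.homMk (k ≫ v ≫ C.ι) (by
      simp only [Category.assoc]; exact congrArg (k ≫ ·) huv.symm)
    obtain ⟨z, hz, -⟩ := exists_tr hG E a b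
    obtain ⟨_, ⟨y, rfl⟩, hyu⟩ := (u t).2
    obtain ⟨_, ⟨y', rfl⟩, hyv⟩ := (v t).2
    have htk : k (closedPoint (T.residueField t)) = t := Scheme.fromSpecResidueField_apply t _
    have hzt : (tr E eG z).left (v t).1 = (u t).1 := by
      have := congrArg (fun g : T' ⟶ E.X => g.left (closedPoint (T.residueField t))) hz
      simp only [Over.comp_left, Scheme.Hom.comp_apply] at this
      change (tr E eG z).left ((C.ι) (v (k (closedPoint (T.residueField t))))) = C.ι (u (k (closedPoint (T.residueField t)))) at this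
      rw [htk] at this
      exact this
    have huvt : π (u t).1 = π (v t).1 := congrArg (fun g : T ⟶ P => g t) huv
    have hyy : y = y' := Subtype.ext (hPuniq y.2 y'.2 (hδy y ▸ hyu.map π.continuous)
      (by rw [huvt]; exact hδy y' ▸ hyv.map π.continuous))
    subst hyy
    have hfix : (tr E eG z).left (δ y) = δ y :=
      huniq (hmaxtr z _ (hδmax y)) (hδmax y) (hzt ▸ hyv.map (tr E eG z).left.continuous) hyu
    have hz1 : z = 1 := by
      let T₁ : Over P := Over.mk (E.X.left.fromSpecResidueField (δ y) ≫ E.X.hom)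
      haveI : ConnectedSpace T₁.left :=
        inferInstanceAs (ConnectedSpace (PrimeSpectrum (E.X.left.residueField (δ y))))
      let j : T₁ ⟶ E.X := Over.homMk (E.X.left.fromSpecResidueField (δ y)) rfl
      obtain ⟨z₀, -, hu₀⟩ := exists_tr hG E j j
      have e1 : j ≫ tr E eG z = j := by
        apply Over.OverMorphism.ext
        haveI : IsIso (E.X.hom.residueFieldMap (δ y)) := (ConcreteCategory.isIso_iff_bijective _).2
          ⟨(E.X.hom.residueFieldMap (δ y)).hom.injective, hres _⟩
        obtain ⟨φ, hφ⟩ := SheetGen.exists_factor_residue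
          (K := E.X.left.residueField (δ y)) (E.X.left.fromSpecResidueField (δ y) ≫ (tr E eG z).left)
          (s := δ y) fun w => by
            rw [Scheme.Hom.comp_apply, Scheme.fromSpecResidueField_apply, hfix]
        have hφ' : φ = 𝟙 _ := by
          rw [← cancel_mono (Spec.map (E.X.hom.residueFieldMap (δ y))), ← cancel_mono (P.fromSpecResidueField _)]
          simp only [Category.assoc, Category.id_comp,
            Scheme.Hom.SpecMap_residueFieldMap_fromSpecResidueField, reassoc_of% hφ, Over.w]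
        show _ ≫ (tr E eG z).left = E.X.left.fromSpecResidueField (δ y)
        exact hφ.symm.trans (by rw [hφ']; exact Category.id_comp _)
      rw [hu₀ z e1, hu₀ 1 (by dsimp only; rw [tr_one hG, Category.comp_id])]
    rw [hz1, tr_one hG, Category.comp_id] at hz
    have := hU2 k (closedPoint (T.residueField t)) (congrArg CommaMorphism.left hz).symm
    rwa [htk] at this⟩
  haveI : Surjective c := ⟨fun w => by
    obtain ⟨y, hyw, hy⟩ := FibDim.exists_maximal_generization w
    obtain ⟨R, hR, hsec⟩ := E.isTorsor.2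
    obtain ⟨J, U, u, rfl⟩ := R.exists_eq_ofArrows
    have hfq : Presieve.ofArrows U u ∈ Scheme.fpqcPrecoverage P :=
      Scheme.fppfPrecoverage_le_fpqcPrecoverage _ hR
    obtain ⟨i, x₀, hx₀⟩ := ((Scheme.ofArrows_mem_precoverage_iff _).1 hfq.2).1 w
    obtain ⟨σ, hσ⟩ := hsec (u i) (.mk i)
    let x := σ x₀
    have hx : π x = w := by rw [← Scheme.Hom.comp_apply, hσ]; exact hx₀
    obtain ⟨d, hdx, hd⟩ := FibDim.exists_maximal_generization x
    have hdy : π d = y := hPuniq (hpush d hd) hy ((hdx.map π.continuous).trans (specializes_of_eq hx)) hyw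
    obtain ⟨z, hz⟩ := exists_tr_apply hG E d (δ ⟨y, hy⟩) (hdy.trans (hδy ⟨y, hy⟩).symm) (hres _) (hres _)
    refine ⟨⟨(tr E eG z).left x, δ ⟨y, hy⟩, ⟨_, rfl⟩, hz ▸ hdx.map (tr E eG z).left.continuous⟩, ?_⟩
    show π ((tr E eG z).left x) = w
    rw [← Scheme.Hom.comp_apply, Over.w]
    exact hx⟩
  haveI : IsOpenImmersion c := IsOpenImmersion.of_flat_of_mono c
  haveI : IsIso c := (isIso_iff_isOpenImmersion_and_surjective c).2 ⟨inferInstance, inferInstance⟩
  exact ⟨inv c ≫ C.ι, by rw [Category.assoc]; exact IsIso.inv_hom_id c⟩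

end Groth.Agent.SGA7X.TorsorTriv
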