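import Groth.Agent.SGA7X.ConstTarget
import Groth.Agent.GrpSchLib.IdentityComp
import Groth.Agent.EtFound.IntegralProps
import Groth.Agent.H23.LocNoethTop
import Mathlib.AlgebraicGeometry.Morphisms.LocalFlatDescent
import Mathlib.AlgebraicGeometry.Morphisms.FlatDescent

/-! # Extensions of connected groups by torsion-free constant groups split -/

universe u

open CategoryTheory CategoryTheory.Limits MonoidalCategory CartesianMonoidalCategory MonObj GrpObj
  AlgebraicGeometry
open Groth.Agent.GrpSchLib Groth.Agent.GrpSchLib.TopDescent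
open Groth.Agent.SGA7X.ConstTarget

set_option linter.style.haveILetI false
set_option backward.isDefEq.respectTransparency.types false

namespace Groth.Agent.SGA7X.ExtSplit

variable {k : Type u} [Field k] {M : Type u} [Group M]
  {G E P : Over (Spec (CommRingCat.of k))} [GrpObj G] [GrpObj E] [GrpObj P]

/-- The residue field of a point as a scheme over the base. -/
noncomputable abbrev atPt {T : Over (Spec (CommRingCat.of k))} (t : T.left) :
    Over (Spec (CommRingCat.of k)) :=
  Over.mk (T.left.fromSpecResidueField t ≫ T.hom)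

/-- The canonical point of `T` at `t`. -/
noncomputable abbrev ptAt {T : Over (Spec (CommRingCat.of k))} (t : T.left) : atPt t ⟶ T :=
  Over.homMk (T.left.fromSpecResidueField t) rfl

/-- The unique point of `atPt t`. -/
noncomputable abbrev topPt {T : Over (Spec (CommRingCat.of k))} (t : T.left) : (atPt t).left :=
  (default : Spec (T.left.residueField t))

theorem ptAt_top {T : Over (Spec (CommRingCat.of k))} (t : T.left) (x : (atPt t).left) :
    (ptAt t).left x = t := Scheme.fromSpecResidueField_apply t x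

theorem comp_apply' {A B C : Over (Spec (CommRingCat.of k))} (f : A ⟶ B) (g : B ⟶ C) (x : A.left) :
    (f ≫ g).left x = g.left (f.left x) := by
  rw [Over.comp_left, Scheme.Hom.comp_apply]

theorem ext_of_ptAt (eG : G ≅ TwC.const (Spec (CommRingCat.of k)) M)
    {T : Over (Spec (CommRingCat.of k))} (f g : T ⟶ G)
    (h : ∀ t : T.left, ptAt t ≫ f = ptAt t ≫ g) : f = g := by
  let W : M → T.left.Opens := fun m => (f ≫ eG.hom).left ⁻¹ᵁ piece m
  have hW : TopologicalSpace.IsOpenCover W := TopologicalSpace.IsOpenCover.mk (eq_top_iff.2 fun x _ => by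
    obtain ⟨m, hm⟩ := exists_mem_piece ((f ≫ eG.hom).left x)
    exact TopologicalSpace.Opens.mem_iSup.2 ⟨m, hm⟩)
  apply Over.OverMorphism.ext
  refine (T.left.openCoverOfIsOpenCover W hW).hom_ext _ _ fun (m : M) => ?_
  let inc : Over.mk ((W m).ι ≫ T.hom) ⟶ T := Over.homMk (W m).ι rfl
  have hf : inc ≫ f = ptG eG _ m := eq_ptG_of_forall_mem _ m fun y => by
    rw [Category.assoc, comp_apply']
    exact (show (W m).ι y ∈ W m from y.2)
  have hg : inc ≫ g = ptG eG _ m := eq_ptG_of_forall_mem _ m fun y => by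
    have e := congrArg (fun q : atPt ((W m).ι y) ⟶ G => (q ≫ eG.hom).left (topPt ((W m).ι y)))
      (h ((W m).ι y))
    simp only [Category.assoc, comp_apply' (ptAt _), ptAt_top] at e
    rw [Category.assoc, comp_apply', show inc.left y = (W m).ι y from rfl, ← e]
    exact (show (W m).ι y ∈ W m from y.2)
  exact congrArg CommaMorphism.left (hf.trans hg.symm)

theorem etale_of_exact (eG : G ≅ TwC.const (Spec (CommRingCat.of k)) M) {u : G ⟶ E} {v : E ⟶ P}
    (hex : NonAbH1.IsExactSeq Scheme.fppfPrecoverage u v) : Etale v.left := by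
  classical
  have hG : Etale G.hom := by
    have h : eG.hom.left ≫ (Sigma.desc fun _ : M => 𝟙 (Spec (CommRingCat.of k))) = G.hom := Over.w eG.hom
    have : Etale (Sigma.desc fun _ : M => 𝟙 (Spec (CommRingCat.of k))) := EtFound.etale_sigmaDesc _
    have : IsIso eG.hom.left := (Over.forget _).map_isIso eG.hom
    rw [← h]; infer_instance
  have hfst : Etale (fst E G).left := inferInstanceAs (Etale (pullback.fst E.hom G.hom))
  obtain ⟨R, hR, hsec⟩ := hex.2.2.2.2
  have hcov : ∀ x : P.left, ∃ (T : Scheme.{u}) (f : T ⟶ P.left), R f ∧ x ∈ Set.range f := by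
    intro x
    obtain ⟨I, X, f, rfl⟩ := R.exists_eq_ofArrows
    rw [Scheme.fppfPrecoverage, Scheme.ofArrows_mem_precoverage_iff] at hR
    obtain ⟨i, hi⟩ := hR.1 x
    exact ⟨_, f i, .mk i, hi⟩
  have hprop : ∀ {T : Scheme.{u}} (f : T ⟶ P.left), R f → Flat f ∧ LocallyOfFinitePresentation f := by
    intro T f hf
    obtain ⟨I, X, g, rfl⟩ := R.exists_eq_ofArrows
    rw [Scheme.fppfPrecoverage, Scheme.ofArrows_mem_precoverage_iff] at hR
    obtain ⟨i⟩ := hf
    exact hR.2 i
  choose T f hf hx using hcov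
  choose s hs using fun x => hsec (f x) (hf x)
  let σ : (∐ T) ⟶ P.left := Sigma.desc f
  let s' : (∐ T) ⟶ E.left := Sigma.desc s
  have hσ : s' ≫ v.left = σ := Sigma.hom_ext _ _ fun x => by
    simp only [s', σ, ← Category.assoc, Sigma.ι_desc]
    exact hs x
  have : Flat σ := IsZariskiLocalAtSource.sigmaDesc (P := @Flat) fun x => (hprop _ (hf x)).1
  have : LocallyOfFinitePresentation σ :=
    IsZariskiLocalAtSource.sigmaDesc (P := @LocallyOfFinitePresentation) fun x => (hprop _ (hf x)).2
  have : Surjective σ := by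
    refine ⟨fun x => ?_⟩
    obtain ⟨y, hy⟩ := hx x
    exact ⟨Sigma.ι T x y, by rw [← Scheme.Hom.comp_apply]; simpa [σ] using hy⟩
  have hsq := hex.2.2.2.1.map (Over.forget _)
  let q : pullback ((E ◁ u) ≫ μ[E]).left s' ⟶ (E ⊗ G).left := pullback.fst _ _
  have hsq' : IsPullback ((E ◁ u) ≫ μ[E]).left (fst E G).left v.left v.left := hsq.flip
  have hpb : IsPullback (pullback.snd ((E ◁ u) ≫ μ[E]).left s') (q ≫ (fst E G).left) σ v.left := by
    have h' := ((IsPullback.of_hasPullback ((E ◁ u) ≫ μ[E]).left s').flip).paste_vert hsq'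
    rwa [hσ] at h'
  haveI hμ : Etale ((E ◁ u) ≫ μ[E]).left := by
    have : ((E ◁ u) ≫ μ[E]) = (hex.2.2.2.1.flip.isoIsPullback _ _ hex.2.2.2.1).hom ≫ fst E G := by
      simp
    rw [this, Over.comp_left]
    infer_instance
  exact MorphismProperty.of_isPullback_of_descendsAlong
    (Q := @Surjective ⊓ @Flat ⊓ @LocallyOfFinitePresentation) (P := @Etale) hpb
    ⟨⟨inferInstance, inferInstance⟩, inferInstance⟩ inferInstance

theorem isPullback_kernel {u : G ⟶ E} {v : E ⟶ P}
    (hex : NonAbH1.IsExactSeq Scheme.fppfPrecoverage u v) : IsPullback u (toUnit G) v η[P] := by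
  refine ⟨⟨?_⟩, ⟨PullbackCone.IsLimit.mk _ (fun c => (exists_ker_lift hex c.fst ?_).choose)
    (fun c => (exists_ker_lift hex c.fst ?_).choose_spec) (fun c => toUnit_unique _ _)
    fun c m hm _ => u_cancel hex (hm.trans (exists_ker_lift hex c.fst ?_).choose_spec.symm)⟩⟩
  · rw [hex.2.2.1, ← Hom.one_def]
  all_goals
    rw [c.condition, toUnit_unique c.snd (toUnit _), ← Hom.one_def]

/-- The splitting. -/
theorem exists_section (hZ : ∀ z : M, IsOfFinOrder z → z = 1) [LocallyOfFiniteType P.hom]
    [ConnectedSpace P.left] {eG : G ≅ TwC.const (Spec (CommRingCat.of k)) M}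
    (hG : TwC.IsConstGrp M G eG) {u : G ⟶ E} {v : E ⟶ P}
    (hex : NonAbH1.IsExactSeq Scheme.fppfPrecoverage u v) :
    ∃ s : P ⟶ E, IsMonHom s ∧ s ≫ v = 𝟙 P := by
  classical
  haveI := hex.1; haveI := hex.2.1
  haveI := etale_of_exact eG hex
  haveI : LocallyOfFiniteType E.hom := by rw [← Over.w v]; infer_instance
  haveI : IsLocallyNoetherian E.left := LocallyOfFiniteType.isLocallyNoetherian E.hom
  haveI : LocallyConnectedSpace E.left := H23.LocNoethTop.locallyConnectedSpace fun y => by
    obtain ⟨A, hA, hyA, -⟩ := exists_isAffineOpen_mem_and_subset (show y ∈ (⊤ : E.left.Opens) from trivial)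
    haveI : IsNoetherianRing Γ(E.left, A) := IsLocallyNoetherian.component_noetherian ⟨A, hA⟩
    exact ⟨A, A.2.mem_nhds hyA, noetherianSpace_of_isAffineOpen A hA⟩
  let pt0 : Spec (CommRingCat.of k) := IsLocalRing.closedPoint k
  let e1 : E.left := η[E].left pt0
  let C1 : Set E.left := connectedComponent e1
  have hC1o : IsOpen C1 := isOpen_connectedComponent
  -- right translations
  let R : M → (E ⟶ E) := fun m => 𝟙 E * (ptG eG E m ≫ u)
  have hptc : ∀ {T T' : Over (Spec (CommRingCat.of k))} (a : T ⟶ T') (m : M),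
      a ≫ ptG eG T' m = ptG eG T m := fun a m => by
    unfold ptG
    rw [← Category.assoc, toUnit_unique (a ≫ toUnit _) (toUnit _)]
  have hRc : ∀ {T : Over (Spec (CommRingCat.of k))} (x : T ⟶ E) (m : M),
      x ≫ R m = x * (ptG eG T m ≫ u) := fun x m => by
    simp only [R, MonObj.comp_mul, Category.comp_id, ← Category.assoc, hptc]
  have hRR : ∀ m n, R m ≫ R n = R (m * n) := fun m n => by
    rw [hRc]
    simp only [R, _root_.mul_assoc, ← MonObj.mul_comp, ptG_mul hG]
  have hR1 : R 1 = 𝟙 E := by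
    simp only [R, ptG_one hG, MonObj.one_comp, _root_.mul_one]
  have hRR' : ∀ m n (x : E.left), (R n).left ((R m).left x) = (R (m * n)).left x := fun m n x => by
    rw [← hRR, comp_apply']
  have hR1' : ∀ x : E.left, (R 1).left x = x := fun x => by rw [hR1]; simp
  let U : M → Set E.left := fun m => (R m⁻¹).left ⁻¹' C1
  have hUo : ∀ m, IsOpen (U m) := fun m => hC1o.preimage (R m⁻¹).left.continuous
  have hmove : ∀ m {x : E.left}, x ∈ C1 → (R m).left x ∈ U m := fun m x hx => by
    show (R m⁻¹).left ((R m).left x) ∈ C1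
    rwa [hRR', _root_.mul_inv_cancel, hR1']
  -- the stabiliser of the unit component is trivial
  let r : M → E.left := fun m => (R m).left e1
  let H : Set M := {m | r m ∈ C1}
  have hstab : ∀ m, m ∈ H → ∀ x ∈ C1, (R m).left x ∈ C1 := by
    intro m hm x hx
    have hcomp : _root_.IsPreconnected ((R m).left '' C1) :=
      isPreconnected_connectedComponent.image _ (R m).left.continuous.continuousOn
    have h1 := hcomp.subset_connectedComponent ⟨e1, mem_connectedComponent, rfl⟩ ⟨x, hx, rfl⟩
    rw [← connectedComponent_eq hm] at h1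
    exact h1
  have hclosedu : IsClosedImmersion u.left :=
    MorphismProperty.of_isPullback (P := @IsClosedImmersion)
      ((isPullback_kernel hex).map (Over.forget _)).flip
      (inferInstanceAs (IsClosedImmersion η[P].left))
  have hC1c : IsCompact C1 := by
    obtain ⟨G₀, _, i, _, hi, -, hr, -, hcpt⟩ := exists_identityComponent (G := E)
    show IsCompact (connectedComponent e1)
    rw [← hr]
    exact isCompact_range i.left.continuous
  have hrG : ∀ m, r m = u.left ((ptG eG (𝟙_ _) m).left pt0) := fun m => by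
    show (R m).left (η[E].left pt0) = _
    rw [← comp_apply', hRc, MonObj.one_eq_one, _root_.one_mul, comp_apply']
  have hfinH : H.Finite := by
    have hK : IsCompact (u.left ⁻¹' C1) := hclosedu.isClosedEmbedding.isCompact_preimage hC1c
    obtain ⟨F, hF⟩ := hK.elim_finite_subcover
      (fun m : M => ((eG.hom.left ⁻¹ᵁ piece m : G.left.Opens) : Set G.left))
      (fun m => (eG.hom.left ⁻¹ᵁ piece m).2) (fun x _ => by
        obtain ⟨m, hm⟩ := exists_mem_piece (eG.hom.left x)
        exact Set.mem_iUnion.2 ⟨m, hm⟩)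
    refine F.finite_toSet.subset fun m hm => ?_
    have hm' : u.left ((ptG eG (𝟙_ _) m).left pt0) ∈ C1 := by rw [← hrG]; exact hm
    obtain ⟨j, hj, hmem⟩ := Set.mem_iUnion₂.1 (hF hm')
    have h2 := mem_piece_ptG (eG := eG) (T := 𝟙_ _) m pt0
    rw [comp_apply'] at h2
    rwa [piece_inj h2 hmem]
  have hH1 : ∀ m ∈ H, m = 1 := by
    intro m hm
    apply hZ
    rw [← finite_powers]
    refine hfinH.subset ?_
    rintro _ ⟨n, rfl⟩
    induction n with
    | zero =>
      show (R (m ^ 0)).left e1 ∈ C1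
      rw [pow_zero, hR1']
      exact mem_connectedComponent
    | succ n ih =>
      show (R (m ^ (n + 1))).left e1 ∈ C1
      rw [pow_succ, ← hRR']
      exact hstab m hm _ ih
  have huniq : ∀ {m n} {x : E.left}, x ∈ U m → x ∈ U n → m = n := by
    intro m n x hm hn
    let q := m * n⁻¹
    let y := (R m⁻¹).left x
    have hy : y ∈ C1 := hm
    have hqy : (R q).left y ∈ C1 := by
      rw [hRR', show m⁻¹ * q = n⁻¹ by simp [q]]
      exact hn
    have hq : q ∈ H := by
      have hcc : _root_.IsPreconnected ((R q).left '' C1) :=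
        isPreconnected_connectedComponent.image _ (R q).left.continuous.continuousOn
      have := hcc.subset_connectedComponent ⟨y, hy, rfl⟩ ⟨e1, mem_connectedComponent, rfl⟩
      rw [← connectedComponent_eq hqy] at this
      exact this
    exact mul_inv_eq_one.1 (hH1 _ hq)
  -- every point lies in a translate of the unit component
  haveI hPirr : GeometricallyIrreducible P.hom := by
    obtain ⟨g, hg, hge⟩ := exists_isMaxPt (η[P].left pt0)
    have h := connectedComponent_one hg hge
    rw [PreconnectedSpace.connectedComponent_eq_univ] at h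
    haveI : IsClosedImmersion (Over.Hom.left (𝟙 P)) := inferInstanceAs (IsClosedImmersion (𝟙 P.left))
    exact geometricallyIrreducible_one hg hge (𝟙 P) (by simp [← h])
  haveI : IrreducibleSpace P.left :=
    GeometricallyIrreducible.irreducibleSpace_of_subsingleton P.hom
  have hall : ∀ x : E.left, ∃ m, x ∈ U m := by
    intro x
    let C : Set E.left := connectedComponent x
    have hCo : IsOpen C := isOpen_connectedComponent
    obtain ⟨p, ⟨c, hc, rfl⟩, e, he, hpe⟩ := nonempty_preirreducible_inter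
      (v.left.isOpenMap _ hCo) (v.left.isOpenMap _ hC1o)
      ⟨_, x, mem_connectedComponent, rfl⟩ ⟨_, e1, mem_connectedComponent, rfl⟩
    obtain ⟨z, hz1, hz2⟩ : ∃ z : (E ⊗ G).left, (fst E G).left z = e ∧
        ((E ◁ u) ≫ μ[E]).left z = c := Scheme.exists_preimage_of_isPullback
      (hex.2.2.2.1.map (Over.forget _)) e c hpe
    obtain ⟨m, hm⟩ := exists_mem_piece ((snd E G ≫ eG.hom).left z)
    have hsnd : ptAt z ≫ snd E G = ptG eG _ m := by
      refine eq_ptG_of_forall_mem _ m fun t => ?_
      rw [Category.assoc, comp_apply', ptAt_top]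
      exact hm
    have hkey : ptAt z ≫ ((E ◁ u) ≫ μ[E]) = ptAt z ≫ (fst E G ≫ R m) := by
      rw [whiskerLeft_mul, MonObj.comp_mul, ← Category.assoc _ (snd E G), hsnd, ← Category.assoc,
        hRc]
    have hkey' := congrArg (fun f : atPt z ⟶ E => f.left (topPt z)) hkey
    simp only [comp_apply' (ptAt z), ptAt_top, comp_apply' (fst E G)] at hkey'
    refine ⟨m, ?_⟩
    have hcm : c ∈ U m := by
      have hzc : (((E ◁ u) ≫ μ[E])).left z = c := hz2
      have hze : (fst E G).left z = e := hz1
      rw [← hzc, hkey', hze]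
      exact hmove m he
    have hcl : IsClopen (U m) := ⟨(isClosed_connectedComponent).preimage (R m⁻¹).left.continuous, hUo m⟩
    exact hcl.connectedComponent_subset hcm (connectedComponent_eq hc ▸ mem_connectedComponent)
  -- the retraction
  let Uo : M → E.left.Opens := fun m => ⟨U m, hUo m⟩
  let j : (∐ fun m : M => (Uo m).toScheme) ⟶ E.left := Sigma.desc fun m => (Uo m).ι
  haveI : IsOpenImmersion j := isOpenImmersion_sigmaDesc _ _ fun a b hab =>
    Set.disjoint_iff_forall_ne.mpr <| by
      rintro _ ⟨x, rfl⟩ _ ⟨y, rfl⟩ e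
      exact hab (huniq x.2 (show ((Uo a).ι x) ∈ U b by rw [e]; exact y.2))
  haveI : Surjective j := ⟨fun x => by
    obtain ⟨m, hm⟩ := hall x
    exact ⟨Sigma.ι (fun m : M => (Uo m).toScheme) m (⟨x, hm⟩ : (Uo m).toScheme), by
      rw [← Scheme.Hom.comp_apply]; simp [j]⟩⟩
  haveI : IsIso j := (isIso_iff_isOpenImmersion_and_surjective _).2 ⟨inferInstance, inferInstance⟩
  let d : (∐ fun m : M => (Uo m).toScheme) ⟶ (TwC.const (Spec (CommRingCat.of k)) M).left :=
    Sigma.desc fun m => (Uo m).ι ≫ E.hom ≫ Sigma.ι (fun _ : M => Spec (CommRingCat.of k)) m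
  let ρ' : E ⟶ TwC.const (Spec (CommRingCat.of k)) M := Over.homMk (inv j ≫ d) (by
    show (inv j ≫ d) ≫ Sigma.desc _ = E.hom
    rw [← cancel_epi j]
    refine Sigma.hom_ext _ _ fun m => ?_
    simp [j, d])
  let ρ : E ⟶ G := ρ' ≫ eG.inv
  have hρ : ∀ {m} {x : E.left}, x ∈ U m → (ρ ≫ eG.hom).left x ∈ piece m := by
    intro m x hx
    have he : ρ ≫ eG.hom = ρ' := by simp [ρ]
    let y : (Uo m).toScheme := ⟨x, hx⟩
    have hfac : (Uo m).ι ≫ ρ'.left = (Uo m).ι ≫ E.hom ≫ Sigma.ι (fun _ : M => Spec (CommRingCat.of k)) m := by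
      have : (Uo m).ι = Sigma.ι (fun m : M => (Uo m).toScheme) m ≫ j := by simp [j]
      conv_lhs => rw [this]
      simp [ρ', d]
    rw [he, show x = (Uo m).ι y from rfl, ← Scheme.Hom.comp_apply, hfac]
    exact ⟨_, (Scheme.Hom.comp_apply _ _ _).symm⟩
  have hρpt : ∀ {T : Over (Spec (CommRingCat.of k))} (a : T ⟶ E) (m : M),
      (∀ t, a.left t ∈ U m) → a ≫ ρ = ptG eG T m := fun a m h => by
    refine eq_ptG_of_forall_mem _ m fun t => ?_
    rw [Category.assoc, comp_apply']
    exact hρ (h t)
  have hequiv : ∀ {T : Over (Spec (CommRingCat.of k))} (a : T ⟶ E) (h : T ⟶ G),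
      (a * (h ≫ u)) ≫ ρ = (a ≫ ρ) * h := by
    intro T a h
    refine ext_of_ptAt eG _ _ fun t => ?_
    obtain ⟨n, hn⟩ := exists_mem_piece ((h ≫ eG.hom).left t)
    obtain ⟨m, hm⟩ := hall (a.left t)
    have h1 : ptAt t ≫ h = ptG eG _ n := by
      refine eq_ptG_of_forall_mem _ n fun x => ?_
      rw [Category.assoc, comp_apply', ptAt_top]
      exact hn
    have h2 : ∀ x, (ptAt t ≫ a).left x ∈ U m := fun x => by rw [comp_apply', ptAt_top]; exact hm
    have hl : ptAt t ≫ (a * (h ≫ u)) = (ptAt t ≫ a) ≫ R n := by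
      rw [MonObj.comp_mul, ← Category.assoc (ptAt t) h, h1, hRc]
    rw [MonObj.comp_mul, ← Category.assoc (ptAt t) a, hρpt _ m h2, h1, ← Category.assoc, hl,
      hρpt _ (m * n) fun x => ?_, ptG_mul hG]
    rw [comp_apply']
    have := h2 x
    show (R (m * n)⁻¹).left ((R n).left ((ptAt t ≫ a).left x)) ∈ C1
    rw [hRR', _root_.mul_inv_rev, mul_inv_cancel_left]
    exact this
  -- the section
  have hls := hasLocSec_of_isExactSeq hex
  obtain ⟨s, hs, -⟩ := hls.existsUnique_desc (𝟙 E * (ρ ≫ u)⁻¹) fun T a b hab => by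
    obtain ⟨h, rfl⟩ := exists_translate hex a b hab
    simp only [MonObj.comp_mul, GrpObj.comp_inv, Category.comp_id, ← Category.assoc, hequiv,
      MonObj.mul_comp, _root_.mul_inv_rev]
    simp [_root_.mul_assoc]
  have hsv : s ≫ v = 𝟙 P := hls.hom_ext (by
    rw [← Category.assoc, hs, MonObj.mul_comp, GrpObj.inv_comp, comp_v_eq_one hex]
    simp)
  have hs1 : η[P] ≫ s = η[E] := by
    have h1 : η[E] ≫ ρ = 1 := by
      rw [hρpt η[E] 1 fun t => ?_, ptG_one hG]
      show (R 1⁻¹).left _ ∈ C1
      rw [inv_one, hR1', show t = pt0 from @Subsingleton.elim (Spec (CommRingCat.of k)) inferInstance _ _]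
      exact mem_connectedComponent
    rw [← IsMonHom.one_hom v, Category.assoc, hs, MonObj.comp_mul, GrpObj.comp_inv,
      ← Category.assoc, h1, MonObj.one_comp]
    simp
  refine ⟨s, { one_hom := hs1, mul_hom := ?_ }, hsv⟩
  have hPP : ConnectedSpace ↥(P ⊗ P).left := by
    haveI : IrreducibleSpace ↥(pullback P.hom P.hom) :=
      GeometricallyIrreducible.irreducibleSpace (pullback.fst P.hom P.hom)
        (pullback.fst P.hom P.hom).isOpenMap
    exact inferInstanceAs (ConnectedSpace ↥(pullback P.hom P.hom))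
  let δ : P ⊗ P ⟶ E := (μ[P] ≫ s) * ((fst P P ≫ s) * (snd P P ≫ s))⁻¹
  obtain ⟨χ, hχ⟩ := exists_ker_lift hex δ (by
    simp only [δ, MonObj.mul_comp, GrpObj.inv_comp, Category.assoc, hsv, Category.comp_id]
    rw [show μ[P] = fst P P * snd P P by simp [Hom.mul_def], _root_.mul_inv_cancel])
  have hχ1 : χ = 1 := by
    refine eq_one_of_connected hG χ pt0 (lift η[P] η[P]) (u_cancel hex ?_)
    rw [Category.assoc, hχ, MonObj.one_comp]
    simp only [δ, MonObj.comp_mul, GrpObj.comp_inv, lift_fst_assoc, lift_snd_assoc, hs1]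
    rw [← Category.assoc, show lift η[P] η[P] ≫ μ[P] = η[P] by
      rw [← Hom.mul_def, MonObj.one_eq_one, _root_.one_mul], hs1]
    simp [MonObj.one_eq_one]
  rw [hχ1, MonObj.one_comp] at hχ
  have := mul_inv_eq_one.1 hχ.symm
  rw [this]
  simp [Hom.mul_def]

end Groth.Agent.SGA7X.ExtSplit
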