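import Groth.Agent.SGA7X.RosenAlg
import Groth.Prelude.Def_GmPts
import Mathlib.AlgebraicGeometry.AlgClosed.Basic
import Mathlib.AlgebraicGeometry.Geometrically.Reduced
import Mathlib.AlgebraicGeometry.Geometrically.Connected
import Mathlib.FieldTheory.IsAlgClosed.AlgebraicClosure
import Mathlib.Topology.NoetherianSpace
import Mathlib.RingTheory.Jacobson.Ring

/-! Rosenlicht rigidity for morphisms of products to the multiplicative group. -/

set_option autoImplicit false
universe u

open CategoryTheory Limits AlgebraicGeometry MonoidalCategory CartesianMonoidalCategory MonObj TensorProduct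

open TopologicalSpace (NoetherianSpace)

namespace Groth.Agent.SGA7X.Rosen

set_option backward.isDefEq.respectTransparency.types false

/-- Propagation over a connected noetherian Jacobson scheme along pieces `closure {ξ} ∩ U`. -/
theorem forall_closedPoint {X : Scheme.{u}} [NoetherianSpace X] [JacobsonSpace X] [ConnectedSpace X]
    (P : X → Prop) (x₀ : X) (hx₀ : IsClosed ({x₀} : Set X)) (hP : P x₀)
    (step : ∀ (U : X.affineOpens) (ξ x x' : X), x ∈ (U : X.Opens) → x' ∈ (U : X.Opens) → ξ ∈ (U : X.Opens) →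
      IsClosed ({x} : Set X) → IsClosed ({x'} : Set X) → ξ ⤳ x → ξ ⤳ x' → P x → P x') :
    ∀ x : X, IsClosed ({x} : Set X) → P x := by
  have hcomp : ∀ Z ∈ irreducibleComponents X, ∀ x ∈ Z, ∀ x' ∈ Z,
      IsClosed ({x} : Set X) → IsClosed ({x'} : Set X) → P x → P x' := by
    intro Z hZ x hx x' hx' hc hc' hPx
    obtain ⟨U, hU, hxU, -⟩ := exists_isAffineOpen_mem_and_subset (show x ∈ (⊤ : X.Opens) from trivial)
    obtain ⟨U', hU', hxU', -⟩ := exists_isAffineOpen_mem_and_subset (show x' ∈ (⊤ : X.Opens) from trivial)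
    have hZc : IsClosed Z := isClosed_of_mem_irreducibleComponents Z hZ
    obtain ⟨ξ, hξ⟩ := QuasiSober.sober hZ.1 hZc
    have hgen : ∀ y ∈ Z, ξ ⤳ y := fun y hy => hξ.specializes hy
    obtain ⟨c, ⟨⟨hcU, hcU'⟩, hcZ⟩, hcc⟩ := nonempty_inter_closedPoints
      (Z := ((U : Set X) ∩ U') ∩ Z)
      ⟨ξ, ⟨(hgen x hx).mem_open U.2 hxU, (hgen x' hx').mem_open U'.2 hxU'⟩, hξ.mem⟩
      ((U.2.inter U'.2).isLocallyClosed.inter hZc.isLocallyClosed)
    refine step ⟨U', hU'⟩ ξ c x' hcU' hxU' ((hgen x' hx').mem_open U'.2 hxU') hcc hc' (hgen c hcZ) (hgen x' hx') ?_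
    exact step ⟨U, hU⟩ ξ x c hxU hcU ((hgen x hx).mem_open U.2 hxU) hc hcc (hgen x hx) (hgen c hcZ) hPx
  let good : Set (Set X) := {Z ∈ irreducibleComponents X | ∃ x ∈ Z, IsClosed ({x} : Set X) ∧ P x}
  let bad : Set (Set X) := irreducibleComponents X \ good
  have hfin := NoetherianSpace.finite_irreducibleComponents (α := X)
  have hG : IsClosed (⋃₀ good) := by
    rw [Set.sUnion_eq_biUnion]
    exact (hfin.subset fun _ h => h.1).isClosed_biUnion fun Z h => isClosed_of_mem_irreducibleComponents Z h.1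
  have hB : IsClosed (⋃₀ bad) := by
    rw [Set.sUnion_eq_biUnion]
    exact (hfin.subset fun _ h => h.1).isClosed_biUnion fun Z h => isClosed_of_mem_irreducibleComponents Z h.1
  have hdisj : Disjoint (⋃₀ good) (⋃₀ bad) := by
    rw [Set.disjoint_iff]
    intro y hy
    obtain ⟨c, ⟨hcG, hcB⟩, hcc⟩ := nonempty_inter_closedPoints (Z := ⋃₀ good ∩ ⋃₀ bad) ⟨y, hy⟩
      (hG.inter hB).isLocallyClosed
    obtain ⟨Z, ⟨hZ, x, hx, hxc, hPx⟩, hcZ⟩ := hcG
    obtain ⟨Z', ⟨hZ', hnot⟩, hcZ'⟩ := hcB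
    exact hnot ⟨hZ', c, hcZ', hcc, hcomp Z hZ x hx c hcZ hxc hcc hPx⟩
  have huniv : ⋃₀ good ∪ ⋃₀ bad = Set.univ := by
    rw [← Set.sUnion_union, Set.union_sdiff_cancel (fun Z h => h.1), sUnion_irreducibleComponents]
  have hclopen : IsClopen (⋃₀ good) := by
    refine ⟨hG, ?_⟩
    have e : ⋃₀ good = (⋃₀ bad)ᶜ :=
      (IsCompl.compl_eq (IsCompl.symm ⟨hdisj, codisjoint_iff.2 huniv⟩)).symm
    rw [e]
    exact hB.isOpen_compl
  have hne : (⋃₀ good).Nonempty :=
    ⟨x₀, irreducibleComponent x₀, ⟨irreducibleComponent_mem_irreducibleComponents x₀, x₀,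
      mem_irreducibleComponent, hx₀, hP⟩, mem_irreducibleComponent⟩
  intro x hx
  obtain ⟨Z, ⟨hZ, y, hy, hyc, hPy⟩, hxZ⟩ : x ∈ ⋃₀ good := by
    rw [hclopen.eq_univ hne]; trivial
  exact hcomp Z hZ y hy x hxZ hyc hx hPy

theorem eq_one_of_forall_algHom {K A : Type u} [Field K] [IsAlgClosed K] [CommRing A] [IsDomain A]
    [Algebra K A] [Algebra.FiniteType K A] {g : A} (h : ∀ a : A →ₐ[K] K, a g = 1) : g = 1 := by
  have : IsJacobsonRing A := isJacobsonRing_of_finiteType (A := K)
  have hmem : g - 1 ∈ (⊥ : Ideal A).jacobson := by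
    simp only [Ideal.jacobson, Ideal.mem_sInf]
    rintro m ⟨-, hm⟩
    have := hm
    let := Ideal.Quotient.field m
    have : Algebra.FiniteType K (A ⧸ m) := Algebra.FiniteType.of_surjective (Ideal.Quotient.mkₐ K m)
      Ideal.Quotient.mk_surjective
    have : Module.Finite K (A ⧸ m) := finite_of_finite_type_of_isJacobsonRing K (A ⧸ m)
    have hbij : Function.Bijective (algebraMap K (A ⧸ m)) :=
      IsAlgClosed.algebraMap_bijective_of_isIntegral
    let e : K ≃ₐ[K] A ⧸ m := AlgEquiv.ofBijective (Algebra.ofId K (A ⧸ m)) hbij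
    have h1 := h (e.symm.toAlgHom.comp (Ideal.Quotient.mkₐ K m))
    rw [← Ideal.Quotient.eq_zero_iff_mem]
    apply e.symm.injective
    show e.symm.toAlgHom (Ideal.Quotient.mkₐ K m (g - 1)) = e.symm 0
    rw [map_sub, map_sub, map_one, map_one, map_zero]
    exact sub_eq_zero.2 h1
  rwa [IsJacobsonRing.out' (⊥ : Ideal A) Ideal.isPrime_bot.isRadical, Ideal.mem_bot, sub_eq_zero] at hmem

variable {k : Type u} [Field k]

theorem unitOfPt_one {T : Over (Spec (CommRingCat.of k))} :
    GmPts.unitOfPt (1 : T ⟶ Red.Gm (Spec (CommRingCat.of k))) = 1 := by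
  have h := GmPts.unitOfPt_mul (1 : T ⟶ Red.Gm (Spec (CommRingCat.of k))) 1
  exact left_eq_mul.1 ((congrArg GmPts.unitOfPt (_root_.mul_one _)).symm.trans h)

theorem eq_one_iff {T : Over (Spec (CommRingCat.of k))} (w : T ⟶ Red.Gm (Spec (CommRingCat.of k))) :
    w = 1 ↔ Red.gmFn w = 1 := by
  refine ⟨fun h => ?_, fun h => ?_⟩
  · rw [h, ← GmPts.val_unitOfPt, unitOfPt_one]; rfl
  · rw [← GmPts.ptOfUnit_unitOfPt w, ← GmPts.ptOfUnit_unitOfPt (1 : T ⟶ Red.Gm (Spec (CommRingCat.of k)))]
    congr 1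
    rw [unitOfPt_one]
    exact Units.ext h

variable (K : Type u) [Field K] [Algebra k K]

/-- An affine `K`-scheme as a `k`-scheme. -/
noncomputable abbrev sp (A : Type u) [CommRing A] [Algebra K A] : Over (Spec (CommRingCat.of k)) :=
  Over.mk (Spec.map (CommRingCat.ofHom ((algebraMap K A).comp (algebraMap k K))))

/-- The map of a `K`-algebra map. -/
noncomputable def spMap {A B : Type u} [CommRing A] [Algebra K A] [CommRing B] [Algebra K B] (φ : A →ₐ[K] B) :
    sp (k := k) K B ⟶ sp (k := k) K A :=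
  Over.homMk (Spec.map (CommRingCat.ofHom φ.toRingHom)) (by
    show Spec.map _ ≫ Spec.map _ = Spec.map _
    rw [← Spec.map_comp, ← CommRingCat.ofHom_comp, ← RingHom.comp_assoc]
    refine congrArg Spec.map (congrArg CommRingCat.ofHom (RingHom.ext fun c => ?_))
    exact φ.commutes _)

theorem unit_spMap {A B : Type u} [CommRing A] [Algebra K A] [CommRing B] [Algebra K B] (φ : A →ₐ[K] B)
    (w : sp (k := k) K A ⟶ Red.Gm (Spec (CommRingCat.of k))) :
    (Scheme.ΓSpecIso (CommRingCat.of B)).hom (Red.gmFn (spMap K φ ≫ w)) =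
      φ ((Scheme.ΓSpecIso (CommRingCat.of A)).hom (Red.gmFn w)) := by
  rw [← GmPts.val_unitOfPt, GmPts.unitOfPt_comp]
  show ((Spec.map (CommRingCat.ofHom φ.toRingHom)).appTop ≫ (Scheme.ΓSpecIso (CommRingCat.of B)).hom)
      (Red.gmFn w) = _
  rw [Scheme.ΓSpecIso_naturality]
  rfl

theorem spEq_one_iff {A : Type u} [CommRing A] [Algebra K A]
    (w : sp (k := k) K A ⟶ Red.Gm (Spec (CommRingCat.of k))) :
    w = 1 ↔ (Scheme.ΓSpecIso (CommRingCat.of A)).hom (Red.gmFn w) = 1 := by
  rw [eq_one_iff]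
  exact (map_eq_one_iff _ (ConcreteCategory.bijective_of_isIso (Scheme.ΓSpecIso (CommRingCat.of A)).hom).1).symm

variable [IsAlgClosed K] {X Y : Over (Spec (CommRingCat.of k))}
  (u : X ⊗ Y ⟶ Red.Gm (Spec (CommRingCat.of k)))

/-- The value of `u` at a pair of points is trivial. -/
def Good (a : sp (k := k) K K ⟶ X) (b : sp (k := k) K K ⟶ Y) : Prop := lift a b ≫ u = 1

theorem good_piece {A B : Type u} [CommRing A] [IsDomain A] [Algebra K A] [Algebra.FiniteType K A]
    [CommRing B] [IsDomain B] [Algebra K B] [Algebra.FiniteType K B]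
    (i : sp (k := k) K A ⟶ X) (j : sp (k := k) K B ⟶ Y)
    (α₀ : A →ₐ[K] K) (hα₀ : ∀ β, Good K u (spMap K α₀ ≫ i) (spMap K β ≫ j))
    (β₀ : B →ₐ[K] K) (hβ₀ : ∀ α, Good K u (spMap K α ≫ i) (spMap K β₀ ≫ j))
    (α : A →ₐ[K] K) (β : B →ₐ[K] K) : Good K u (spMap K α ≫ i) (spMap K β ≫ j) := by
  let w : sp (k := k) K (A ⊗[K] B) ⟶ Red.Gm (Spec (CommRingCat.of k)) :=
    lift (spMap K (Algebra.TensorProduct.includeLeft : A →ₐ[K] A ⊗[K] B) ≫ i)
      (spMap K (Algebra.TensorProduct.includeRight : B →ₐ[K] A ⊗[K] B) ≫ j) ≫ u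
  let f := (Scheme.ΓSpecIso (CommRingCat.of (A ⊗[K] B))).hom (Red.gmFn w)
  have hf : IsUnit f := by
    refine IsUnit.map _ ?_
    rw [← GmPts.val_unitOfPt]
    exact (GmPts.unitOfPt w).isUnit
  have hspc : ∀ {C D E : Type u} [CommRing C] [Algebra K C] [CommRing D] [Algebra K D] [CommRing E] [Algebra K E]
      (φ : C →ₐ[K] D) (ψ : D →ₐ[K] E), spMap (k := k) K ψ ≫ spMap K φ = spMap K (ψ.comp φ) := by
    intro C D E _ _ _ _ _ _ φ ψ
    apply Over.OverMorphism.ext
    show Spec.map _ ≫ Spec.map _ = Spec.map _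
    rw [← Spec.map_comp]
    rfl
  have key : ∀ α β, Good K u (spMap K α ≫ i) (spMap K β ≫ j) ↔ α (RosenAlg.slice A β f) = 1 := by
    intro α β
    let l := Algebra.TensorProduct.lift α β (fun _ _ => Commute.all _ _)
    have e : lift (spMap K α ≫ i) (spMap K β ≫ j) ≫ u = spMap K l ≫ w := by
      have el : l.comp Algebra.TensorProduct.includeLeft = α := by ext a; simp [l]
      have er : l.comp Algebra.TensorProduct.includeRight = β := by ext b; simp [l]
      rw [← Category.assoc, comp_lift, ← Category.assoc, ← Category.assoc, hspc, hspc, el, er]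
    rw [Good, e, spEq_one_iff, unit_spMap, ← RosenAlg.slice_one]
  have hb₀ : RosenAlg.slice A β₀ f = 1 := eq_one_of_forall_algHom fun a => (key a β₀).1 (hβ₀ a)
  rw [key, RosenAlg.eq_one_at hf β₀ hb₀ α₀ β ((key α₀ β).1 (hα₀ β)), map_one]

omit [IsAlgClosed K] in
theorem exists_piece {X' : Scheme.{u}} (f : X' ⟶ Spec (CommRingCat.of K)) [LocallyOfFiniteType f]
    (U : X'.affineOpens) (ξ : X') (hξ : ξ ∈ (U : X'.Opens)) :
    ∃ (A : Type u) (_ : CommRing A) (_ : IsDomain A) (_ : Algebra K A) (_ : Algebra.FiniteType K A)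
      (i : Spec (CommRingCat.of A) ⟶ X'), i ≫ f = Spec.map (CommRingCat.ofHom (algebraMap K A)) ∧
      ∀ x, x ∈ (U : X'.Opens) → ξ ⤳ x → IsClosed ({x} : Set X') →
        ∀ s : Spec (CommRingCat.of K) ⟶ X', s ≫ f = 𝟙 _ → s (IsLocalRing.closedPoint K) = x →
          ∃ α : A →ₐ[K] K, Spec.map (CommRingCat.ofHom α.toRingHom) ≫ i = s := by
  have hU := U.2
  let φ : CommRingCat.of K ⟶ Γ(X', U) := Spec.preimage (hU.fromSpec ≫ f)
  have hφ : Spec.map φ = hU.fromSpec ≫ f := Spec.map_preimage _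
  have hft : φ.hom.FiniteType := (HasRingHomProperty.Spec_iff (P := @LocallyOfFiniteType)).1 (by
    rw [hφ]; infer_instance)
  let : Algebra K Γ(X', U) := φ.hom.toAlgebra
  have : Algebra.FiniteType K Γ(X', U) := hft
  let p := hU.primeIdealOf ⟨ξ, hξ⟩
  refine ⟨Γ(X', U) ⧸ p.asIdeal, inferInstance, inferInstance, inferInstance,
    Algebra.FiniteType.of_surjective (Ideal.Quotient.mkₐ K p.asIdeal) Ideal.Quotient.mk_surjective,
    Spec.map (CommRingCat.ofHom (Ideal.Quotient.mk p.asIdeal)) ≫ hU.fromSpec, ?_, ?_⟩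
  · rw [Category.assoc, ← hφ, ← Spec.map_comp]
    rfl
  · intro x hxU hξx hx s hs hsx
    let s' := IsOpenImmersion.lift hU.fromSpec s (by
      rintro _ ⟨t, rfl⟩
      rw [hU.range_fromSpec, show t = IsLocalRing.closedPoint K from Subsingleton.elim (α := PrimeSpectrum K) _ _,
        hsx]
      exact hxU)
    have hs' : s' ≫ hU.fromSpec = s := IsOpenImmersion.lift_fac _ _ _
    let e : Γ(X', U) ⟶ CommRingCat.of K := Spec.preimage s'
    have he : Spec.map e = s' := Spec.map_preimage _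
    have hek : ∀ c, e (φ c) = c := by
      have h : Spec.map (φ ≫ e) = Spec.map (𝟙 (CommRingCat.of K)) := by
        rw [Spec.map_comp, hφ, he, reassoc_of% hs', hs, Spec.map_id]
      intro c
      exact congrArg (fun g : CommRingCat.of K ⟶ CommRingCat.of K => g c) (Spec.map_injective h)
    have hle : ∀ a ∈ p.asIdeal, e a = 0 := by
      intro a ha
      have hsp : p ⤳ Spec.map e (IsLocalRing.closedPoint K) := by
        refine (hU.fromSpec.isOpenEmbedding.isInducing.specializes_iff).1 ?_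
        show hU.fromSpec p ⤳ (Spec.map e ≫ hU.fromSpec) (IsLocalRing.closedPoint K)
        rw [he, hs', hsx, hU.fromSpec_primeIdealOf]
        exact hξx
      have hm := (PrimeSpectrum.le_iff_specializes p (Spec.map e (IsLocalRing.closedPoint K))).2 hsp ha
      have hm' : e a ∈ IsLocalRing.maximalIdeal K := hm
      rwa [IsLocalRing.maximalIdeal_eq_bot, Ideal.mem_bot] at hm'
    refine ⟨⟨Ideal.Quotient.lift p.asIdeal e.hom hle, fun c => hek c⟩, ?_⟩
    rw [← Category.assoc, ← Spec.map_comp]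
    exact (congrArg (· ≫ hU.fromSpec) he).trans hs'

/-- The `k`-point given by a `K`-section of the base change. -/
noncomputable def ptOf (Z : Over (Spec (CommRingCat.of k)))
    (s : Spec (CommRingCat.of K) ⟶ pullback Z.hom (Spec.map (CommRingCat.ofHom (algebraMap k K))))
    (hs : s ≫ pullback.snd _ _ = 𝟙 _) : sp (k := k) K K ⟶ Z :=
  Over.homMk (s ≫ pullback.fst _ _) (by
    show (s ≫ pullback.fst _ _) ≫ Z.hom = Spec.map (CommRingCat.ofHom ((algebraMap K K).comp (algebraMap k K)))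
    rw [Category.assoc, pullback.condition, reassoc_of% hs, Algebra.algebraMap_self, RingHom.id_comp])

/-- Propagation over the connected base change. -/
theorem forall_pts (Z : Over (Spec (CommRingCat.of k))) [LocallyOfFiniteType Z.hom] [QuasiCompact Z.hom]
    [GeometricallyConnected Z.hom] (P : (sp (k := k) K K ⟶ Z) → Prop) (z₀ : sp (k := k) K K ⟶ Z) (h₀ : P z₀)
    (step : ∀ (A : Type u) [CommRing A] [IsDomain A] [Algebra K A] [Algebra.FiniteType K A]
      (i : sp (k := k) K A ⟶ Z) (α α' : A →ₐ[K] K), P (spMap K α ≫ i) → P (spMap K α' ≫ i)) :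
    ∀ z, P z := by
  let g := Spec.map (CommRingCat.ofHom (algebraMap k K))
  let q := pullback.snd Z.hom g
  have : LocallyOfFiniteType q := MorphismProperty.pullback_snd (P := @LocallyOfFiniteType) _ _ inferInstance
  have : QuasiCompact q := MorphismProperty.pullback_snd (P := @QuasiCompact) _ _ inferInstance
  have : IsLocallyNoetherian (pullback Z.hom g) := LocallyOfFiniteType.isLocallyNoetherian q
  have : CompactSpace ↥(pullback Z.hom g) := QuasiCompact.compactSpace_of_compactSpace q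
  have : AlgebraicGeometry.IsNoetherian (pullback Z.hom g) := {}
  have : JacobsonSpace ↥(pullback Z.hom g) := LocallyOfFiniteType.jacobsonSpace q
  have : ConnectedSpace ↥(pullback Z.hom g) := pullback_of_geometrically
    (GeometricallyConnected.geometrically_connectedSpace (f := Z.hom)) K g
  have sec : ∀ z : sp (k := k) K K ⟶ Z, ∃ (s : Spec (CommRingCat.of K) ⟶ pullback Z.hom g)
      (hs : s ≫ q = 𝟙 _), ptOf K Z s hs = z := by
    intro z
    refine ⟨pullback.lift z.left (𝟙 _) ?_, pullback.lift_snd _ _ _, ?_⟩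
    · rw [Category.id_comp, Over.w z]
      show Spec.map (CommRingCat.ofHom ((algebraMap K K).comp (algebraMap k K))) = g
      rw [Algebra.algebraMap_self, RingHom.id_comp]
    · apply Over.OverMorphism.ext
      exact pullback.lift_fst _ _ _
  have closed : ∀ s : Spec (CommRingCat.of K) ⟶ pullback Z.hom g, s ≫ q = 𝟙 _ →
      IsClosed ({s (IsLocalRing.closedPoint K)} : Set ↥(pullback Z.hom g)) :=
    fun s hs => ((pointEquivClosedPoint q) ⟨s, hs⟩).2
  obtain ⟨s₀, hs₀, rfl⟩ := sec z₀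
  have main := forall_closedPoint (X := pullback Z.hom g)
    (fun x => ∀ s (hs : s ≫ q = 𝟙 _), s (IsLocalRing.closedPoint K) = x → P (ptOf K Z s hs))
    (s₀ (IsLocalRing.closedPoint K)) (closed s₀ hs₀) (fun s hs h => by
      obtain rfl := ext_of_apply_closedPoint_eq q hs hs₀ h
      exact h₀) (fun U ξ x x' hxU hx'U hξU hx hx' hsp hsp' hP s' hs' hsx' => ?_)
  · intro z
    obtain ⟨s, hs, rfl⟩ := sec z
    exact main _ (closed s hs) s hs rfl
  · obtain ⟨A, _, _, _, _, i, hi, hA⟩ := exists_piece K q U ξ hξU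
    obtain ⟨α, hα⟩ := hA x hxU hsp hx (pointOfClosedPoint q x hx) (pointOfClosedPoint_comp q x hx)
      (pointOfClosedPoint_apply q x hx _)
    obtain ⟨α', hα'⟩ := hA x' hx'U hsp' hx' s' hs' hsx'
    let i' : sp (k := k) K A ⟶ Z := Over.homMk (i ≫ pullback.fst Z.hom g) (by
      show (i ≫ pullback.fst Z.hom g) ≫ Z.hom = _
      rw [Category.assoc, pullback.condition, reassoc_of% hi]
      show _ = Spec.map (CommRingCat.ofHom ((algebraMap K A).comp (algebraMap k K)))
      rw [CommRingCat.ofHom_comp, Spec.map_comp])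
    have e : ∀ (β : A →ₐ[K] K) s (hs : s ≫ q = 𝟙 _), Spec.map (CommRingCat.ofHom β.toRingHom) ≫ i = s →
        ptOf K Z s hs = spMap K β ≫ i' := by
      intro β s hs hβ
      apply Over.OverMorphism.ext
      show s ≫ _ = Spec.map _ ≫ i ≫ pullback.fst Z.hom g
      rw [reassoc_of% hβ]
    rw [e α' s' hs' hα']
    apply step A i' α α'
    rw [← e α _ (pointOfClosedPoint_comp q x hx) hα]
    exact hP _ _ (pointOfClosedPoint_apply q x hx _)

variable [LocallyOfFiniteType X.hom] [QuasiCompact X.hom] [GeometricallyConnected X.hom]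
  [LocallyOfFiniteType Y.hom] [QuasiCompact Y.hom] [GeometricallyConnected Y.hom]

/-- All values are trivial. -/
theorem good_all (eX : 𝟙_ (Over (Spec (CommRingCat.of k))) ⟶ X) (eY : 𝟙_ (Over (Spec (CommRingCat.of k))) ⟶ Y)
    (huX : lift (𝟙 X) (toUnit X ≫ eY) ≫ u = 1) (huY : lift (toUnit Y ≫ eX) (𝟙 Y) ≫ u = 1) :
    ∀ a b, Good K u a b := by
  have hY : ∀ b, Good K u (toUnit _ ≫ eX) b := fun b => by
    have := congrArg (fun w => b ≫ w) huY
    simp only [MonObj.comp_one, ← Category.assoc] at this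
    rwa [comp_lift, Category.comp_id, ← Category.assoc, comp_toUnit] at this
  have hX : ∀ a, Good K u a (toUnit _ ≫ eY) := fun a => by
    have := congrArg (fun w => a ≫ w) huX
    simp only [MonObj.comp_one, ← Category.assoc] at this
    rwa [comp_lift, Category.comp_id, ← Category.assoc, comp_toUnit] at this
  refine forall_pts K X (fun a => ∀ b, Good K u a b) _ hY ?_
  intro A _ _ _ _ i α₀ α hα₀ b
  refine forall_pts K Y (fun b => ∀ α, Good K u (spMap K α ≫ i) b) _ (fun α => hX _) ?_ b α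
  intro B _ _ _ _ j β₀ β hβ₀ α
  exact good_piece K u i j α₀ (fun β => hα₀ _) β₀ hβ₀ α β

omit [QuasiCompact X.hom] [GeometricallyConnected X.hom] [QuasiCompact Y.hom] [GeometricallyConnected Y.hom] in
/-- Over an algebraic closure, triviality is detected on pairs of points. -/
theorem eq_one_of_good [GeometricallyReduced X.hom] [GeometricallyReduced Y.hom] [Algebra.IsAlgebraic k K]
    (h : ∀ a b, Good K u a b) : u = 1 := by
  rw [eq_one_iff, ← sub_eq_zero]
  let t : Γ((X ⊗ Y).left, ⊤) := Red.gmFn u - 1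
  show t = 0
  have : LocallyOfFiniteType (pullback.fst X.hom Y.hom) :=
    MorphismProperty.pullback_fst (P := @LocallyOfFiniteType) _ _ inferInstance
  have : IsLocallyNoetherian X.left := LocallyOfFiniteType.isLocallyNoetherian X.hom
  have hflat : ∀ {Z : Scheme.{u}} (z : Z ⟶ Spec (CommRingCat.of k)), Flat z := fun z => inferInstance
  have : IsReduced X.left := GeometricallyReduced.isReduced_of_flat_of_isLocallyNoetherian X.hom
  have : IsReduced (X ⊗ Y).left := by
    show IsReduced (pullback X.hom Y.hom)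
    infer_instance
  have : LocallyOfFiniteType (X ⊗ Y).hom := by
    show LocallyOfFiniteType (pullback.fst X.hom Y.hom ≫ X.hom)
    infer_instance
  have : JacobsonSpace ↥(X ⊗ Y).left := LocallyOfFiniteType.jacobsonSpace (X ⊗ Y).hom
  by_contra ht
  have hne : ((X ⊗ Y).left.basicOpen t : Set ↥(X ⊗ Y).left).Nonempty := by
    rw [Set.nonempty_iff_ne_empty]
    intro he
    exact ht ((basicOpen_eq_bot_iff t).1 (TopologicalSpace.Opens.ext he))
  obtain ⟨x, hxt, hx⟩ := nonempty_inter_closedPoints hne ((X ⊗ Y).left.basicOpen t).2.isLocallyClosed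
  let φ : CommRingCat.of k ⟶ (X ⊗ Y).left.residueField x :=
    Spec.preimage ((X ⊗ Y).left.fromSpecResidueField x ≫ (X ⊗ Y).hom)
  have hφ : Spec.map φ = (X ⊗ Y).left.fromSpecResidueField x ≫ (X ⊗ Y).hom := Spec.map_preimage _
  have hfin : IsFinite (Spec.map φ) := by
    rw [hφ]
    rw [mem_closedPoints_iff, isClosed_singleton_iff_isClosedImmersion] at hx
    rw [isFinite_iff_locallyOfFiniteType_of_jacobsonSpace]
    infer_instance
  let : Algebra k ((X ⊗ Y).left.residueField x) := φ.hom.toAlgebra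
  have : Module.Finite k ((X ⊗ Y).left.residueField x) := (IsFinite.SpecMap_iff _).1 hfin
  let θ : (X ⊗ Y).left.residueField x →ₐ[k] AlgebraicClosure k := IsAlgClosed.lift
  let θ' : (X ⊗ Y).left.residueField x →ₐ[k] K := (IsAlgClosed.lift (R := k)).comp θ
  let z : sp (k := k) K K ⟶ X ⊗ Y := Over.homMk
    (Spec.map (CommRingCat.ofHom θ'.toRingHom) ≫ (X ⊗ Y).left.fromSpecResidueField x) (by
      show (_ ≫ _) ≫ (X ⊗ Y).hom = Spec.map _
      rw [Category.assoc, ← hφ, ← Spec.map_comp, Algebra.algebraMap_self, RingHom.id_comp]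
      exact congrArg Spec.map (CommRingCat.hom_ext θ'.comp_algebraMap))
  have hz : z ≫ u = 1 := by
    have := h (z ≫ fst X Y) (z ≫ snd X Y)
    rwa [Good, ← comp_lift, lift_fst_snd, Category.comp_id] at this
  have hz' : z.left.appTop t = 0 := by
    have e : z.left.appTop (Red.gmFn u) = 1 := by
      have h1 := (eq_one_iff (z ≫ u)).1 hz
      rw [← GmPts.val_unitOfPt, GmPts.unitOfPt_comp] at h1
      exact h1
    show z.left.appTop (Red.gmFn u - 1) = 0
    rw [map_sub, map_one, e, sub_self]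
  have hzx : z.left (IsLocalRing.closedPoint K) = x := Scheme.fromSpecResidueField_apply x _
  have hmem : IsLocalRing.closedPoint K ∈ z.left ⁻¹ᵁ ((X ⊗ Y).left.basicOpen t) := by
    have h1 : z.left (IsLocalRing.closedPoint K) ∈ (X ⊗ Y).left.basicOpen t := by rw [hzx]; exact hxt
    exact h1
  rw [Scheme.preimage_basicOpen_top, hz', Scheme.basicOpen_zero] at hmem
  exact hmem

end Groth.Agent.SGA7X.Rosen
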