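import Groth.Agent.SGA7X.UnibComp
import Groth.Agent.SGA7X.SheetGen
import Groth.Agent.DescLib.EtaleFibre
import Mathlib.AlgebraicGeometry.Morphisms.FlatMono
import Mathlib.AlgebraicGeometry.Morphisms.FormallyUnramified
import Mathlib.FieldTheory.IsAlgClosed.AlgebraicClosure
import Mathlib.FieldTheory.PrimitiveElement
import Mathlib.FieldTheory.Normal.Basic
import Mathlib.GroupTheory.OrderOfElement

/-! # Étale schemes with a simply transitive action of a torsion-free abstract group on field-valued
points have sections over smooth schemes on geometrically unibranch bases -/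

set_option autoImplicit false
set_option linter.style.haveILetI false
set_option backward.isDefEq.respectTransparency.types false

universe u

open CategoryTheory CategoryTheory.Limits AlgebraicGeometry
open Topology IsLocalRing

namespace Groth.Agent.SGA7X.DiscTriv

variable {P X : Scheme.{u}} (π : X ⟶ P) [Etale π] {Z : Type u} [Group Z]

/-- An abstract group acting on a scheme over a base, simply transitively on field-valued points. -/
structure IsSimplyTransitive (tr : Z → (X ⟶ X)) : Prop where
  comp : ∀ z, tr z ≫ π = π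
  one : tr 1 = 𝟙 X
  mul : ∀ z w, tr z ≫ tr w = tr (w * z)
  unique_pt : ∀ (K : Type u) [Field K] (u v : Spec (CommRingCat.of K) ⟶ X),
    u ≫ π = v ≫ π → ∃! z, v ≫ tr z = u

/-- Morphisms into an unramified scheme are determined by their residue-field points. -/
theorem hom_ext_points {T : Scheme.{u}} (u v : T ⟶ X) (h : u ≫ π = v ≫ π)
    (hp : ∀ t, T.fromSpecResidueField t ≫ u = T.fromSpecResidueField t ≫ v) : u = v := by
  let l : T ⟶ pullback π π := pullback.lift u v h
  have hr : Set.range l ⊆ Set.range (pullback.diagonal π) := by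
    rintro _ ⟨t, rfl⟩
    refine ⟨u t, ?_⟩
    have e : T.fromSpecResidueField t ≫ l = (T.fromSpecResidueField t ≫ u) ≫ pullback.diagonal π := by
      refine pullback.hom_ext ?_ ?_
      · rw [Category.assoc, Category.assoc, pullback.diagonal_fst, Category.comp_id, pullback.lift_fst]
      · rw [Category.assoc, Category.assoc, pullback.diagonal_snd, Category.comp_id, pullback.lift_snd, hp t]
    have := congrArg (fun f : Spec (T.residueField t) ⟶ pullback π π => f (closedPoint (T.residueField t))) e
    simp only [Scheme.Hom.comp_apply, Scheme.fromSpecResidueField_apply] at this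
    exact this.symm
  have hfac : IsOpenImmersion.lift (pullback.diagonal π) l hr ≫ pullback.diagonal π = l :=
    IsOpenImmersion.lift_fac _ _ _
  have h1 := congrArg (· ≫ pullback.fst π π) hfac
  have h2 := congrArg (· ≫ pullback.snd π π) hfac
  simp only [Category.assoc, pullback.diagonal_fst, pullback.diagonal_snd, Category.comp_id, l,
    pullback.lift_fst, pullback.lift_snd] at h1 h2
  exact h1.symm.trans h2

variable {tr : Z → (X ⟶ X)} (H : IsSimplyTransitive π tr)
include H

variable (hZ : ∀ z : Z, IsOfFinOrder z → z = 1)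
include hZ

/-- A torsor under a torsion-free constant group has no residue field extensions. -/
theorem surjective_residueFieldMap (δ : X) :
    Function.Surjective (π.residueFieldMap δ).hom := by
  let π := π
  let κ := P.residueField (π δ)
  let L := X.residueField δ
  letI : Algebra κ L := (π.residueFieldMap δ).hom.toAlgebra
  haveI : Etale (Spec.map (π.residueFieldMap δ)) := DescLib.etale_SpecMap_residueFieldMap π δ
  haveI : Algebra.Etale κ L := (HasRingHomProperty.Spec_iff (P := @Etale)).1 ‹Etale (Spec.map (π.residueFieldMap δ))›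
  haveI : Module.Finite κ L := Algebra.FormallyUnramified.finite_of_free _ _
  haveI : Algebra.IsSeparable κ L := (Algebra.FormallyUnramified.iff_isSeparable _ _).1 inferInstance
  let Ω := AlgebraicClosure L
  haveI : Algebra.IsAlgebraic κ Ω := Algebra.IsAlgebraic.trans κ L Ω
  haveI : IsAlgClosure κ Ω := ⟨inferInstance, inferInstance⟩
  haveI : Normal κ Ω := IsAlgClosure.normal κ Ω
  let y : Spec (CommRingCat.of Ω) ⟶ P :=
    Spec.map (CommRingCat.ofHom (algebraMap κ Ω)) ≫ P.fromSpecResidueField (π δ)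
  let ps : (L →ₐ[κ] Ω) → (Spec (CommRingCat.of Ω) ⟶ X) := fun σ =>
    Spec.map (CommRingCat.ofHom σ.toRingHom) ≫ X.fromSpecResidueField δ
  have hps : ∀ σ, ps σ ≫ π = y := fun σ => by
    have h : π.residueFieldMap δ ≫ CommRingCat.ofHom σ.toRingHom = CommRingCat.ofHom (algebraMap κ Ω) := by
      ext a; exact σ.commutes a
    simp only [ps, y, ← h, Spec.map_comp, Category.assoc,
      Scheme.Hom.SpecMap_residueFieldMap_fromSpecResidueField]
    rfl
  have ha : Function.Injective ps := fun σ σ' h' => by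
    simp only [ps, cancel_mono, Spec.map_inj] at h'
    exact AlgHom.ext fun x => congrArg (fun φ => φ x) (CommRingCat.hom_ext_iff.1 h')
  let σ₀ : L →ₐ[κ] Ω := IsScalarTower.toAlgHom κ L Ω
  choose w hw hwu using fun σ => H.unique_pt Ω (ps σ) (ps σ₀) (by rw [hps, hps])
  dsimp only at hw
  have hkk : ∀ τ : Ω →ₐ[κ] Ω, ∀ σ, w (τ.comp σ) = w σ * w (τ.comp σ₀) := fun τ σ => by
    have hk : ∀ σ, Spec.map (CommRingCat.ofHom τ.toRingHom) ≫ ps σ = ps (τ.comp σ) := fun σ => by
      simp only [ps, ← Category.assoc, ← Spec.map_comp]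
      rfl
    refine (hwu (τ.comp σ) _ ?_).symm
    show ps σ₀ ≫ tr _ = _
    rw [← H.mul, ← Category.assoc, hw, ← hk, Category.assoc, hw, hk]
  have hone : ∀ σ, w σ = 1 := fun σ => by
    obtain ⟨τ, hτ⟩ : ∃ τ : Ω →ₐ[κ] Ω, τ.comp σ₀ = σ :=
      ⟨σ.liftNormal Ω, AlgHom.ext fun x => AlgHom.liftNormal_commutes σ Ω x⟩
    have h0 : w σ₀ = 1 := (hwu σ₀ 1 (by dsimp only; rw [H.one, Category.comp_id])).symm
    have hpow : ∀ n : ℕ, ∃ ρ, w ρ = w σ ^ n := by
      intro n
      induction n with
      | zero => exact ⟨σ₀, by rw [h0, pow_zero]⟩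
      | succ n ih =>
        obtain ⟨ρ, hρ⟩ := ih
        exact ⟨τ.comp ρ, by rw [hkk, hρ, hτ, pow_succ]⟩
    apply hZ
    rw [← finite_powers]
    refine (Set.finite_range w).subset ?_
    rintro _ ⟨n, rfl⟩
    exact hpow n
  haveI : Subsingleton (L →ₐ[κ] Ω) := ⟨fun σ σ' => ha (by
    rw [← hw σ, ← hw σ', hone, hone])⟩
  have h1 : Module.finrank κ L = 1 := by
    rw [← AlgHom.card (F := κ) (E := L) Ω]
    exact Fintype.card_eq_one_iff.2 ⟨σ₀, fun σ => Subsingleton.elim _ _⟩
  have h2 := Subalgebra.bot_eq_top_of_finrank_eq_one h1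
  intro x
  have hx : x ∈ (⊤ : Subalgebra κ L) := trivial
  rw [← h2, Algebra.mem_bot] at hx
  exact hx

omit hZ in
omit [Etale π] in
/-- Two points over the same point of the base without residue extensions differ by a translation. -/
theorem exists_tr_apply (δ δ' : X) (h : π δ = π δ')
    (hδ : Function.Surjective (π.residueFieldMap δ).hom)
    (hδ' : Function.Surjective (π.residueFieldMap δ').hom) :
    ∃ z : Z, (tr z) δ = δ' := by
  haveI : IsIso (π.residueFieldMap δ) :=
    (ConcreteCategory.isIso_iff_bijective _).2 ⟨(π.residueFieldMap δ).hom.injective, hδ⟩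
  haveI : IsIso (π.residueFieldMap δ') :=
    (ConcreteCategory.isIso_iff_bijective _).2 ⟨(π.residueFieldMap δ').hom.injective, hδ'⟩
  let s : ∀ ε : X, [IsIso (π.residueFieldMap ε)] →
      (Spec (P.residueField (π ε)) ⟶ X) := fun ε _ =>
    Spec.map (inv (π.residueFieldMap ε)) ≫ X.fromSpecResidueField ε
  have hs : ∀ ε : X, [IsIso (π.residueFieldMap ε)] →
      s ε ≫ π = P.fromSpecResidueField (π ε) := fun ε _ => by
    simp only [s, Category.assoc, ← Scheme.Hom.SpecMap_residueFieldMap_fromSpecResidueField]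
    rw [← Spec.map_comp_assoc, IsIso.hom_inv_id, Spec.map_id, Category.id_comp]
  let c := Spec.map (P.residueFieldCongr h).inv
  obtain ⟨z, hz, -⟩ := H.unique_pt (P.residueField (π δ)) (c ≫ s δ') (s δ) (by
    rw [Category.assoc, hs, hs]
    simp only [c, Scheme.residueFieldCongr_inv]
    exact Scheme.residueFieldCongr_fromSpecResidueField _)
  refine ⟨z, ?_⟩
  have := congrArg (fun f : Spec (P.residueField (π δ)) ⟶ X => f (closedPoint (P.residueField (π δ)))) hz
  simp only [Scheme.Hom.comp_apply, s, Scheme.fromSpecResidueField_apply] at this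
  exact this

/-- Torsors under torsion-free constant groups over smooth schemes on an irreducible geometrically
unibranch scheme are trivial. -/
theorem hasSection {S : Scheme.{u}} [IrreducibleSpace S]
    (hS : ∀ s : S, CAlg2.IsGeomUnibranch (S.presheaf.stalk s)) (f : P ⟶ S) [Smooth f] [Surjective π] :
    ∃ g : P ⟶ X, g ≫ π = 𝟙 P := by
  haveI : Smooth (π ≫ f) := inferInstance
  have hres := surjective_residueFieldMap π H hZ
  -- maximal points of `E` lie over maximal points of `P`
  have hpush : ∀ δ : X, (∀ w, w ⤳ δ → w = δ) → ∀ y, y ⤳ π δ → y = π δ := fun δ hδ y hy => by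
    obtain ⟨w, hw, rfl⟩ := Flat.generalizingMap (f := π) hy
    rw [hδ w hw]
  have huniq : ∀ {δ δ' x : X}, (∀ w, w ⤳ δ → w = δ) → (∀ w, w ⤳ δ' → w = δ') →
      δ ⤳ x → δ' ⤳ x → δ = δ' := fun {δ δ' x} hd hd' h h' => by
    obtain ⟨ε, he, he'⟩ := UnibComp.exists_common_gen hS (π ≫ f) h h'
    rw [← hd ε he, hd' ε he']
  have hinvtr : ∀ (z : Z) (w : X), (tr z) ((tr z⁻¹) w) = w := fun z w => by
    rw [← Scheme.Hom.comp_apply, H.mul, mul_inv_cancel, H.one]
    rfl
  have hmaxtr : ∀ (z : Z) (δ : X), (∀ w, w ⤳ δ → w = δ) →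
      ∀ w, w ⤳ (tr z) δ → w = (tr z) δ := fun z δ hd w hw => by
    have h1 := hw.map (tr z⁻¹).continuous
    have h2 : (tr z⁻¹) ((tr z) δ) = δ := by
      have := hinvtr z⁻¹ δ
      rwa [inv_inv] at this
    rw [h2] at h1
    rw [← hd _ h1, hinvtr]
  -- a maximal point of `E` over each maximal point of `P`
  have hlift : ∀ y : {y : P // ∀ w, w ⤳ y → w = y}, ∃ δ : X, π δ = y.1 ∧ ∀ w, w ⤳ δ → w = δ := by
    rintro ⟨y, hy⟩
    obtain ⟨x, hx'⟩ := π.surjective y
    obtain ⟨δ, hd, hmax⟩ := FibDim.exists_maximal_generization x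
    exact ⟨δ, hy _ ((hd.map π.continuous).trans (specializes_of_eq hx')), hmax⟩
  choose δ hδy hδmax using hlift
  let D : Set X := Set.range δ
  have hD : ∀ d ∈ D, ∀ w, w ⤳ d → w = d := by rintro _ ⟨y, rfl⟩; exact hδmax y
  have hC := UnibComp.isClopen_union hS (π ≫ f) D hD
  let C : X.Opens := ⟨_, hC.2⟩
  let c : (C : Scheme.{u}) ⟶ P := C.ι ≫ π
  have hPuniq : ∀ {y y' x : P}, (∀ w, w ⤳ y → w = y) → (∀ w, w ⤳ y' → w = y') → y ⤳ x → y' ⤳ x → y = y' :=
    fun {y y' x} hd hd' h h' => by
      obtain ⟨ε, he, he'⟩ := UnibComp.exists_common_gen hS f h h'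
      rw [← hd ε he, hd' ε he']
  haveI : Mono c := ⟨fun {T} u v huv => by
    rw [← cancel_mono C.ι]
    refine hom_ext_points π _ _ ((Category.assoc _ _ _).trans (huv.trans (Category.assoc _ _ _).symm)) fun t => ?_
    let k := T.fromSpecResidueField t
    obtain ⟨z, hz, -⟩ := H.unique_pt (T.residueField t) (k ≫ u ≫ C.ι) (k ≫ v ≫ C.ι)
      (by simp only [Category.assoc]; exact congrArg (k ≫ ·) huv)
    obtain ⟨_, ⟨y, rfl⟩, hyu⟩ := (u t).2
    obtain ⟨_, ⟨y', rfl⟩, hyv⟩ := (v t).2
    have htk : k (closedPoint (T.residueField t)) = t := Scheme.fromSpecResidueField_apply t _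
    have hzt : (tr z) (v t).1 = (u t).1 := by
      have := congrArg (fun g : Spec (T.residueField t) ⟶ X => g (closedPoint (T.residueField t))) hz
      simp only [Scheme.Hom.comp_apply] at this
      change (tr z) ((C.ι) (v (k (closedPoint (T.residueField t))))) = C.ι (u (k (closedPoint (T.residueField t)))) at this
      rw [htk] at this
      exact this
    have huvt : π (u t).1 = π (v t).1 := congrArg (fun g : T ⟶ P => g t) huv
    have hyy : y = y' := Subtype.ext (hPuniq y.2 y'.2 (hδy y ▸ hyu.map π.continuous)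
      (by rw [huvt]; exact hδy y' ▸ hyv.map π.continuous))
    subst hyy
    have hfix : (tr z) (δ y) = δ y :=
      huniq (hmaxtr z _ (hδmax y)) (hδmax y) (hzt ▸ hyv.map (tr z).continuous) hyu
    have hz1 : z = 1 := by
      obtain ⟨z₀, -, hu₀⟩ := H.unique_pt (X.residueField (δ y)) (X.fromSpecResidueField (δ y))
        (X.fromSpecResidueField (δ y)) rfl
      have e1 : X.fromSpecResidueField (δ y) ≫ tr z = X.fromSpecResidueField (δ y) := by
        haveI : IsIso (π.residueFieldMap (δ y)) := (ConcreteCategory.isIso_iff_bijective _).2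
          ⟨(π.residueFieldMap (δ y)).hom.injective, hres _⟩
        obtain ⟨φ, hφ⟩ := SheetGen.exists_factor_residue
          (K := X.residueField (δ y)) (X.fromSpecResidueField (δ y) ≫ tr z)
          (s := δ y) fun w => by
            rw [Scheme.Hom.comp_apply, Scheme.fromSpecResidueField_apply, hfix]
        have hφ' : φ = 𝟙 _ := by
          rw [← cancel_mono (Spec.map (π.residueFieldMap (δ y))), ← cancel_mono (P.fromSpecResidueField _)]
          simp only [Category.assoc, Category.id_comp,
            Scheme.Hom.SpecMap_residueFieldMap_fromSpecResidueField, reassoc_of% hφ, H.comp]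
        exact hφ.symm.trans (by rw [hφ']; exact Category.id_comp _)
      rw [hu₀ z e1, hu₀ 1 (by dsimp only; rw [H.one, Category.comp_id])]
    rw [hz1, H.one, Category.comp_id] at hz
    exact hz.symm⟩
  haveI : Surjective c := ⟨fun w => by
    obtain ⟨y, hyw, hy⟩ := FibDim.exists_maximal_generization w
    obtain ⟨x, hx⟩ := π.surjective w
    obtain ⟨d, hdx, hd⟩ := FibDim.exists_maximal_generization x
    have hdy : π d = y := hPuniq (hpush d hd) hy ((hdx.map π.continuous).trans (specializes_of_eq hx)) hyw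
    obtain ⟨z, hz⟩ := exists_tr_apply π H d (δ ⟨y, hy⟩) (hdy.trans (hδy ⟨y, hy⟩).symm) (hres _) (hres _)
    refine ⟨⟨(tr z) x, δ ⟨y, hy⟩, ⟨_, rfl⟩, hz ▸ hdx.map (tr z).continuous⟩, ?_⟩
    show π ((tr z) x) = w
    rw [← Scheme.Hom.comp_apply, H.comp]
    exact hx⟩
  haveI : IsOpenImmersion c := IsOpenImmersion.of_flat_of_mono c
  haveI : IsIso c := (isIso_iff_isOpenImmersion_and_surjective c).2 ⟨inferInstance, inferInstance⟩
  exact ⟨inv c ≫ C.ι, by rw [Category.assoc]; exact IsIso.inv_hom_id c⟩

end Groth.Agent.SGA7X.DiscTriv
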