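import Groth.Agent.SGA7X.UnibComp
import Groth.Agent.SGA7X.ConstTarget
import Groth.Prelude.Def_Red

/-! # Morphisms to constant schemes from smooth schemes are determined by the generic fibre -/

set_option autoImplicit false
set_option linter.style.haveILetI false
set_option backward.isDefEq.respectTransparency.types false

universe u

open CategoryTheory CategoryTheory.Limits MonoidalCategory CartesianMonoidalCategory AlgebraicGeometry
open Topology

namespace Groth.Agent.SGA7X.ConstHom

variable {S : Scheme.{u}} {M : Type u}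

/-- Morphisms to a constant scheme with the same pieces are equal. -/
theorem ext_pieces {T : Over S} (f g : T ⟶ TwC.const S M)
    (h : ∀ t m, f.left t ∈ ConstTarget.piece m → g.left t ∈ ConstTarget.piece m) : f = g := by
  let W : M → T.left.Opens := fun m => f.left ⁻¹ᵁ ConstTarget.piece m
  have hW : TopologicalSpace.IsOpenCover W := TopologicalSpace.IsOpenCover.mk (eq_top_iff.2 fun x _ => by
    obtain ⟨m, hm⟩ := ConstTarget.exists_mem_piece (f.left x)
    exact TopologicalSpace.Opens.mem_iSup.2 ⟨m, hm⟩)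
  apply Over.OverMorphism.ext
  refine (T.left.openCoverOfIsOpenCover W hW).hom_ext _ _ fun (m : M) => ?_
  let inc : Over.mk ((W m).ι ≫ T.hom) ⟶ T := Over.homMk (W m).ι rfl
  have hf := ConstTarget.eq_pt_of_forall_mem (inc ≫ f) m fun y => by
    rw [Over.comp_left, Scheme.Hom.comp_apply]
    exact y.2
  have hg := ConstTarget.eq_pt_of_forall_mem (inc ≫ g) m fun y => by
    rw [Over.comp_left, Scheme.Hom.comp_apply]
    exact h _ _ y.2
  exact congrArg CommaMorphism.left (hf.trans hg.symm)

variable [IrreducibleSpace S] (hS : ∀ s : S, CAlg2.IsGeomUnibranch (S.presheaf.stalk s))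
  {ξ : S} (hξ : IsGenericPoint ξ (Set.univ : Set S))

include hξ in
theorem eq_genericPoint : ξ = genericPoint S := hξ.eq (genericPoint_spec S)

include hξ in
theorem mem_range_fst {T : Over S} [Smooth T.hom] (t : T.left) :
    ∃ w : ↥(Red.bc (S.fromSpecResidueField ξ) T).left,
      pullback.fst T.hom (S.fromSpecResidueField ξ) w ⤳ t := by
  obtain ⟨δ, hδ, hmax⟩ := FibDim.exists_maximal_generization t
  obtain ⟨w, rfl⟩ := (T.hom.range_fiberι ξ).ge
    (show T.hom δ = ξ from (UnibComp.apply_max T.hom hmax).trans (eq_genericPoint hξ).symm)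
  exact ⟨w, hδ⟩

variable {G : Over S} (eG : G ≅ TwC.const S M)

omit [IrreducibleSpace S] in
theorem map_fst {T : Over S} (f : T ⟶ G) :
    ((Over.pullback (S.fromSpecResidueField ξ)).map f).left ≫ pullback.fst G.hom (S.fromSpecResidueField ξ) =
      pullback.fst T.hom (S.fromSpecResidueField ξ) ≫ f.left := pullback.lift_fst _ _ _

include hξ eG in
theorem map_injective {T : Over S} [Smooth T.hom] {f g : T ⟶ G}
    (h : (Over.pullback (S.fromSpecResidueField ξ)).map f = (Over.pullback (S.fromSpecResidueField ξ)).map g) :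
    f = g := by
  rw [← cancel_mono eG.hom]
  refine ext_pieces _ _ fun t m hm => ?_
  obtain ⟨w, hw⟩ := mem_range_fst hξ t
  have h' := congrArg (fun q => q.left ≫ pullback.fst G.hom (S.fromSpecResidueField ξ) ≫ eG.hom.left) h
  simp only [← Category.assoc, map_fst] at h'
  have h2 := congrArg (fun F : (Red.bc (S.fromSpecResidueField ξ) T).left ⟶ _ => F w) h'
  simp only [Scheme.Hom.comp_apply] at h2
  have hc := ConstTarget.isClopen_piece (S := S) m
  rw [Over.comp_left, Scheme.Hom.comp_apply] at hm ⊢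
  have h3 : eG.hom.left (f.left (pullback.fst T.hom (S.fromSpecResidueField ξ) w)) ∈ ConstTarget.piece m :=
    (hw.map (f.left ≫ eG.hom.left).continuous).mem_open hc.2 hm
  exact (hw.map (g.left ≫ eG.hom.left).continuous).mem_closed hc.1 (h2 ▸ h3)

include hS hξ eG in
theorem map_surjective {T : Over S} [Smooth T.hom]
    (h : Red.bc (S.fromSpecResidueField ξ) T ⟶ Red.bc (S.fromSpecResidueField ξ) G) :
    ∃ f : T ⟶ G, (Over.pullback (S.fromSpecResidueField ξ)).map f = h := by
  let fT := pullback.fst T.hom (S.fromSpecResidueField ξ)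
  let k := h.left ≫ pullback.fst G.hom (S.fromSpecResidueField ξ) ≫ eG.hom.left
  let W : M → Set T.left := fun m =>
    {x | ∃ δ ∈ {δ : T.left | (∀ w, w ⤳ δ → w = δ) ∧ ∃ w, fT w = δ ∧ k w ∈ ConstTarget.piece m}, δ ⤳ x}
  have hW : ∀ m, IsClopen (W m) := fun m =>
    UnibComp.isClopen_union hS T.hom _ fun δ hδ => hδ.1
  have hinj : ∀ {m n x}, x ∈ W m → x ∈ W n → m = n := by
    rintro m n x ⟨δ, ⟨hδ, w, hw, hm⟩, hx⟩ ⟨δ', ⟨hδ', w', hw', hn⟩, hx'⟩
    obtain ⟨ε, he, he'⟩ := UnibComp.exists_common_gen hS T.hom hx hx'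
    have : w = w' := (T.hom.fiberι ξ).isEmbedding.injective
      (hw.trans (((hδ ε he).symm.trans (hδ' ε he')).trans hw'.symm))
    exact ConstTarget.piece_inj hm (this ▸ hn)
  have hcov : ∀ x, ∃ m, x ∈ W m := fun x => by
    obtain ⟨δ, hδ, hmax⟩ := FibDim.exists_maximal_generization x
    obtain ⟨w, hw⟩ := (T.hom.range_fiberι ξ).ge
      (show T.hom δ = ξ from (UnibComp.apply_max T.hom hmax).trans (eq_genericPoint hξ).symm)
    obtain ⟨m, hm⟩ := ConstTarget.exists_mem_piece (k w)
    exact ⟨m, δ, ⟨hmax, w, hw, hm⟩, hδ⟩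
  let U : M → T.left.Opens := fun m => ⟨W m, (hW m).2⟩
  let j : (∐ fun m : M => (U m).toScheme) ⟶ T.left := Sigma.desc fun m => (U m).ι
  haveI : IsOpenImmersion j := isOpenImmersion_sigmaDesc _ _ fun a b hab =>
    Set.disjoint_iff_forall_ne.mpr <| by
      rintro _ ⟨x, rfl⟩ _ ⟨y, rfl⟩ e
      exact hab (hinj x.2 (show ((U a).ι x) ∈ W b by rw [e]; exact y.2))
  haveI : Surjective j := ⟨fun x => by
    obtain ⟨m, hm⟩ := hcov x
    exact ⟨Sigma.ι (fun m : M => (U m).toScheme) m (⟨x, hm⟩ : (U m).toScheme), by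
      rw [← Scheme.Hom.comp_apply]; simp [j]⟩⟩
  haveI : IsIso j := (isIso_iff_isOpenImmersion_and_surjective _).2 ⟨inferInstance, inferInstance⟩
  let d : (∐ fun m : M => (U m).toScheme) ⟶ (TwC.const S M).left :=
    Sigma.desc fun m => (U m).ι ≫ T.hom ≫ Sigma.ι (fun _ : M => S) m
  let ρ : T ⟶ TwC.const S M := Over.homMk (inv j ≫ d) (by
    show (inv j ≫ d) ≫ Sigma.desc _ = T.hom
    rw [← cancel_epi j]
    refine Sigma.hom_ext _ _ fun m => ?_
    simp [j, d])
  have hρ : ∀ {m} {x : T.left}, x ∈ W m → ρ.left x ∈ ConstTarget.piece m := by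
    intro m x hx
    let y : (U m).toScheme := ⟨x, hx⟩
    have hfac : (U m).ι ≫ ρ.left = (U m).ι ≫ T.hom ≫ Sigma.ι (fun _ : M => S) m := by
      have : (U m).ι = Sigma.ι (fun m : M => (U m).toScheme) m ≫ j := by simp [j]
      conv_lhs => rw [this]
      simp [ρ, d]
    rw [show x = (U m).ι y from rfl, ← Scheme.Hom.comp_apply, hfac]
    exact ⟨_, (Scheme.Hom.comp_apply _ _ _).symm⟩
  refine ⟨ρ ≫ eG.inv, Over.OverMorphism.ext (pullback.hom_ext ?_ ((Over.w _).trans (Over.w h).symm))⟩
  rw [map_fst]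
  have hTw : (fT ≫ ρ.left) ≫ (TwC.const S M).hom = fT ≫ T.hom := by rw [Category.assoc, Over.w]
  have hkw : k ≫ (TwC.const S M).hom = fT ≫ T.hom := by
    simp only [k, Category.assoc, Over.w]
    rw [pullback.condition]
    refine (Category.assoc _ _ _).symm.trans ?_
    rw [show h.left ≫ pullback.snd G.hom (S.fromSpecResidueField ξ) = pullback.snd T.hom (S.fromSpecResidueField ξ)
      from Over.w h]
    exact pullback.condition.symm
  let T' : Over S := Over.mk (fT ≫ T.hom)
  have e : (Over.homMk (fT ≫ ρ.left) hTw : T' ⟶ TwC.const S M) = Over.homMk k hkw := by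
    refine ext_pieces _ _ fun w m hm => ?_
    change ρ.left (fT w) ∈ ConstTarget.piece m at hm
    show k w ∈ ConstTarget.piece m
    obtain ⟨δ, hδ, hmax⟩ := FibDim.exists_maximal_generization (fT w)
    obtain ⟨w', hw'⟩ := (T.hom.range_fiberι ξ).ge
      (show T.hom δ = ξ from (UnibComp.apply_max T.hom hmax).trans (eq_genericPoint hξ).symm)
    obtain ⟨n, hn⟩ := ConstTarget.exists_mem_piece (k w')
    have hW' : fT w ∈ W n := ⟨δ, ⟨hmax, w', hw', hn⟩, hδ⟩
    obtain rfl := ConstTarget.piece_inj hm (hρ hW')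
    have hsp : w' ⤳ w := by
      rw [← (T.hom.fiberι ξ).isEmbedding.isInducing.specializes_iff, hw']
      exact hδ
    exact (hsp.map k.continuous).mem_closed (ConstTarget.isClopen_piece (S := S) m).1 hn
  have e' : fT ≫ ρ.left = k := congrArg CommaMorphism.left e
  haveI : IsIso eG.hom.left := (Over.forget S).map_isIso eG.hom
  rw [← cancel_mono eG.hom.left]
  have hinv : eG.inv.left ≫ eG.hom.left = 𝟙 _ := congrArg CommaMorphism.left eG.inv_hom_id
  simp only [Over.comp_left, Category.assoc, hinv, Category.comp_id]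
  exact e'

end Groth.Agent.SGA7X.ConstHom
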