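import Groth.Agent.SGA7X.DiscTriv
import Groth.Agent.SGA7X.ConstHom
import Groth.Agent.SGA7X.ExtSplit
import Groth.Agent.IntBC.Branch

/-! # Extensions of smooth groups over a field by torsion-free constant groups have scheme sections -/

set_option autoImplicit false
set_option linter.style.haveILetI false
set_option backward.isDefEq.respectTransparency.types false

universe u

open CategoryTheory CategoryTheory.Limits MonoidalCategory CartesianMonoidalCategory MonObj AlgebraicGeometry
open Topology IsLocalRing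

namespace Groth.Agent.SGA7X.FieldExtSection

/-- Local rings of the spectrum of a field are geometrically unibranch. -/
theorem geomUnibranch_spec_field (K : CommRingCat.{u}) [IsField_ : Fact (IsField K)] (t : Spec K) :
    CAlg2.IsGeomUnibranch ((Spec K).presheaf.stalk t) := by
  letI := IsField_.out.toField
  haveI : IsDomain K := inferInstance
  obtain ⟨_, _⟩ := SheetGen.stalk_spec_normal K t
  exact IntBC.isGeomUnibranch_of_branch (IntBC.branch_of_normal _)

variable {S : Scheme.{u}} {G E P : Over S} [GrpObj G] [GrpObj E] [GrpObj P]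

/-- The quotient map of an extension by an étale group is étale and surjective. -/
theorem etale_surjective_of_exact [Etale G.hom] {u : G ⟶ E} {v : E ⟶ P}
    (hex : NonAbH1.IsExactSeq Scheme.fppfPrecoverage u v) : Etale v.left ∧ Surjective v.left := by
  classical
  have hfst : Etale (fst E G).left := inferInstanceAs (Etale (pullback.fst E.hom G.hom))
  obtain ⟨R, hR, hsec⟩ := hex.2.2.2.2
  have hcov : ∀ x : P.left, ∃ (T : Scheme.{u}) (f : T ⟶ P.left), R f ∧ x ∈ Set.range f := by
    intro x
    obtain ⟨I, X, f, rfl⟩ := R.exists_eq_ofArrows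
    rw [Scheme.fppfPrecoverage, Scheme.ofArrows_mem_precoverage_iff] at hR
    obtain ⟨i, hi⟩ := hR.1 x
    exact ⟨_, f i, .mk i, hi⟩
  have hprop : ∀ {T : Scheme.{u}} (f : T ⟶ P.left), R f → Flat f ∧ LocallyOfFinitePresentation f := by
    intro T f hf
    obtain ⟨I, X, g, rfl⟩ := R.exists_eq_ofArrows
    rw [Scheme.fppfPrecoverage, Scheme.ofArrows_mem_precoverage_iff] at hR
    obtain ⟨i⟩ := hf
    exact hR.2 i
  choose T f hf hx using hcov
  choose s hs using fun x => hsec (f x) (hf x)
  let σ : (∐ T) ⟶ P.left := Sigma.desc f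
  let s' : (∐ T) ⟶ E.left := Sigma.desc s
  have hσ : s' ≫ v.left = σ := Sigma.hom_ext _ _ fun x => by
    simp only [s', σ, ← Category.assoc, Sigma.ι_desc]
    exact hs x
  have : Flat σ := IsZariskiLocalAtSource.sigmaDesc (P := @Flat) fun x => (hprop _ (hf x)).1
  have : LocallyOfFinitePresentation σ :=
    IsZariskiLocalAtSource.sigmaDesc (P := @LocallyOfFinitePresentation) fun x => (hprop _ (hf x)).2
  have : Surjective σ := by
    refine ⟨fun x => ?_⟩
    obtain ⟨y, hy⟩ := hx x
    exact ⟨Sigma.ι T x y, by rw [← Scheme.Hom.comp_apply]; simpa [σ] using hy⟩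
  refine ⟨?_, ⟨fun x => ?_⟩⟩
  swap
  · obtain ⟨y, hy⟩ := hx x
    exact ⟨s x y, by rw [← Scheme.Hom.comp_apply]; exact (congrArg (fun g : T x ⟶ P.left => g y) (hs x)).trans hy⟩
  have hsq := hex.2.2.2.1.map (Over.forget _)
  let q : pullback ((E ◁ u) ≫ μ[E]).left s' ⟶ (E ⊗ G).left := pullback.fst _ _
  have hsq' : IsPullback ((E ◁ u) ≫ μ[E]).left (fst E G).left v.left v.left := hsq.flip
  have hpb : IsPullback (pullback.snd ((E ◁ u) ≫ μ[E]).left s') (q ≫ (fst E G).left) σ v.left := by
    have h' := ((IsPullback.of_hasPullback ((E ◁ u) ≫ μ[E]).left s').flip).paste_vert hsq'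
    rwa [hσ] at h'
  haveI hμ : Etale ((E ◁ u) ≫ μ[E]).left := by
    have : ((E ◁ u) ≫ μ[E]) = (hex.2.2.2.1.flip.isoIsPullback _ _ hex.2.2.2.1).hom ≫ fst E G := by
      simp
    rw [this, Over.comp_left]
    infer_instance
  exact MorphismProperty.of_isPullback_of_descendsAlong
    (Q := @Surjective ⊓ @Flat ⊓ @LocallyOfFinitePresentation) (P := @Etale) hpb
    ⟨⟨inferInstance, inferInstance⟩, inferInstance⟩ inferInstance

/-- A scheme section of an extension of a smooth group over a field by a torsion-free constant group. -/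
theorem exists_section {ξ : S} {Z : Type u} [Group Z] (hZ : ∀ z : Z, IsOfFinOrder z → z = 1)
    (eG : G ≅ TwC.const S Z) (hG : TwC.IsConstGrp Z G eG)
    {E' P' : Over (Spec (S.residueField ξ))} [GrpObj E'] [GrpObj P'] [Smooth P'.hom]
    {u' : Red.bc (S.fromSpecResidueField ξ) G ⟶ E'} {v' : E' ⟶ P'}
    (hex : NonAbH1.IsExactSeq Scheme.fppfPrecoverage u' v') : ∃ σ : P' ⟶ E', σ ≫ v' = 𝟙 P' := by
  haveI := hex.1; haveI := hex.2.1
  let i := S.fromSpecResidueField ξ
  let F := Over.pullback i
  haveI : Etale G.hom := by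
    haveI : Etale (TwC.const S Z).hom := IsZariskiLocalAtSource.sigmaDesc fun _ => inferInstance
    haveI : IsIso eG.hom.left := (Over.forget S).map_isIso eG.hom
    rw [← Over.w eG.hom]
    infer_instance
  haveI : Etale (Red.bc i G).hom := inferInstanceAs (Etale (pullback.snd G.hom i))
  obtain ⟨he, hs⟩ := etale_surjective_of_exact hex
  let e₀ : 𝟙_ (Over (Spec (S.residueField ξ))) ⟶ F.obj (𝟙_ (Over S)) := Functor.LaxMonoidal.ε F
  let c : ∀ (T : Over (Spec (S.residueField ξ))), Z → (T ⟶ Red.bc i G) := fun T z =>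
    toUnit T ≫ e₀ ≫ F.map (ConstTarget.ptG eG (𝟙_ (Over S)) z)
  have hc : ∀ {T T' : Over (Spec (S.residueField ξ))} (g : T ⟶ T') (z : Z), g ≫ c T' z = c T z := fun g z => by
    simp only [c, ← Category.assoc]
    rw [toUnit_unique (g ≫ toUnit _) (toUnit _)]
  have hcm : ∀ T z w, c T z * c T w = c T (z * w) := fun T z w => by
    simp only [c, ← MonObj.comp_mul, ← Functor.map_mul, ConstTarget.ptG_mul hG]
  have hc1 : ∀ T, c T (1 : Z) = 1 := fun T => by
    simp only [c, ConstTarget.ptG_one hG, Functor.map_one, MonObj.comp_one]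
  -- field-valued points of the constant group
  have hcc : ∀ (T : Over (Spec (S.residueField ξ))) [ConnectedSpace T.left] (g : T ⟶ Red.bc i G),
      ∃! z, g = c T z := by
    intro T _ g
    let T₀ : Over S := Over.mk (T.hom ≫ i)
    have hcfst : ∀ z, (c T z).left ≫ pullback.fst G.hom i = (ConstTarget.ptG eG T₀ z).left := fun z => by
      let q : T₀ ⟶ 𝟙_ (Over S) := Over.homMk
        ((toUnit T ≫ e₀).left ≫ pullback.fst (𝟙_ (Over S)).hom i) (by
          rw [Category.assoc, pullback.condition]
          exact (Category.assoc _ _ _).symm.trans (congrArg (· ≫ i) (Over.w (toUnit T ≫ e₀))))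
      have : ConstTarget.ptG eG T₀ z = q ≫ ConstTarget.ptG eG (𝟙_ (Over S)) z := by
        unfold ConstTarget.ptG
        rw [← Category.assoc q, toUnit_unique (q ≫ toUnit _) (toUnit _)]
      rw [this]
      show ((toUnit T ≫ e₀).left ≫ (F.map _).left) ≫ pullback.fst G.hom i = q.left ≫ _
      rw [Category.assoc]
      exact (congrArg ((toUnit T ≫ e₀).left ≫ ·) (ConstHom.map_fst _)).trans (Category.assoc _ _ _).symm
    have hgw : g.left ≫ pullback.snd G.hom i = T.hom := Over.w g
    let g₀ : T₀ ⟶ G := Over.homMk (g.left ≫ pullback.fst G.hom i) (by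
      rw [Category.assoc, pullback.condition, reassoc_of% hgw]; rfl)
    haveI : ConnectedSpace T₀.left := ‹_›
    obtain ⟨m, hm⟩ := ConstTarget.exists_eq_pt (g₀ ≫ eG.hom)
    have hg₀ : g₀ = ConstTarget.ptG eG T₀ m := by
      unfold ConstTarget.ptG
      rw [← Category.assoc, ← hm, Category.assoc, Iso.hom_inv_id, Category.comp_id]
    refine ⟨m, Over.OverMorphism.ext (pullback.hom_ext ?_ ((Over.w g).trans (Over.w (c T m)).symm)), fun n hn => ?_⟩
    · rw [hcfst]; exact congrArg CommaMorphism.left hg₀
    · have h2 : ConstTarget.ptG eG T₀ n = ConstTarget.ptG eG T₀ m := by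
        refine Over.OverMorphism.ext ?_
        rw [← hcfst, ← hn]
        exact congrArg CommaMorphism.left hg₀
      obtain ⟨t⟩ := (inferInstance : Nonempty T₀.left)
      have h1 := ConstTarget.mem_piece_ptG (eG := eG) (T := T₀) n t
      rw [h2] at h1
      exact ConstTarget.piece_inj h1 (ConstTarget.mem_piece_ptG (eG := eG) (T := T₀) m t)
  let R : Z → (E' ⟶ E') := fun z => 𝟙 E' * (c E' z⁻¹ ≫ u')
  have hRc : ∀ {T : Over (Spec (S.residueField ξ))} (x : T ⟶ E') (z : Z),
      x ≫ R z = x * (c T z⁻¹ ≫ u') := fun x z => by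
    simp only [R, MonObj.comp_mul, Category.comp_id, ← Category.assoc, hc]
  have H : DiscTriv.IsSimplyTransitive v'.left fun z => (R z).left := by
    refine ⟨fun z => ?_, ?_, fun z w => ?_, fun K _ x y hxy => ?_⟩
    · rw [← Over.comp_left, MonObj.mul_comp, Category.id_comp, Category.assoc, hex.2.2.1,
        MonObj.comp_one, _root_.mul_one]
    · have : R 1 = 𝟙 E' := by simp only [R, inv_one, hc1, MonObj.one_comp, _root_.mul_one]
      rw [this]; rfl
    · have : R z ≫ R w = R (w * z) := by
        rw [hRc]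
        simp only [R, _root_.mul_assoc, ← MonObj.mul_comp, hcm, _root_.mul_inv_rev]
      exact congrArg CommaMorphism.left this
    · let T : Over (Spec (S.residueField ξ)) := Over.mk (x ≫ E'.hom)
      haveI : ConnectedSpace T.left := inferInstanceAs (ConnectedSpace (PrimeSpectrum K))
      let a : T ⟶ E' := Over.homMk x rfl
      let b : T ⟶ E' := Over.homMk y (by
        show y ≫ E'.hom = x ≫ E'.hom
        rw [← Over.w v', reassoc_of% hxy])
      obtain ⟨g, hg⟩ := exists_translate hex b a (Over.OverMorphism.ext hxy.symm)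
      obtain ⟨z, hz, hzu⟩ := hcc T g
      refine ⟨z⁻¹, ?_, fun w hw => ?_⟩
      · have : b ≫ R z⁻¹ = a := by rw [hRc, inv_inv, ← hz, hg]
        exact congrArg CommaMorphism.left this
      · have h1 : b ≫ R w = a := Over.OverMorphism.ext hw
        rw [hRc, ← hg] at h1
        rw [← hzu w⁻¹ (u_cancel hex (mul_left_cancel h1)).symm, inv_inv]
  haveI : Fact (IsField (S.residueField ξ)) := ⟨(inferInstance : Field (S.residueField ξ)).toIsField⟩
  haveI : IrreducibleSpace ↥(Spec (S.residueField ξ)) :=
    inferInstanceAs (IrreducibleSpace (PrimeSpectrum (S.residueField ξ)))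
  obtain ⟨g, hg⟩ := DiscTriv.hasSection v'.left H hZ
    (fun t => geomUnibranch_spec_field (S.residueField ξ) t) P'.hom
  exact ⟨Over.homMk g (by rw [← Over.w v', reassoc_of% hg]), Over.OverMorphism.ext hg⟩

end Groth.Agent.SGA7X.FieldExtSection
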