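import Groth.Agent.SGA7X.SheetEt
import Groth.Agent.SGA7X.DiscTriv
import Groth.Agent.SGA7X.FieldExtSection

/-! # Étale schemes with transitive torsion-free action over smooth schemes with connected fibres -/

set_option autoImplicit false
set_option linter.style.haveILetI false
set_option backward.isDefEq.respectTransparency.types false

universe u

open CategoryTheory CategoryTheory.Limits AlgebraicGeometry
open Topology IsLocalRing

namespace Groth.Agent.SGA7X.EtTriv

variable {S P X : Scheme.{u}} (p : P ⟶ S) [Smooth p] [QuasiCompact p] [QuasiSeparated p]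
  [GeometricallyConnected p] (π : X ⟶ P) [Etale π] [IsSeparated π] [Surjective π]
  {Z : Type u} [Group Z]

/-- A section through a given point. -/
theorem exists_section {tr : Z → (X ⟶ X)} (H : DiscTriv.IsSimplyTransitive π tr)
    (hZ : ∀ z : Z, IsOfFinOrder z → z = 1) (e : S ⟶ P) (he : e ≫ p = 𝟙 S) (e' : S ⟶ X) (he' : e' ≫ π = e) :
    ∃ σ : P ⟶ X, σ ≫ π = 𝟙 P ∧ e ≫ σ = e' := by
  have key : ∀ s : S, ∃ g : p.fiber s ⟶ X, g ≫ π = p.fiberι s ∧ e' s ∈ Set.range g := by
    intro s
    let j := p.fiberι s
    let π' := pullback.snd π j
    let tr' : Z → (pullback π j ⟶ pullback π j) := fun z =>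
      pullback.lift (pullback.fst π j ≫ tr z) π' (by rw [Category.assoc, H.comp, pullback.condition])
    have H' : DiscTriv.IsSimplyTransitive π' tr' := by
      refine ⟨fun z => pullback.lift_snd _ _ _, ?_, fun z w => ?_, fun K _ u v huv => ?_⟩
      · refine pullback.hom_ext ?_ ?_
        · dsimp only [tr']
          rw [pullback.lift_fst, H.one, Category.comp_id, Category.id_comp]
        · dsimp only [tr']
          rw [pullback.lift_snd, Category.id_comp]
      · refine pullback.hom_ext ?_ ?_
        · dsimp only [tr']
          rw [Category.assoc, pullback.lift_fst, pullback.lift_fst_assoc, Category.assoc, H.mul, pullback.lift_fst]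
        · dsimp only [tr']
          rw [Category.assoc, pullback.lift_snd, pullback.lift_snd, pullback.lift_snd]
      · obtain ⟨z, hz, hzu⟩ := H.unique_pt K (u ≫ pullback.fst π j) (v ≫ pullback.fst π j)
          (by rw [Category.assoc, Category.assoc, pullback.condition]
              exact (Category.assoc _ _ _).symm.trans ((congrArg (· ≫ j) huv).trans (Category.assoc _ _ _)))
        refine ⟨z, pullback.hom_ext ?_ ?_, fun w hw => hzu w ?_⟩
        · simp only [tr', Category.assoc, pullback.lift_fst]
          exact (Category.assoc _ _ _).symm.trans hz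
        · simp only [tr', Category.assoc, pullback.lift_snd]
          exact huv.symm
        · have := congrArg (· ≫ pullback.fst π j) hw
          simp only [tr', Category.assoc, pullback.lift_fst] at this
          exact (Category.assoc _ _ _).trans this
    haveI : Fact (IsField (S.residueField s)) := ⟨(inferInstance : Field (S.residueField s)).toIsField⟩
    haveI : IrreducibleSpace ↥(Spec (S.residueField s)) :=
      inferInstanceAs (IrreducibleSpace (PrimeSpectrum (S.residueField s)))
    haveI : Smooth (p.fiberToSpecResidueField s) :=
      inferInstanceAs (Smooth (pullback.snd p (S.fromSpecResidueField s)))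
    obtain ⟨h, hh⟩ := DiscTriv.hasSection π' H' hZ
      (fun t => FieldExtSection.geomUnibranch_spec_field (S.residueField s) t) (p.fiberToSpecResidueField s)
    let k := S.fromSpecResidueField s
    let es : Spec (S.residueField s) ⟶ p.fiber s :=
      pullback.lift (k ≫ e) (𝟙 _) (by rw [Category.assoc, he, Category.comp_id, Category.id_comp])
    have hes : es ≫ j = k ≫ e := pullback.lift_fst _ _ _
    have hhπ : (h ≫ pullback.fst π j) ≫ π = j := by
      rw [Category.assoc, pullback.condition, reassoc_of% hh]
    obtain ⟨z, hz, -⟩ := H.unique_pt (S.residueField s) (k ≫ e') (es ≫ h ≫ pullback.fst π j) (by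
      rw [Category.assoc, he']
      exact hes.symm.trans ((congrArg (es ≫ ·) hhπ.symm).trans (Category.assoc _ _ _).symm))
    refine ⟨(h ≫ pullback.fst π j) ≫ tr z, by rw [Category.assoc, H.comp, hhπ], es (closedPoint (S.residueField s)), ?_⟩
    have h1 : es ≫ (h ≫ pullback.fst π j) ≫ tr z = k ≫ e' := by
      simpa only [Category.assoc] using hz
    rw [← Scheme.Hom.comp_apply, h1, Scheme.Hom.comp_apply, show k (closedPoint (S.residueField s)) = s from
      Scheme.fromSpecResidueField_apply s _]
  choose g hg hn using key
  exact SheetEt.exists_global p e he π e' he' g hg hn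

end Groth.Agent.SGA7X.EtTriv
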