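import Groth.Agent.SGA7X.Transpose
import Groth.Agent.SGA7X.EtTriv
import Groth.Agent.SGA7X.Sheet
import Groth.Agent.SGA7X.ExtGrp

/-! # Extensions of groups with connected fibres by twisted constant torsion-free groups split -/

set_option autoImplicit false
set_option linter.style.haveILetI false
set_option backward.isDefEq.respectTransparency.types false

universe u

open CategoryTheory CategoryTheory.Limits MonoidalCategory CartesianMonoidalCategory MonObj AlgebraicGeometry
open Topology Groth.Agent.SGA7X.Transpose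

namespace Groth.Agent.SGA7X.ExtConnected

variable {S : Scheme.{u}} {I : Type u} {U : I → Scheme.{u}} {g : ∀ a, U a ⟶ S} {Z : I → Type u}
  [∀ a, Group (Z a)] {M : Over S} [GrpObj M] (eM : ∀ a, Red.bc (g a) M ≅ TwC.const (U a) (Z a))
  (hM : ∀ a, TwC.IsConstGrp (Z a) (Red.bc (g a) M) (eM a))
  (hg : Presieve.ofArrows U g ∈ Scheme.fpqcPrecoverage S)

include hM hg in
/-- Pointed families of points of a twisted constant group along a group with connected fibres are
trivial. -/
theorem eq_one_of_pointed {P : Over S} [GrpObj P] [GeometricallyConnected P.hom] (T : Over S)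
    (χ : P ⊗ T ⟶ M) (h : lift (1 : T ⟶ P) (𝟙 T) ≫ χ = 1) : χ = 1 := by
  refine hom_ext_family hg fun a => ?_
  rw [MonObj.comp_one]
  let Ua : Over S := Over.mk (g a)
  let T' : Over S := T ⊗ Ua
  let χ' : P ⊗ T' ⟶ M := (P ◁ fst T Ua) ≫ χ
  have hχ' : lift (1 : T' ⟶ P) (𝟙 T') ≫ χ' = 1 := by
    simp only [χ', lift_whiskerLeft_assoc, Category.id_comp]
    rw [show lift (1 : T' ⟶ P) (fst T Ua) = fst T Ua ≫ lift (1 : T ⟶ P) (𝟙 T) by
      rw [comp_lift, MonObj.comp_one, Category.comp_id], Category.assoc, h, MonObj.comp_one]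
  suffices χ' = 1 by
    have e := congrArg ((α_ P T Ua).hom ≫ ·) this
    simp only [χ', MonObj.comp_one] at e
    rw [← Category.assoc] at e
    rw [show (α_ P T Ua).hom ≫ P ◁ fst T Ua = fst (P ⊗ T) Ua from by
      apply CartesianMonoidalCategory.hom_ext <;> simp] at e
    exact e
  let Q := P ⊗ T'
  let qU : Q ⟶ Ua := snd P T' ≫ snd T Ua
  let Q' : Over (U a) := Over.mk qU.left
  let x₀ : Over.mk (Q'.hom ≫ g a) ⟶ M := Over.homMk χ'.left ((Over.w χ').trans (Over.w qU).symm)
  suffices h1 : tpInv x₀ = (1 : Q' ⟶ Red.bc (g a) M) by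
    have e := congrArg tp h1
    rw [tp_tpInv, tp_one] at e
    let c : Q ⟶ Over.mk (Q'.hom ≫ g a) := Over.homMk (𝟙 Q.left) (by
      rw [Category.id_comp]; exact Over.w qU)
    have hc : c ≫ x₀ = χ' := Over.OverMorphism.ext (Category.id_comp _)
    rw [← hc, e, MonObj.comp_one]
  refine (ConstTarget.eq_ptG_of_forall_mem (eG := eM a) (tpInv x₀) 1 fun x => ?_).trans
    (ConstTarget.ptG_one (hM a) Q')
  let sec : T' ⟶ Q := lift 1 (𝟙 T')
  let π := (snd P T').left
  haveI : GeometricallyConnected π :=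
    inferInstanceAs (GeometricallyConnected (pullback.snd P.hom T'.hom))
  let T'' : Over (U a) := Over.mk (snd T Ua).left
  let s' : T'' ⟶ Q' := Over.homMk sec.left (by
    show sec.left ≫ (snd P T' ≫ snd T Ua).left = _
    rw [← Over.comp_left, lift_snd_assoc, Category.id_comp]; rfl)
  have hs' : s' ≫ tpInv x₀ = 1 := by
    apply eq_one_of_tp
    let c : Over.mk (T''.hom ≫ g a) ⟶ T' := Over.homMk (𝟙 T'.left) (by
      exact (Category.id_comp _).trans (Over.w (snd T Ua)).symm)
    have : tp (s' ≫ tpInv x₀) = c ≫ sec ≫ χ' := by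
      apply Over.OverMorphism.ext
      show (sec.left ≫ pullback.lift χ'.left qU.left _) ≫ pullback.fst M.hom (g a) = 𝟙 _ ≫ sec.left ≫ χ'.left
      rw [Category.assoc, pullback.lift_fst, Category.id_comp]
    rw [this, hχ', MonObj.comp_one]
  let k := (tpInv x₀ ≫ (eM a).hom).left
  have hk : IsClopen (k ⁻¹' (SetLike.coe (ConstTarget.piece (S := U a) (1 : Z a)))) :=
    (ConstTarget.isClopen_piece (1 : Z a)).preimage k.continuous
  refine (π.isConnected_preimage_singleton (π x)).isPreconnected.subset_isClopen hk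
    ⟨sec.left (π x), ?_, ?_⟩ rfl
  · show π (sec.left (π x)) = π x
    rw [← Scheme.Hom.comp_apply]
    show ((lift (1 : T' ⟶ P) (𝟙 T')) ≫ snd P T').left (π x) = _
    rw [lift_snd]; rfl
  · have h2 := ConstTarget.mem_piece_ptG (eG := eM a) (T := T'') (1 : Z a) (π x)
    rw [ConstTarget.ptG_one (hM a), ← hs', Category.assoc] at h2
    exact h2

include hM hg in
/-- Homomorphisms to a twisted constant group are trivial. -/
theorem hom_eq_one {P : Over S} [GrpObj P] [GeometricallyConnected P.hom] (φ : P ⟶ M) [IsMonHom φ] :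
    φ = 1 := by
  have h := eq_one_of_pointed eM hM hg (𝟙_ (Over S)) (P := P) ((ρ_ P).hom ≫ φ) (by
    rw [← Category.assoc, show lift (1 : 𝟙_ (Over S) ⟶ P) (𝟙 _) ≫ (ρ_ P).hom = 1 by simp, MonObj.one_comp])
  have := congrArg ((ρ_ P).inv ≫ ·) h
  simpa using this

variable (hZ : ∀ a, ∀ z : Z a, IsOfFinOrder z → z = 1) {P E : Over S} [GrpObj P] [GrpObj E]
  [Smooth P.hom] [QuasiCompact P.hom] [QuasiSeparated P.hom] [GeometricallyConnected P.hom]
  {u : M ⟶ E} {v : E ⟶ P} (hex : NonAbH1.IsExactSeq Scheme.fppfPrecoverage u v)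

include hM hex hZ in
/-- Pointed sections exist over each piece. -/
theorem exists_local (a : I) : ∃ s : P ⊗ Over.mk (g a) ⟶ E,
    s ≫ v = fst P _ ∧ lift (1 : Over.mk (g a) ⟶ P) (𝟙 _) ≫ s = 1 := by
  haveI := hex.1; haveI := hex.2.1
  let F := Over.pullback (g a)
  let E' := Red.bc (g a) E
  let P' := Red.bc (g a) P
  let u' : Red.bc (g a) M ⟶ E' := F.map u
  let v' : E' ⟶ P' := F.map v
  have hex' : NonAbH1.IsExactSeq Scheme.fppfPrecoverage u' v' := by
    have huv : u' ≫ v' = 1 := by rw [← F.map_comp, hex.2.2.1, Functor.map_one]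
    refine ⟨inferInstance, inferInstance, huv, ?_, ?_⟩
    · have hm : (E' ◁ u') ≫ μ[E'] = fst E' _ * (snd E' _ ≫ u') := whiskerLeft_mul u'
      have hker : ∀ {T : Over (U a)} (z : T ⟶ E'), z ≫ v' = 1 → ∃ k, k ≫ u' = z := fun z hz => by
        obtain ⟨k, hk⟩ := exists_ker_lift hex (tp z) (by rw [← tp_comp, hz, tp_one])
        exact ⟨tpInv k, tp_injective (by rw [tp_comp, tp_tpInv, hk])⟩
      have hcancel : ∀ {T : Over (U a)} {x y : T ⟶ Red.bc (g a) M}, x ≫ u' = y ≫ u' → x = y := fun h =>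
        tp_injective (u_cancel hex (by rw [← tp_comp, ← tp_comp, h]))
      rw [hm]
      refine ⟨⟨?_⟩, ⟨PullbackCone.IsLimit.mk _ (fun c => lift c.fst (hker (c.fst⁻¹ * c.snd) ?_).choose)
        (fun c => lift_fst _ _) (fun c => ?_) fun c m hm1 hm2 => ?_⟩⟩
      · rw [MonObj.mul_comp, Category.assoc, huv, MonObj.comp_one, _root_.mul_one]
      · rw [MonObj.mul_comp, GrpObj.inv_comp, c.condition, _root_.inv_mul_cancel]
      · rw [MonObj.comp_mul, lift_fst, lift_snd_assoc, (hker (c.fst⁻¹ * c.snd) (by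
          rw [MonObj.mul_comp, GrpObj.inv_comp, c.condition, _root_.inv_mul_cancel])).choose_spec,
          mul_inv_cancel_left]
      · apply CartesianMonoidalCategory.hom_ext
        · rw [lift_fst]; exact hm1
        · rw [lift_snd]
          refine hcancel ?_
          rw [(hker (c.fst⁻¹ * c.snd) (by
            rw [MonObj.mul_comp, GrpObj.inv_comp, c.condition, _root_.inv_mul_cancel])).choose_spec,
            ← hm2, MonObj.comp_mul, hm1, inv_mul_cancel_left, Category.assoc]
    · obtain ⟨R, hR, hsec⟩ := hex.2.2.2.2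
      obtain ⟨J, W, w, rfl⟩ := R.exists_eq_ofArrows
      let j : P'.left ⟶ P.left := pullback.fst P.hom (g a)
      refine ⟨Presieve.ofArrows (fun i => pullback j (w i)) (fun i => pullback.fst j (w i)),
        Precoverage.mem_coverings_of_isPullback (J := Scheme.fppfPrecoverage) w hR j _
          (fun i => pullback.snd j (w i)) (fun i => IsPullback.of_hasPullback j (w i)), ?_⟩
      rintro _ _ ⟨i⟩
      obtain ⟨r, hr⟩ := hsec (w i) (.mk i)
      have hr' : r ≫ v.left = w i := hr
      have h1 : (pullback.snd j (w i) ≫ r) ≫ E.hom = (pullback.fst j (w i) ≫ P'.hom) ≫ g a := by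
        rw [Category.assoc, Category.assoc, ← Over.w v, reassoc_of% hr', ← Category.assoc,
          ← pullback.condition, Category.assoc]
        exact congrArg (pullback.fst j (w i) ≫ ·) pullback.condition
      refine ⟨pullback.lift (pullback.snd j (w i) ≫ r) (pullback.fst j (w i) ≫ P'.hom) h1, ?_⟩
      show _ ≫ v'.left = _
      apply pullback.hom_ext
      · simp only [v', F, Category.assoc]
        rw [show ((Over.pullback (g a)).map v).left ≫ pullback.fst P.hom (g a) = pullback.fst E.hom (g a) ≫ v.left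
          from pullback.lift_fst _ _ _, pullback.lift_fst_assoc, Category.assoc, hr']
        exact pullback.condition.symm
      · rw [Category.assoc]
        refine (congrArg (_ ≫ ·) (Over.w v')).trans ?_
        exact pullback.lift_snd _ _ _
  haveI := hex'.1; haveI := hex'.2.1
  haveI hMe : Etale (Red.bc (g a) M).hom := by
    haveI := Sheet.etale_const (P := U a) (Z := Z a)
    haveI : IsIso (eM a).hom.left := (Over.forget _).map_isIso _
    rw [← Over.w (eM a).hom]
    infer_instance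
  haveI hMs : IsSeparated (Red.bc (g a) M).hom := by
    haveI := Sheet.isSeparated_const (P := U a) (Z := Z a)
    haveI : IsIso (eM a).hom.left := (Over.forget _).map_isIso _
    rw [← Over.w (eM a).hom]
    infer_instance
  obtain ⟨hπe, hπs⟩ := FieldExtSection.etale_surjective_of_exact hex'
  -- separatedness of the quotient map
  haveI : IsSeparated v'.left := by
    let M' := Red.bc (g a) M
    have sq : IsPullback (fst E' M').left ((E' ◁ u') ≫ μ[E']).left v'.left v'.left :=
      hex'.2.2.2.1.map (Over.forget _)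
    let e₁ : E' ⟶ E' ⊗ M' := lift (𝟙 E') 1
    have hdiag : pullback.diagonal v'.left = e₁.left ≫ sq.isoPullback.hom := by
      apply pullback.hom_ext
      · rw [Category.assoc, sq.isoPullback_hom_fst, pullback.diagonal_fst, ← Over.comp_left, lift_fst]
        rfl
      · rw [Category.assoc, sq.isoPullback_hom_snd, pullback.diagonal_snd, ← Over.comp_left, whiskerLeft_mul,
          MonObj.comp_mul, lift_fst, lift_snd_assoc, MonObj.one_comp, _root_.mul_one]
        rfl
    refine ⟨?_⟩
    rw [hdiag]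
    haveI : IsClosedImmersion e₁.left := by
      have h2 : e₁.left ≫ (fst E' M').left = 𝟙 _ := by rw [← Over.comp_left, lift_fst]; rfl
      haveI : IsSeparated (fst E' M').left := inferInstanceAs (IsSeparated (pullback.fst E'.hom M'.hom))
      haveI : IsClosedImmersion (e₁.left ≫ (fst E' M').left) := by rw [h2]; infer_instance
      exact IsClosedImmersion.of_comp e₁.left (fst E' M').left
    infer_instance
  let R : Z a → (E' ⟶ E') := fun z => 𝟙 E' * (ConstTarget.ptG (eM a) E' z⁻¹ ≫ u')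
  have hc : ∀ {T T' : Over (U a)} (k : T ⟶ T') (z : Z a), k ≫ ConstTarget.ptG (eM a) T' z = ConstTarget.ptG (eM a) T z :=
    fun k z => by
      unfold ConstTarget.ptG
      rw [← Category.assoc k, toUnit_unique (k ≫ toUnit _) (toUnit _)]
  have hRc : ∀ {T : Over (U a)} (x : T ⟶ E') (z : Z a),
      x ≫ R z = x * (ConstTarget.ptG (eM a) T z⁻¹ ≫ u') := fun x z => by
    simp only [R, MonObj.comp_mul, Category.comp_id, ← Category.assoc, hc]
  have H : DiscTriv.IsSimplyTransitive v'.left fun z => (R z).left := by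
    refine ⟨fun z => ?_, ?_, fun z w => ?_, fun K _ x y hxy => ?_⟩
    · rw [← Over.comp_left, MonObj.mul_comp, Category.id_comp, Category.assoc, hex'.2.2.1,
        MonObj.comp_one, _root_.mul_one]
    · have : R 1 = 𝟙 E' := by
        simp only [R, inv_one, ConstTarget.ptG_one (hM a), MonObj.one_comp, _root_.mul_one]
      rw [this]; rfl
    · have : R z ≫ R w = R (w * z) := by
        rw [hRc]
        simp only [R, _root_.mul_assoc, ← MonObj.mul_comp, ConstTarget.ptG_mul (hM a), _root_.mul_inv_rev]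
      exact congrArg CommaMorphism.left this
    · let T : Over (U a) := Over.mk (x ≫ E'.hom)
      haveI : ConnectedSpace T.left := inferInstanceAs (ConnectedSpace (PrimeSpectrum K))
      let a' : T ⟶ E' := Over.homMk x rfl
      let b' : T ⟶ E' := Over.homMk y (by
        show y ≫ E'.hom = x ≫ E'.hom
        rw [← Over.w v', reassoc_of% hxy])
      obtain ⟨k, hk⟩ := exists_translate hex' b' a' (Over.OverMorphism.ext hxy.symm)
      obtain ⟨m, hm⟩ := ConstTarget.exists_eq_pt (k ≫ (eM a).hom)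
      have hkm : k = ConstTarget.ptG (eM a) T m := by
        unfold ConstTarget.ptG
        rw [← Category.assoc, ← hm, Category.assoc, Iso.hom_inv_id, Category.comp_id]
      refine ⟨m⁻¹, ?_, fun w hw => ?_⟩
      · have : b' ≫ R m⁻¹ = a' := by rw [hRc, inv_inv, ← hkm, hk]
        exact congrArg CommaMorphism.left this
      · have h1 : b' ≫ R w = a' := Over.OverMorphism.ext hw
        rw [hRc, ← hk] at h1
        have h2 := u_cancel hex' (mul_left_cancel h1)
        obtain ⟨t⟩ := (inferInstance : Nonempty T.left)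
        have h3 := ConstTarget.mem_piece_ptG (eG := eM a) (T := T) w⁻¹ t
        rw [h2, hkm] at h3
        rw [← ConstTarget.piece_inj h3 (ConstTarget.mem_piece_ptG (eG := eM a) (T := T) m t), inv_inv]
  haveI : Smooth P'.hom := inferInstanceAs (Smooth (pullback.snd P.hom (g a)))
  haveI : QuasiCompact P'.hom := inferInstanceAs (QuasiCompact (pullback.snd P.hom (g a)))
  haveI : QuasiSeparated P'.hom := inferInstanceAs (QuasiSeparated (pullback.snd P.hom (g a)))
  haveI : GeometricallyConnected P'.hom := inferInstanceAs (GeometricallyConnected (pullback.snd P.hom (g a)))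
  have hev : (1 : 𝟙_ (Over (U a)) ⟶ E') ≫ v' = 1 := MonObj.one_comp _
  obtain ⟨σ, hσ, hσ1⟩ := EtTriv.exists_section P'.hom v'.left H (hZ a) (1 : 𝟙_ (Over (U a)) ⟶ P').left
    (Over.w _) (1 : 𝟙_ (Over (U a)) ⟶ E').left (congrArg CommaMorphism.left hev)
  let σ' : P' ⟶ E' := Over.homMk σ (by rw [← Over.w v', reassoc_of% hσ])
  have hσv : σ' ≫ v' = 𝟙 P' := Over.OverMorphism.ext hσ
  have hσe : (1 : 𝟙_ (Over (U a)) ⟶ P') ≫ σ' = 1 := Over.OverMorphism.ext hσ1
  let c : P ⊗ Over.mk (g a) ⟶ Over.mk (P'.hom ≫ g a) := Over.homMk (𝟙 _) (by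
    rw [Category.id_comp]; exact pullback.condition.symm)
  refine ⟨c ≫ tp σ', ?_, ?_⟩
  · rw [Category.assoc, ← tp_comp, hσv]
    apply Over.OverMorphism.ext
    show 𝟙 _ ≫ 𝟙 _ ≫ pullback.fst P.hom (g a) = _
    rw [Category.id_comp, Category.id_comp]; rfl
  · let c' : Over.mk (g a) ⟶ Over.mk ((𝟙_ (Over (U a))).hom ≫ g a) :=
      Over.homMk (𝟙 (U a)) ((Category.id_comp _).trans (Category.id_comp _))
    have hc' : lift (1 : Over.mk (g a) ⟶ P) (𝟙 _) ≫ c ≫ tp σ' = c' ≫ tp ((1 : 𝟙_ (Over (U a)) ⟶ P') ≫ σ') := by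
      apply Over.OverMorphism.ext
      show (lift (1 : Over.mk (g a) ⟶ P) (𝟙 _)).left ≫ 𝟙 _ ≫ σ ≫ pullback.fst E.hom (g a) =
        𝟙 _ ≫ ((1 : 𝟙_ (Over (U a)) ⟶ P').left ≫ σ) ≫ pullback.fst E.hom (g a)
      rw [Category.id_comp, Category.id_comp, Category.assoc]
      congr 1
      apply pullback.hom_ext
      · have e1 := congrArg CommaMorphism.left (congrArg (c' ≫ ·) (tp_one (f := g a) (T := 𝟙_ (Over (U a))) P))
        rw [MonObj.comp_one] at e1
        change 𝟙 _ ≫ (1 : 𝟙_ (Over (U a)) ⟶ P').left ≫ pullback.fst P.hom (g a) = _ at e1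
        rw [Category.id_comp] at e1
        exact (congrArg CommaMorphism.left (lift_fst (1 : Over.mk (g a) ⟶ P) (𝟙 _))).trans e1.symm
      · exact (congrArg CommaMorphism.left (lift_snd (1 : Over.mk (g a) ⟶ P) (𝟙 _))).trans (Over.w (1 : 𝟙_ (Over (U a)) ⟶ P')).symm
    rw [hc', hσe, tp_one, MonObj.comp_one]

include hM hg hex hZ in
/-- The extension splits. -/
theorem exists_splitting : ∃ s : P ⟶ E, IsMonHom s ∧ s ≫ v = 𝟙 P := by
  haveI := hex.1; haveI := hex.2.1
  choose sl hsl hsl1 using fun a => exists_local eM hM hZ hex a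
  -- uniqueness of pointed lifts
  have huniq : ∀ (T : Over S) (x y : P ⊗ T ⟶ E), x ≫ v = y ≫ v →
      lift (1 : T ⟶ P) (𝟙 T) ≫ x = lift (1 : T ⟶ P) (𝟙 T) ≫ y → x = y := by
    intro T x y hxy hy
    obtain ⟨k, hk⟩ := exists_translate hex x y hxy
    have hk1 : lift (1 : T ⟶ P) (𝟙 T) ≫ k = 1 := by
      apply u_cancel hex
      rw [← hk, MonObj.comp_mul, left_eq_mul] at hy
      rw [Category.assoc, hy, MonObj.one_comp]
    rw [← hk, eq_one_of_pointed eM hM hg T k hk1, MonObj.one_comp, _root_.mul_one]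
  let X : I → Scheme.{u} := fun a => (P ⊗ Over.mk (g a)).left
  let q : (∐ X) ⟶ P.left := Sigma.desc fun a => (fst P (Over.mk (g a))).left
  let f : (∐ X) ⟶ E.left := Sigma.desc fun a => (sl a).left
  have hpair : ∀ (T : Over S) (a b : I) (x : T ⟶ P ⊗ Over.mk (g a)) (y : T ⟶ P ⊗ Over.mk (g b)),
      x ≫ fst P _ = y ≫ fst P _ → x ≫ sl a = y ≫ sl b := by
    intro T a b x y hxy
    have key := huniq (Over.mk (g a) ⊗ Over.mk (g b)) ((P ◁ fst _ _) ≫ sl a) ((P ◁ snd _ _) ≫ sl b)
      (by rw [Category.assoc, Category.assoc, hsl, hsl, whiskerLeft_fst, whiskerLeft_fst])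
      (by
        rw [lift_whiskerLeft_assoc, lift_whiskerLeft_assoc, Category.id_comp, Category.id_comp,
          show lift (1 : _ ⟶ P) (fst _ _) =
          fst (Over.mk (g a)) (Over.mk (g b)) ≫ lift 1 (𝟙 _) by rw [comp_lift, MonObj.comp_one, Category.comp_id],
          show lift (1 : _ ⟶ P) (snd _ _) =
          snd (Over.mk (g a)) (Over.mk (g b)) ≫ lift 1 (𝟙 _) by rw [comp_lift, MonObj.comp_one, Category.comp_id],
          Category.assoc, Category.assoc, hsl1, hsl1, MonObj.comp_one, MonObj.comp_one])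
    let l : T ⟶ P ⊗ (Over.mk (g a) ⊗ Over.mk (g b)) := lift (x ≫ fst _ _) (lift (x ≫ snd _ _) (y ≫ snd _ _))
    have h1 : l ≫ (P ◁ fst _ _) = x := by
      apply CartesianMonoidalCategory.hom_ext <;> simp [l]
    have h2 : l ≫ (P ◁ snd _ _) = y := by
      apply CartesianMonoidalCategory.hom_ext <;> simp [l, hxy]
    rw [← h1, ← h2, Category.assoc, Category.assoc, key]
  obtain ⟨s₀, hs₀, -⟩ := (covers_fst hg P).desc f fun T a b hab => by
    -- restrict to the pieces of `T`
    let W : I × I → T.Opens := fun ab =>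
      (a ⁻¹ᵁ (Sigma.ι X ab.1).opensRange) ⊓ (b ⁻¹ᵁ (Sigma.ι X ab.2).opensRange)
    have hW : TopologicalSpace.IsOpenCover W := TopologicalSpace.IsOpenCover.mk (eq_top_iff.2 fun t _ => by
      obtain ⟨⟨i, ya⟩, hya⟩ := (sigmaMk X).surjective (a t)
      obtain ⟨⟨j, yb⟩, hyb⟩ := (sigmaMk X).surjective (b t)
      rw [sigmaMk_mk] at hya hyb
      exact TopologicalSpace.Opens.mem_iSup.2 ⟨(i, j), ⟨ya, hya⟩, ⟨yb, hyb⟩⟩)
    refine (T.openCoverOfIsOpenCover W hW).hom_ext _ _ fun ab => ?_
    obtain ⟨i, j⟩ := ab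
    let inc := (W (i, j)).ι
    show inc ≫ a ≫ f = inc ≫ b ≫ f
    let x₀ := IsOpenImmersion.lift (Sigma.ι X i) (inc ≫ a) (by rintro _ ⟨w, rfl⟩; exact w.2.1)
    let y₀ := IsOpenImmersion.lift (Sigma.ι X j) (inc ≫ b) (by rintro _ ⟨w, rfl⟩; exact w.2.2)
    have hx₀ : x₀ ≫ Sigma.ι X i = inc ≫ a := IsOpenImmersion.lift_fac _ _ _
    have hy₀ : y₀ ≫ Sigma.ι X j = inc ≫ b := IsOpenImmersion.lift_fac _ _ _
    have hq : x₀ ≫ (fst P (Over.mk (g i))).left = y₀ ≫ (fst P (Over.mk (g j))).left := by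
      have := congrArg (inc ≫ ·) hab
      simp only [← Category.assoc, ← hx₀, ← hy₀] at this
      simpa [q, X] using this
    let T₀ : Over S := Over.mk (x₀ ≫ (P ⊗ Over.mk (g i)).hom)
    let x : T₀ ⟶ P ⊗ Over.mk (g i) := Over.homMk x₀ rfl
    let y : T₀ ⟶ P ⊗ Over.mk (g j) := Over.homMk y₀ (by
      show y₀ ≫ (P ⊗ Over.mk (g j)).hom = x₀ ≫ (P ⊗ Over.mk (g i)).hom
      rw [← Over.w (fst P (Over.mk (g j))), ← Category.assoc, ← hq, Category.assoc, Over.w])
    have h3 : x₀ ≫ (sl i).left = y₀ ≫ (sl j).left :=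
      congrArg CommaMorphism.left (hpair T₀ i j x y (Over.OverMorphism.ext hq))
    calc inc ≫ a ≫ f = x₀ ≫ (sl i).left := by rw [← Category.assoc, ← hx₀, Category.assoc, Sigma.ι_desc]
      _ = y₀ ≫ (sl j).left := h3
      _ = inc ≫ b ≫ f := by rw [← Category.assoc inc b f, ← hy₀, Category.assoc, Sigma.ι_desc]
  haveI := (covers_fst hg P).epi
  have hs₀v : s₀ ≫ v.left = 𝟙 _ := by
    rw [← cancel_epi q, reassoc_of% hs₀, Category.comp_id]
    refine Sigma.hom_ext _ _ fun a => ?_
    rw [Sigma.ι_desc_assoc, Sigma.ι_desc, ← Over.comp_left, hsl]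
  let s : P ⟶ E := Over.homMk s₀ (by rw [← Over.w v, reassoc_of% hs₀v])
  have hsv : s ≫ v = 𝟙 P := Over.OverMorphism.ext hs₀v
  have hsa : ∀ a, fst P (Over.mk (g a)) ≫ s = sl a := fun a => by
    apply Over.OverMorphism.ext
    have := congrArg (Sigma.ι X a ≫ ·) hs₀
    simp only [q, f, X, Sigma.ι_desc_assoc, Sigma.ι_desc] at this
    exact this
  have hs1 : η[P] ≫ s = η[E] := by
    refine hom_ext_family hg fun a => ?_
    have h := hsl1 a
    rw [← hsa, lift_fst_assoc] at h
    rw [MonObj.one_eq_one, MonObj.one_eq_one, ← Category.assoc, MonObj.comp_one, MonObj.comp_one]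
    have h' := congrArg (snd (𝟙_ (Over S)) (Over.mk (g a)) ≫ ·) h
    rw [← Category.assoc, MonObj.comp_one, MonObj.comp_one] at h'
    exact h'
  refine ⟨s, { one_hom := hs1, mul_hom := ?_ }, hsv⟩
  have hfs : (1 : P ⟶ P) ≫ s = 1 := by
    rw [Hom.one_def, Category.assoc, hs1, ← Hom.one_def]
  refine huniq P _ _ ?_ ?_
  · rw [Category.assoc, hsv, Category.comp_id, Category.assoc, IsMonHom.mul_hom v,
      MonoidalCategory.tensorHom_comp_tensorHom_assoc, hsv]
    simp
  · rw [← Category.assoc, show lift (1 : P ⟶ P) (𝟙 P) ≫ μ[P] = 𝟙 P by rw [← Hom.mul_def, _root_.one_mul],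
      Category.id_comp, lift_map_assoc, hfs, Category.id_comp, ← Hom.mul_def, _root_.one_mul]

end Groth.Agent.SGA7X.ExtConnected
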