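import Groth.Agent.SGA7X.FieldExtSection

/-! # Extensions by torsion-free constant groups extend from the generic point -/

set_option autoImplicit false
set_option linter.style.haveILetI false
set_option backward.isDefEq.respectTransparency.types false

universe u

open CategoryTheory CategoryTheory.Limits MonoidalCategory CartesianMonoidalCategory MonObj AlgebraicGeometry
open Topology

namespace Groth.Agent.SGA7X.GenExt

variable {S : Scheme.{u}}

theorem smooth_tensor (X Y : Over S) [Smooth X.hom] [Smooth Y.hom] : Smooth (X ⊗ Y).hom := by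
  haveI : Smooth (pullback.fst X.hom Y.hom ≫ X.hom) := inferInstance
  exact ‹Smooth (pullback.fst X.hom Y.hom ≫ X.hom)›

variable [IrreducibleSpace S] (hS : ∀ s : S, CAlg2.IsGeomUnibranch (S.presheaf.stalk s))
  {ξ : S} (hξ : IsGenericPoint ξ (Set.univ : Set S)) {Z : Type u} [Group Z]
  (hZ : ∀ z : Z, IsOfFinOrder z → z = 1) {G P : Over S} [GrpObj G] [GrpObj P]
  (eG : G ≅ TwC.const S Z) (hG : TwC.IsConstGrp Z G eG) [Smooth P.hom]

include hS hξ hZ hG in
/-- Extensions by torsion-free constant groups extend from the generic point. -/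
theorem exists_extension {E' : Over (Spec (S.residueField ξ))} [GrpObj E']
    {u' : Red.bc (S.fromSpecResidueField ξ) G ⟶ E'} {v' : E' ⟶ Red.bc (S.fromSpecResidueField ξ) P}
    (hex' : NonAbH1.IsExactSeq Scheme.fppfPrecoverage u' v') :
    ∃ (E : Over S) (_ : GrpObj E) (u : G ⟶ E) (v : E ⟶ P)
      (φ : Red.bc (S.fromSpecResidueField ξ) E ≅ E'),
      NonAbH1.IsExactSeq Scheme.fppfPrecoverage u v ∧ IsMonHom φ.hom ∧
        (Over.pullback (S.fromSpecResidueField ξ)).map u ≫ φ.hom = u' ∧
        φ.hom ≫ v' = (Over.pullback (S.fromSpecResidueField ξ)).map v := by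
  haveI := hex'.1; haveI := hex'.2.1
  haveI hGs : Smooth G.hom := by
    haveI : Etale (TwC.const S Z).hom := IsZariskiLocalAtSource.sigmaDesc fun _ => inferInstance
    haveI : IsIso eG.hom.left := (Over.forget S).map_isIso eG.hom
    rw [← Over.w eG.hom]
    infer_instance
  haveI : Smooth (Red.bc (S.fromSpecResidueField ξ) P).hom := inferInstanceAs (Smooth (pullback.snd P.hom (S.fromSpecResidueField ξ)))
  -- a normalised section
  obtain ⟨σ₀, hσ₀⟩ := FieldExtSection.exists_section hZ eG hG hex'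
  let σ : Red.bc (S.fromSpecResidueField ξ) P ⟶ E' := σ₀ * ((1 : Red.bc (S.fromSpecResidueField ξ) P ⟶ Red.bc (S.fromSpecResidueField ξ) P) ≫ σ₀)⁻¹
  have hσ : σ ≫ v' = 𝟙 (Red.bc (S.fromSpecResidueField ξ) P) := by
    show (σ₀ * ((1 : Red.bc (S.fromSpecResidueField ξ) P ⟶ Red.bc (S.fromSpecResidueField ξ) P) ≫ σ₀)⁻¹) ≫ v' = _
    rw [MonObj.mul_comp, GrpObj.inv_comp, Category.assoc, hσ₀]
    erw [Category.comp_id]
    rw [inv_one, _root_.mul_one]
  have hσ1 : ∀ T : Over (Spec (S.residueField ξ)), (1 : T ⟶ Red.bc (S.fromSpecResidueField ξ) P) ≫ σ = 1 := fun T => by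
    simp only [σ, MonObj.comp_mul, GrpObj.comp_inv, ← Category.assoc, MonObj.comp_one,
      _root_.mul_inv_cancel]
  -- the underlying scheme
  let E : Over S := G ⊗ P
  let p1 : (Over.pullback (S.fromSpecResidueField ξ)).obj E ⟶ (Over.pullback (S.fromSpecResidueField ξ)).obj G := (Over.pullback (S.fromSpecResidueField ξ)).map (fst G P)
  let p2 : (Over.pullback (S.fromSpecResidueField ξ)).obj E ⟶ (Over.pullback (S.fromSpecResidueField ξ)).obj P := (Over.pullback (S.fromSpecResidueField ξ)).map (snd G P)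
  let θ : (Over.pullback (S.fromSpecResidueField ξ)).obj E ⟶ E' := (p1 ≫ u') * (p2 ≫ σ)
  have hθv : θ ≫ v' = p2 := by
    simp only [θ, MonObj.mul_comp, Category.assoc, hex'.2.2.1, MonObj.comp_one, hσ, Category.comp_id,
      _root_.one_mul]
  obtain ⟨k, hk⟩ := exists_ker_lift hex' (𝟙 E' * (v' ≫ σ)⁻¹) (by
    rw [MonObj.mul_comp, GrpObj.inv_comp, Category.assoc, hσ, Category.id_comp, Category.comp_id,
      _root_.mul_inv_cancel])
  let ψ : E' ⟶ (Over.pullback (S.fromSpecResidueField ξ)).obj E := lift k v' ≫ Functor.LaxMonoidal.μ (Over.pullback (S.fromSpecResidueField ξ)) G P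
  have hψ1 : ψ ≫ p1 = k := by simp only [ψ, p1, Category.assoc, Functor.Monoidal.μ_fst, lift_fst]
  have hψ2 : ψ ≫ p2 = v' := by simp only [ψ, p2, Category.assoc, Functor.Monoidal.μ_snd, lift_snd]
  have hψθ : ψ ≫ θ = 𝟙 E' := by
    simp only [θ, MonObj.comp_mul, ← Category.assoc, hψ1, hψ2]
    rw [hk, inv_mul_cancel_right]
  have hθk : θ ≫ k = p1 := by
    apply u_cancel hex'
    rw [Category.assoc, hk, MonObj.comp_mul, GrpObj.comp_inv, Category.comp_id, ← Category.assoc, hθv]
    simp only [θ, mul_inv_cancel_right]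
  have hθψ : θ ≫ ψ = 𝟙 _ := by
    have e : θ ≫ lift k v' = lift p1 p2 := by rw [comp_lift, hθk, hθv]
    simp only [ψ, ← Category.assoc, e]
    simp only [p1, p2]
    rw [Functor.Monoidal.lift_μ, lift_fst_snd, (Over.pullback (S.fromSpecResidueField ξ)).map_id]
  -- morphisms into `E` from smooth schemes
  have hext : ∀ (T : Over S) [Smooth T.hom] (a b : T ⟶ E), a ≫ snd G P = b ≫ snd G P →
      (Over.pullback (S.fromSpecResidueField ξ)).map a ≫ θ = (Over.pullback (S.fromSpecResidueField ξ)).map b ≫ θ → a = b := by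
    intro T _ a b h2 hab
    refine CartesianMonoidalCategory.hom_ext _ _ (ConstHom.map_injective hξ eG ?_) h2
    rw [(Over.pullback (S.fromSpecResidueField ξ)).map_comp, (Over.pullback (S.fromSpecResidueField ξ)).map_comp, show (Over.pullback (S.fromSpecResidueField ξ)).map (fst G P) = θ ≫ k from hθk.symm, reassoc_of% hab]
  have hmk : ∀ (T : Over S) [Smooth T.hom] (x : (Over.pullback (S.fromSpecResidueField ξ)).obj T ⟶ E') (b : T ⟶ P), x ≫ v' = (Over.pullback (S.fromSpecResidueField ξ)).map b →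
      ∃ a : T ⟶ E, a ≫ snd G P = b ∧ (Over.pullback (S.fromSpecResidueField ξ)).map a ≫ θ = x := by
    intro T _ x b hx
    obtain ⟨f, hf⟩ := ConstHom.map_surjective hS hξ eG (x ≫ k)
    refine ⟨lift f b, lift_snd _ _, ?_⟩
    have h1 : (Over.pullback (S.fromSpecResidueField ξ)).map (lift f b) ≫ p1 = x ≫ k := by rw [← (Over.pullback (S.fromSpecResidueField ξ)).map_comp, lift_fst]; exact hf
    have h2 : (Over.pullback (S.fromSpecResidueField ξ)).map (lift f b) ≫ p2 = x ≫ v' := by rw [← (Over.pullback (S.fromSpecResidueField ξ)).map_comp, lift_snd, hx]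
    simp only [θ, MonObj.comp_mul, ← Category.assoc, h1, h2]
    rw [Category.assoc x k, hk, Category.assoc x v', ← MonObj.comp_mul, inv_mul_cancel_right,
      Category.comp_id]
  haveI hEs : Smooth E.hom := smooth_tensor G P
  haveI hEEs : Smooth (E ⊗ E).hom := smooth_tensor E E
  haveI hEEEs : Smooth ((E ⊗ E) ⊗ E).hom := smooth_tensor _ E
  haveI h1s : Smooth (𝟙_ (Over S)).hom := inferInstanceAs (Smooth (𝟙 S))
  haveI : Smooth (𝟙_ (Over S) ⊗ E).hom := smooth_tensor _ E
  haveI : Smooth (E ⊗ 𝟙_ (Over S)).hom := smooth_tensor E _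
  haveI : Smooth (G ⊗ G).hom := smooth_tensor G G
  obtain ⟨η', hη2, hηθ⟩ := hmk (𝟙_ (Over S)) 1 1 (by rw [MonObj.one_comp, Functor.map_one])
  obtain ⟨μ', hμ2, hμθ⟩ := hmk (E ⊗ E) (((Over.pullback (S.fromSpecResidueField ξ)).map (fst E E) ≫ θ) * ((Over.pullback (S.fromSpecResidueField ξ)).map (snd E E) ≫ θ))
    ((fst E E ≫ snd G P) * (snd E E ≫ snd G P)) (by
      simp only [MonObj.mul_comp, Category.assoc, hθv, Functor.map_mul, (Over.pullback (S.fromSpecResidueField ξ)).map_comp, p2])
  obtain ⟨ι', hι2, hιθ⟩ := hmk E θ⁻¹ (snd G P)⁻¹ (by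
    rw [GrpObj.inv_comp, hθv]
    exact (map_inv ((Over.pullback (S.fromSpecResidueField ξ)).homMonoidHom (X := E) (M := P)) (snd G P)).symm)
  have hμ : ∀ {T : Over S} (a b : T ⟶ E), (lift a b ≫ μ') ≫ snd G P = (a ≫ snd G P) * (b ≫ snd G P) ∧
      (Over.pullback (S.fromSpecResidueField ξ)).map (lift a b ≫ μ') ≫ θ = ((Over.pullback (S.fromSpecResidueField ξ)).map a ≫ θ) * ((Over.pullback (S.fromSpecResidueField ξ)).map b ≫ θ) := fun a b => by
    refine ⟨by rw [Category.assoc, hμ2, MonObj.comp_mul, lift_fst_assoc, lift_snd_assoc], ?_⟩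
    rw [(Over.pullback (S.fromSpecResidueField ξ)).map_comp, Category.assoc, hμθ, MonObj.comp_mul, ← (Over.pullback (S.fromSpecResidueField ξ)).map_comp_assoc, ← (Over.pullback (S.fromSpecResidueField ξ)).map_comp_assoc,
      lift_fst, lift_snd]
  have hη : ∀ {T : Over S} (a : T ⟶ 𝟙_ (Over S)), (a ≫ η') ≫ snd G P = 1 ∧ (Over.pullback (S.fromSpecResidueField ξ)).map (a ≫ η') ≫ θ = 1 :=
    fun a => ⟨by rw [Category.assoc, hη2, MonObj.comp_one],
      by rw [(Over.pullback (S.fromSpecResidueField ξ)).map_comp, Category.assoc, hηθ, MonObj.comp_one]⟩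
  letI mE : MonObj E :=
    { one := η'
      mul := μ'
      one_mul := by
        rw [show η' ▷ E = lift (fst _ _ ≫ η') (snd _ _) by
          apply CartesianMonoidalCategory.hom_ext <;> simp, leftUnitor_hom]
        exact hext _ _ _ (by rw [(hμ _ _).1, (hη _).1, _root_.one_mul])
          (by rw [(hμ _ _).2, (hη _).2, _root_.one_mul])
      mul_one := by
        rw [show E ◁ η' = lift (fst _ _) (snd _ _ ≫ η') by
          apply CartesianMonoidalCategory.hom_ext <;> simp, rightUnitor_hom]
        exact hext _ _ _ (by rw [(hμ _ _).1, (hη _).1, _root_.mul_one])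
          (by rw [(hμ _ _).2, (hη _).2, _root_.mul_one])
      mul_assoc := by
        rw [show μ' ▷ E = lift (lift (fst _ _ ≫ fst _ _) (fst _ _ ≫ snd _ _) ≫ μ') (snd _ _) by
            apply CartesianMonoidalCategory.hom_ext
            · simp [← comp_lift, lift_fst_snd]
            · simp,
          show (α_ E E E).hom ≫ (E ◁ μ') ≫ μ' = lift (fst _ _ ≫ fst _ _)
            (lift (fst _ _ ≫ snd _ _) (snd _ _) ≫ μ') ≫ μ' by
            rw [← Category.assoc]
            congr 1
            apply CartesianMonoidalCategory.hom_ext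
            · simp
            · simp only [Category.assoc, whiskerLeft_snd, lift_snd]
              rw [← Category.assoc]
              congr 1
              apply CartesianMonoidalCategory.hom_ext <;> simp]
        exact hext _ _ _ (by simp only [(hμ _ _).1, _root_.mul_assoc])
          (by simp only [(hμ _ _).2, _root_.mul_assoc]) }
  letI gE : GrpObj E :=
    { mE with
      inv := ι'
      left_inv := show lift ι' (𝟙 E) ≫ μ' = toUnit E ≫ η' from hext _ _ _
        (by rw [(hμ _ _).1, hι2, Category.id_comp, _root_.inv_mul_cancel, (hη _).1])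
        (by rw [(hμ _ _).2, hιθ, (Over.pullback (S.fromSpecResidueField ξ)).map_id, Category.id_comp, _root_.inv_mul_cancel, (hη _).2])
      right_inv := show lift (𝟙 E) ι' ≫ μ' = toUnit E ≫ η' from hext _ _ _
        (by rw [(hμ _ _).1, hι2, Category.id_comp, _root_.mul_inv_cancel, (hη _).1])
        (by rw [(hμ _ _).2, hιθ, (Over.pullback (S.fromSpecResidueField ξ)).map_id, Category.id_comp, _root_.mul_inv_cancel, (hη _).2]) }
  haveI hv : IsMonHom (snd G P : E ⟶ P) :=
    { one_hom := by
        show η' ≫ snd G P = η[P]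
        rw [hη2, MonObj.one_eq_one]
      mul_hom := by
        show μ' ≫ snd G P = _
        rw [hμ2, Hom.mul_def]
        congr 1 }
  let u : G ⟶ E := lift (𝟙 G) 1
  have hu2 : u ≫ snd G P = 1 := lift_snd _ _
  have huθ : (Over.pullback (S.fromSpecResidueField ξ)).map u ≫ θ = u' := by
    have h1 : (Over.pullback (S.fromSpecResidueField ξ)).map u ≫ p1 = 𝟙 _ := by rw [← (Over.pullback (S.fromSpecResidueField ξ)).map_comp, lift_fst, (Over.pullback (S.fromSpecResidueField ξ)).map_id]
    have h2 : (Over.pullback (S.fromSpecResidueField ξ)).map u ≫ p2 = 1 := by rw [← (Over.pullback (S.fromSpecResidueField ξ)).map_comp, lift_snd, Functor.map_one]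
    simp only [θ, MonObj.comp_mul, ← Category.assoc, h1, h2, hσ1, Category.id_comp, _root_.mul_one]
  haveI hu : IsMonHom u :=
    { one_hom := by
        refine hext _ _ _ ?_ ?_
        · rw [Category.assoc, hu2, MonObj.comp_one]; exact hη2.symm
        · rw [(Over.pullback (S.fromSpecResidueField ξ)).map_comp, Category.assoc, huθ]
          refine Eq.trans ?_ hηθ.symm
          rw [show η[G] = (1 : 𝟙_ (Over S) ⟶ G) from MonObj.one_eq_one G, Functor.map_one, MonObj.one_comp]
      mul_hom := by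
        rw [show u ⊗ₘ u = lift (fst G G ≫ u) (snd G G ≫ u) by
          apply CartesianMonoidalCategory.hom_ext <;> simp]
        show μ[G] ≫ u = lift _ _ ≫ μ'
        refine hext _ _ _ ?_ ?_
        · rw [Category.assoc, hu2, (hμ _ _).1, Category.assoc, Category.assoc, hu2]
          simp only [MonObj.comp_one, _root_.mul_one]
        · rw [(Over.pullback (S.fromSpecResidueField ξ)).map_comp, Category.assoc, huθ, (hμ _ _).2, (Over.pullback (S.fromSpecResidueField ξ)).map_comp, (Over.pullback (S.fromSpecResidueField ξ)).map_comp, Category.assoc,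
            Category.assoc, huθ, ← MonObj.mul_comp, ← Functor.map_mul]
          congr 2
          rw [Hom.mul_def, lift_fst_snd, Category.id_comp] }
  let φ : Red.bc (S.fromSpecResidueField ξ) E ≅ E' := ⟨θ, ψ, hθψ, hψθ⟩
  refine ⟨E, gE, u, snd G P, φ, ⟨hu, hv, hu2, ?_, ?_⟩, ?_, huθ, hθv⟩
  · -- the sequence is exact in the middle
    have hker : ∀ {T : Over S} (z : T ⟶ E), z ≫ snd G P = 1 → (z ≫ fst G P) ≫ u = z := fun z hz => by
      apply CartesianMonoidalCategory.hom_ext
      · simp [u]
      · rw [Category.assoc, hu2, MonObj.comp_one, hz]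
    have hm : (E ◁ u) ≫ μ[E] = fst E G * (snd E G ≫ u) := by
      rw [Hom.mul_def]
      congr 1
    rw [hm]
    refine ⟨⟨?_⟩, ⟨PullbackCone.IsLimit.mk _ (fun c => lift c.fst ((c.fst⁻¹ * c.snd) ≫ fst G P))
      (fun c => lift_fst _ _) (fun c => ?_) fun c m hm1 hm2 => ?_⟩⟩
    · rw [MonObj.mul_comp, Category.assoc, hu2, MonObj.comp_one, _root_.mul_one]
    · rw [MonObj.comp_mul, lift_fst, lift_snd_assoc, hker _ (by
        rw [MonObj.mul_comp, GrpObj.inv_comp, c.condition, _root_.inv_mul_cancel]), mul_inv_cancel_left]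
    · rw [MonObj.comp_mul, hm1] at hm2
      apply CartesianMonoidalCategory.hom_ext
      · rw [lift_fst]; exact hm1
      · rw [lift_snd, ← hm2, inv_mul_cancel_left]
        simp [u]
  · refine ⟨Presieve.singleton (𝟙 _), Precoverage.mem_coverings_of_isIso _, ?_⟩
    rintro _ _ ⟨⟩
    exact ⟨(lift (1 : P ⟶ G) (𝟙 P)).left, congrArg CommaMorphism.left (lift_snd (1 : P ⟶ G) (𝟙 P))⟩
  · refine { one_hom := ?_, mul_hom := ?_ }
    · show (Functor.LaxMonoidal.ε (Over.pullback (S.fromSpecResidueField ξ)) ≫ (Over.pullback (S.fromSpecResidueField ξ)).map η') ≫ θ = η[E']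
      rw [Category.assoc, hηθ, MonObj.comp_one, MonObj.one_eq_one]
    · show (Functor.LaxMonoidal.μ (Over.pullback (S.fromSpecResidueField ξ)) E E ≫ (Over.pullback (S.fromSpecResidueField ξ)).map μ') ≫ θ = (θ ⊗ₘ θ) ≫ μ[E']
      rw [Category.assoc, hμθ, MonObj.comp_mul, Functor.Monoidal.μ_fst_assoc,
        Functor.Monoidal.μ_snd_assoc, Hom.mul_def]
      congr 1

end Groth.Agent.SGA7X.GenExt
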