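import Groth.Agent.GrpSchLib.TensorDomain
import Mathlib.RingTheory.Valuation.LocalSubring
import Mathlib.RingTheory.LocalRing.ResidueField.Basic
import Mathlib.RingTheory.Localization.FractionRing
import Mathlib.RingTheory.TensorProduct.Free
import Mathlib.FieldTheory.IsAlgClosed.Basic
import Mathlib.RingTheory.Jacobson.Ring

/-! Rosenlicht: a unit on a product of varieties which is trivial on both axes is trivial. -/

set_option autoImplicit false
universe u

open TensorProduct

namespace Groth.Agent.SGA7X.RosenAlg

variable {k : Type u} [Field k] {A B : Type u} [CommRing A] [Algebra k A] [CommRing B] [Algebra k B]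

/-- Evaluate the second factor at a rational point. -/
noncomputable def slice (R : Type u) [CommRing R] [Algebra k R] (b : B →ₐ[k] k) : R ⊗[k] B →ₐ[k] R :=
  (Algebra.TensorProduct.rid k k R).toAlgHom.comp (Algebra.TensorProduct.map (AlgHom.id k R) b)

theorem slice_tmul (R : Type u) [CommRing R] [Algebra k R] (b : B →ₐ[k] k) (r : R) (y : B) :
    slice R b (r ⊗ₜ y) = b y • r := by
  simp [slice]

theorem slice_map {R R' : Type u} [CommRing R] [Algebra k R] [CommRing R'] [Algebra k R'] (g : R →ₐ[k] R')
    (b : B →ₐ[k] k) (z : R ⊗[k] B) :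
    slice R' b (Algebra.TensorProduct.map g (AlgHom.id k B) z) = g (slice R b z) := by
  induction z using TensorProduct.induction_on with
  | zero => simp
  | tmul r y => simp [slice_tmul]
  | add z z' h h' => rw [map_add, map_add, map_add, map_add, h, h']

theorem slice_one (b : B →ₐ[k] k) (a : A →ₐ[k] k) (z : A ⊗[k] B) :
    Algebra.TensorProduct.lift a b (fun _ _ => Commute.all _ _) z = a (slice A b z) := by
  induction z using TensorProduct.induction_on with
  | zero => simp
  | tmul r y => simp [slice_tmul, mul_comm]
  | add z z' h h' => rw [map_add, map_add, map_add, h, h']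

variable {F : Type u} [Field F] [Algebra k F]

/-- Gauss normalisation of an element of `F ⊗ B` at a valuation ring. -/
theorem exists_normalized (V : ValuationSubring F) [Algebra k V] [IsScalarTower k V F] (z : F ⊗[k] B)
    (hz : z ≠ 0) :
    ∃ (c : F) (z₀ : V ⊗[k] B), c ≠ 0 ∧
      c • Algebra.TensorProduct.map (IsScalarTower.toAlgHom k V F) (AlgHom.id k B) z₀ = z ∧
      Algebra.TensorProduct.map (IsScalarTower.toAlgHom k V (IsLocalRing.ResidueField V)) (AlgHom.id k B) z₀ ≠ 0 := by
  classical
  let e := Module.Free.chooseBasis k B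
  let bF := Algebra.TensorProduct.basis F e
  let bκ := Algebra.TensorProduct.basis (IsLocalRing.ResidueField V) e
  let f := bF.repr z
  have hne : f.support.Nonempty := by
    rw [Finsupp.support_nonempty_iff]
    exact fun h => hz (bF.repr.map_eq_zero_iff.1 h)
  obtain ⟨i₀, hi₀, hmax⟩ := f.support.exists_max_image (fun i => V.valuation (f i)) hne
  have hc : f i₀ ≠ 0 := Finsupp.mem_support_iff.1 hi₀
  have hmem : ∀ i, f i / f i₀ ∈ V := by
    intro i
    rw [← V.valuation_le_one_iff, map_div₀]
    by_cases hi : i ∈ f.support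
    · exact div_le_one_of_le₀ (hmax i hi) zero_le
    · rw [Finsupp.notMem_support_iff.1 hi, map_zero, zero_div]
      exact zero_le
  let z₀ : V ⊗[k] B := ∑ i ∈ f.support, (⟨f i / f i₀, hmem i⟩ : V) ⊗ₜ e i
  refine ⟨f i₀, z₀, hc, ?_, ?_⟩
  · conv_rhs => rw [← bF.linearCombination_repr z]
    rw [Finsupp.linearCombination_apply, Finsupp.sum, map_sum, Finset.smul_sum]
    refine Finset.sum_congr rfl fun i _ => ?_
    rw [Algebra.TensorProduct.map_tmul, AlgHom.id_apply, TensorProduct.smul_tmul', Algebra.TensorProduct.basis_apply,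
      TensorProduct.smul_tmul', smul_eq_mul, smul_eq_mul, mul_one]
    congr 1
    show f i₀ * (f i / f i₀) = f i
    rw [mul_div_cancel₀ _ hc]
  · intro h
    have h0 := congrArg (fun w => bκ.repr w i₀) h
    simp only [map_zero, Finsupp.zero_apply, z₀, map_sum, Algebra.TensorProduct.map_tmul, AlgHom.id_apply,
      Finsupp.coe_finsetSum, Finset.sum_apply, bκ, Algebra.TensorProduct.basis_repr_tmul,
      Module.Basis.repr_self, Finsupp.smul_apply, Finsupp.mapRange_apply] at h0
    rw [Finset.sum_eq_single i₀ (fun i _ hi => by simp [hi]) (fun h => absurd hi₀ h),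
      Finsupp.single_eq_same] at h0
    have h1 : (⟨f i₀ / f i₀, hmem i₀⟩ : V) = 1 := Subtype.ext (div_self hc)
    rw [h1] at h0
    simp at h0

variable [IsAlgClosed k] [IsDomain B]

/-- The valuation of the slices of a unit does not depend on the slice. -/
theorem valuation_slice_eq (V : ValuationSubring F) [Algebra k V] [IsScalarTower k V F]
    {z : F ⊗[k] B} (hz : IsUnit z) (b b₀ : B →ₐ[k] k) :
    V.valuation (slice F b z) = V.valuation (slice F b₀ z) := by
  let g := Algebra.TensorProduct.map (IsScalarTower.toAlgHom k V F) (AlgHom.id k B)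
  let r := Algebra.TensorProduct.map (IsScalarTower.toAlgHom k V (IsLocalRing.ResidueField V)) (AlgHom.id k B)
  have : IsDomain (IsLocalRing.ResidueField V ⊗[k] B) := GrpSchLib.isDomain_tensor_of_isAlgClosed
  obtain ⟨z', hzz'⟩ := hz.exists_right_inv
  have : Nontrivial B := inferInstance
  have hFne : Nontrivial (F ⊗[k] B) :=
    Algebra.TensorProduct.nontrivial_of_algebraMap_injective_of_flat_right k F B (algebraMap k F).injective
  obtain ⟨c, z₀, hc, hz₀, hr⟩ := exists_normalized V z (left_ne_zero_of_mul (hzz'.trans_ne one_ne_zero))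
  obtain ⟨c', z₀', hc', hz₀', hr'⟩ := exists_normalized V z' (right_ne_zero_of_mul (hzz'.trans_ne one_ne_zero))
  have hg : Function.Injective g :=
    Module.Flat.rTensor_preserves_injective_linearMap (M := B) (IsScalarTower.toAlgHom k V F).toLinearMap
      Subtype.val_injective
  have hprod : (c * c') • g (z₀ * z₀') = 1 := by
    rw [map_mul, ← smul_mul_smul_comm, hz₀, hz₀', hzz']
  have hu : IsUnit z₀ := by
    by_cases hv : c * c' ∈ V
    · have h : (⟨c * c', hv⟩ : V) • (z₀ * z₀') = 1 := hg (by
        rw [map_one, ← hprod]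
        induction z₀ * z₀' using TensorProduct.induction_on with
        | zero => simp
        | tmul x y => simp [g, TensorProduct.smul_tmul']
        | add x y h h' => rw [smul_add, map_add, map_add, smul_add, h, h'])
      refine IsUnit.of_mul_eq_one ((⟨c * c', hv⟩ : V) • z₀') ?_
      rw [mul_smul_comm, h]
    · exfalso
      let w : V := ⟨(c * c')⁻¹, (V.mem_or_inv_mem _).resolve_left hv⟩
      have hwu : ¬ IsUnit w := fun hu => by
        obtain ⟨v, hv'⟩ := hu.exists_right_inv
        have e : (c * c')⁻¹ * (v : F) = 1 := congrArg (fun x : V => (x : F)) hv'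
        exact hv (((inv_mul_eq_one₀ (mul_ne_zero hc hc')).1 e) ▸ v.2)
      have h : z₀ * z₀' = w • (1 : V ⊗[k] B) := hg (by
        have h1 : g (w • (1 : V ⊗[k] B)) = (c * c')⁻¹ • (1 : F ⊗[k] B) := by
          simp [g, w, Algebra.TensorProduct.one_def, TensorProduct.smul_tmul']
        rw [h1, ← hprod, smul_smul, inv_mul_cancel₀ (mul_ne_zero hc hc'), one_smul])
      apply mul_ne_zero hr hr'
      rw [← map_mul, h]
      have h2 : r (w • (1 : V ⊗[k] B)) = IsLocalRing.residue V w • (1 : IsLocalRing.ResidueField V ⊗[k] B) := by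
        simp [r, Algebra.TensorProduct.one_def, TensorProduct.smul_tmul']
      rw [h2, (IsLocalRing.residue_eq_zero_iff w).2 hwu, zero_smul]
  have hslice : ∀ d : B →ₐ[k] k, V.valuation (slice F d z) = V.valuation c := by
    intro d
    have e : slice F d z = c * (slice V d z₀ : F) := by
      rw [← hz₀, show (slice V d z₀ : F) = slice F d (g z₀) from (slice_map (IsScalarTower.toAlgHom k V F) d z₀).symm]
      generalize g z₀ = w
      induction w using TensorProduct.induction_on with
      | zero => simp
      | tmul x y => simp [slice_tmul, TensorProduct.smul_tmul']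
      | add x y h h' => rw [smul_add, map_add, map_add, h, h', mul_add]
    rw [e, map_mul]
    have h1 : V.valuation (slice V d z₀ : F) = 1 := by
      obtain ⟨u, hu'⟩ := hu.map (slice V d)
      rw [← hu']
      exact V.valuation_unit u
    rw [h1, mul_one]
  rw [hslice b, hslice b₀]

/-- A unit of `A ⊗ B` trivial on one axis is constant along it; if trivial on both, it is trivial. -/
theorem eq_one_at [IsDomain A] {f : A ⊗[k] B} (hf : IsUnit f) (b₀ : B →ₐ[k] k) (hb₀ : slice A b₀ f = 1)
    (a₀ : A →ₐ[k] k) (b : B →ₐ[k] k) (ha₀ : a₀ (slice A b f) = 1) :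
    slice A b f = 1 := by
  let F := FractionRing A
  let i := IsScalarTower.toAlgHom k A F
  let z := Algebra.TensorProduct.map i (AlgHom.id k B) f
  have hzu : IsUnit z := hf.map _
  have hint : IsIntegral k (i (slice A b f)) := by
    have hmem : i (slice A b f) ∈ (⨅ V : {V : ValuationSubring F // Set.range (algebraMap k F) ⊆ V.toSubring},
        V.1.toSubring) := by
      rw [Subring.mem_iInf]
      intro V
      let : Algebra k V.1 := ((algebraMap k F).codRestrict V.1 fun x => V.2 ⟨x, rfl⟩).toAlgebra
      have : IsScalarTower k V.1 F := IsScalarTower.of_algebraMap_eq fun _ => rfl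
      have h := valuation_slice_eq V.1 hzu b b₀
      rw [slice_map, slice_map, hb₀, map_one, map_one] at h
      exact (V.1.valuation_le_one_iff _).1 h.le
    rw [iInf_valuationSubring_superset] at hmem
    let S := Subring.closure (Set.range (algebraMap k F))
    let φ : k →+* S := (algebraMap k F).codRestrict S fun x => Subring.subset_closure ⟨x, rfl⟩
    let : Algebra k S := φ.toAlgebra
    have : IsScalarTower k S F := IsScalarTower.of_algebraMap_eq fun _ => rfl
    have hφ : Function.Surjective φ := fun x => by
      obtain ⟨y, hy⟩ := (Subring.closure_le (t := (algebraMap k F).range)).2 (fun _ h => h) x.2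
      exact ⟨y, Subtype.ext hy⟩
    have : Algebra.IsIntegral k S := Algebra.isIntegral_of_surjective hφ
    exact isIntegral_trans (R := k) (A := S) _ hmem
  obtain ⟨c, hc⟩ : ∃ c, algebraMap k F c = i (slice A b f) :=
    minpoly.mem_range_of_degree_eq_one k _ (IsAlgClosed.degree_eq_one_of_irreducible k (minpoly.irreducible hint))
  have hA : slice A b f = algebraMap k A c := (IsFractionRing.injective A F) (hc.symm.trans (i.commutes c).symm)
  rw [hA, AlgHom.commutes] at ha₀
  rw [hA, show c = 1 from ha₀, map_one]

end Groth.Agent.SGA7X.RosenAlg
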