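import Groth.Agent.SGA7X.SheetGen
import Mathlib.AlgebraicGeometry.Geometrically.Connected
import Mathlib.AlgebraicGeometry.Morphisms.FlatMono

/-! # The sheet through a section of an étale separated scheme split on connected fibres is open -/

set_option autoImplicit false
set_option linter.style.haveILetI false
set_option linter.unusedSectionVars false
set_option backward.isDefEq.respectTransparency.types false

universe u

open CategoryTheory CategoryTheory.Limits AlgebraicGeometry
open Topology IsLocalRing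

namespace Groth.Agent.SGA7X.SheetEt

/-- The range of a section over `T` is open and closed in the restriction to `T` and determines it. -/
theorem section_clopen {P X : Scheme.{u}} (π : X ⟶ P) [Etale π] [IsSeparated π] {T : Scheme.{u}}
    (j : T ⟶ P) (σ : T ⟶ X) (hσ : σ ≫ π = j) :
    IsClopen (Set.range (pullback.lift σ (𝟙 T) (by rw [hσ, Category.id_comp]) : T ⟶ pullback π j)) ∧
    ∀ {T' : Scheme.{u}} (u : T' ⟶ X) (t : T' ⟶ T) (hu : u ≫ π = t ≫ j),
      (∀ x, pullback.lift u t hu x ∈ Set.range (pullback.lift σ (𝟙 T) (by rw [hσ, Category.id_comp]) :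
        T ⟶ pullback π j)) → u = t ≫ σ := by
  let σ' : T ⟶ pullback π j := pullback.lift σ (𝟙 T) (by rw [hσ, Category.id_comp])
  have h2 : σ' ≫ pullback.snd π j = 𝟙 T := pullback.lift_snd _ _ _
  haveI : IsClosedImmersion (σ' ≫ pullback.snd π j) := by rw [h2]; infer_instance
  haveI : IsClosedImmersion σ' := IsClosedImmersion.of_comp σ' (pullback.snd π j)
  haveI : Etale (σ' ≫ pullback.snd π j) := by rw [h2]; infer_instance
  haveI : Etale σ' := Etale.of_comp σ' (pullback.snd π j)
  haveI : IsOpenImmersion σ' := IsOpenImmersion.of_flat_of_mono σ'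
  refine ⟨⟨σ'.isClosedEmbedding.isClosed_range, σ'.isOpenEmbedding.isOpen_range⟩, fun {T'} u t hu h => ?_⟩
  let l := IsOpenImmersion.lift σ' (pullback.lift u t hu) (by rintro _ ⟨x, rfl⟩; exact h x)
  have hl : l ≫ σ' = pullback.lift u t hu := IsOpenImmersion.lift_fac _ _ _
  have e1 := congrArg (· ≫ pullback.fst π j) hl
  have e2 := congrArg (· ≫ pullback.snd π j) hl
  simp only [Category.assoc, σ', pullback.lift_fst, pullback.lift_snd, Category.comp_id] at e1 e2
  rw [← e1, e2]

variable {S P X : Scheme.{u}} (p : P ⟶ S) [Smooth p] [QuasiCompact p] [QuasiSeparated p]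
  [GeometricallyConnected p] (e : S ⟶ P) (he : e ≫ p = 𝟙 S) (π : X ⟶ P) [Etale π] [IsSeparated π]
  (e' : S ⟶ X) (he' : e' ≫ π = e)

variable (g : ∀ s, p.fiber s ⟶ X) (hg : ∀ s, g s ≫ π = p.fiberι s)

/-- The union of the ranges of the sections of the fibres. -/
abbrev sheet : Set X := {x | ∃ s, x ∈ Set.range (g s)}

include hg

omit [Smooth p] [QuasiCompact p] [QuasiSeparated p] [GeometricallyConnected p] in
theorem apply_q (s : S) (z : p.fiber s) : p (π (g s z)) = s := by
  have h : π (g s z) = p.fiberι s z := by rw [← Scheme.Hom.comp_apply, hg]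
  rw [h]
  exact (p.range_fiberι s).le (Set.mem_range_self z)

omit [Smooth p] [QuasiCompact p] [QuasiSeparated p] [GeometricallyConnected p] in
theorem mem_sheet_iff {x : X} {s : S} (hx : p (π x) = s) :
    x ∈ sheet p g ↔ x ∈ Set.range (g s) := by
  refine ⟨fun ⟨s', z, hz⟩ => ?_, fun h => ⟨s, h⟩⟩
  obtain rfl : s' = s := by rw [← hx, ← hz, apply_q p π g hg]
  exact ⟨z, hz⟩


omit [Smooth p] [QuasiCompact p] [QuasiSeparated p] [GeometricallyConnected p] in
/-- In each fibre the sheet is open and closed. -/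
theorem fibre_clopen (s : S) : ∃ U : Set ↥(pullback π (p.fiberι s)), IsClopen U ∧
    pullback.fst π (p.fiberι s) ⁻¹' sheet p g = U ∧
    (∀ x, x ∈ Set.range (pullback.fst π (p.fiberι s)) ↔ p (π x) = s) ∧
    ∀ {T' : Scheme.{u}} (v : T' ⟶ X) (t : T' ⟶ p.fiber s) (_ : v ≫ π = t ≫ p.fiberι s),
      (∀ z, v z ∈ sheet p g) → v = t ≫ g s := by
  obtain ⟨hU, hU'⟩ := section_clopen π (p.fiberι s) (g s) (hg s)
  have hr : ∀ x, x ∈ Set.range (pullback.fst π (p.fiberι s)) ↔ p (π x) = s := fun x => by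
    rw [Scheme.Pullback.range_fst, p.range_fiberι]; rfl
  have hW : pullback.fst π (p.fiberι s) ⁻¹' sheet p g = Set.range (pullback.lift (g s) (𝟙 _)
      (by rw [hg, Category.id_comp]) : p.fiber s ⟶ pullback π (p.fiberι s)) := by
    ext w
    rw [Set.mem_preimage, mem_sheet_iff p π g hg ((hr _).1 ⟨w, rfl⟩)]
    refine ⟨fun ⟨z, hz⟩ => ⟨z, (pullback.fst π (p.fiberι s)).isEmbedding.injective ?_⟩, ?_⟩
    · rw [← Scheme.Hom.comp_apply, pullback.lift_fst, hz]
    · rintro ⟨z, rfl⟩
      exact ⟨z, by rw [← Scheme.Hom.comp_apply, pullback.lift_fst]⟩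
  refine ⟨_, hU, hW, hr, fun v t hv hvW => hU' v t hv fun z => ?_⟩
  rw [← hW, Set.mem_preimage, ← Scheme.Hom.comp_apply, pullback.lift_fst]
  exact hvW z

omit [Smooth p] [QuasiCompact p] [QuasiSeparated p] [GeometricallyConnected p] in
/-- Points of the sheet with values in a field are determined by their images in `P`. -/
theorem sheet_inj (K : Type u) [Field K] (u v : Spec (.of K) ⟶ X)
    (huv : u ≫ π = v ≫ π) (hu : ∀ z, u z ∈ sheet p g) (hv : ∀ z, v z ∈ sheet p g) :
    u = v := by
  obtain ⟨φ, hφ⟩ := SheetGen.exists_factor_residue (u ≫ π ≫ p)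
    (s := p (π (u (closedPoint K)))) fun z => by
      rw [Subsingleton.elim z (closedPoint K)]; rfl
  obtain ⟨U, -, -, -, h⟩ := fibre_clopen p π g hg (p (π (u (closedPoint K))))
  let t : Spec (.of K) ⟶ p.fiber _ :=
    pullback.lift (u ≫ π) φ (by rw [Category.assoc, hφ])
  have ht : t ≫ p.fiberι _ = u ≫ π := pullback.lift_fst _ _ _
  rw [h u t ht.symm hu, h v t (huv.symm.trans ht.symm) hv]

variable (hn : ∀ s, e' s ∈ Set.range (g s))
include hn he he'

omit [QuasiSeparated p] in
/-- The sheet is stable under generization. -/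
theorem sheet_gen {x' x : X} (h : x' ⤳ x) (hx : x ∈ sheet p g) : x' ∈ sheet p g := by
  let q := π ≫ p
  obtain ⟨A, l, hl, hcl⟩ := HTopCov.exists_valuationSubring_of_specializes h
  let a : Spec (.of A) ⟶ S := l ≫ q
  let f := pullback.snd q a
  let pr := pullback.fst q a
  let r₁ : Spec (.of A) ⟶ pullback q a := pullback.lift l (𝟙 _) (Category.id_comp _).symm
  let r₂ : Spec (.of A) ⟶ pullback q a := pullback.lift (a ≫ e') (𝟙 _)
    (by rw [Category.assoc, reassoc_of% he', he, Category.comp_id, Category.id_comp])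
  let bot : Spec (.of A) := (⊥ : PrimeSpectrum A)
  let cl : Spec (.of A) := closedPoint A
  have hbot : l bot = x' := by
    let z : PrimeSpectrum (X.residueField x') := ⊥
    have hz : (Spec.map (CommRingCat.ofHom A.subtype)) z = bot :=
      PrimeSpectrum.ext ((RingHom.injective_iff_ker_eq_bot A.subtype).mp Subtype.val_injective)
    rw [← hz, ← Scheme.Hom.comp_apply, hl]
    exact Scheme.fromSpecResidueField_apply x' z
  have hsp : bot ⤳ cl := IsLocalRing.specializes_closedPoint _
  let s := a cl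
  obtain ⟨φ, hφ⟩ := SheetGen.exists_factor_residue
    (K := ResidueField A) (Spec.map (CommRingCat.ofHom (residue A)) ≫ a) (s := s) fun z => by
      rw [Scheme.Hom.comp_apply]
      refine congrArg a ?_
      rw [Subsingleton.elim z (closedPoint (ResidueField A))]
      exact comap_closedPoint (residue A)
  let k : Spec (.of (ResidueField A)) ⟶ Spec (.of A) := Spec.map (CommRingCat.ofHom (residue A))
  have hk : ∀ z, k z = cl := fun z => by
    rw [Subsingleton.elim z (closedPoint (ResidueField A))]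
    exact comap_closedPoint (residue A)
  let T := pullback p (k ≫ a)
  haveI : IsLocallyNoetherian T := LocallyOfFiniteType.isLocallyNoetherian (pullback.snd p (k ≫ a))
  haveI : CompactSpace T := QuasiCompact.compactSpace_of_compactSpace (pullback.snd p (k ≫ a))
  haveI : IsNoetherian T := {}
  haveI : ConnectedSpace (Spec (CommRingCat.of (ResidueField A))) :=
    inferInstanceAs (ConnectedSpace (PrimeSpectrum (ResidueField A)))
  let m : T ⟶ p.fiber s := pullback.lift (pullback.fst _ _) (pullback.snd _ _ ≫ φ)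
    (by rw [Category.assoc, hφ]; exact pullback.condition)
  have hm : m ≫ p.fiberι s = pullback.fst p (k ≫ a) := pullback.lift_fst _ _ _
  let j : T ⟶ pullback q a := pullback.lift (m ≫ g s) (pullback.snd _ _ ≫ k)
    (by simp only [q, Category.assoc, reassoc_of% (hg s), reassoc_of% hm]
        exact pullback.condition)
  have hrange : ∀ r : Spec (.of A) ⟶ pullback q a, r ≫ f = 𝟙 _ → pr (r cl) ∈ sheet p g →
      r cl ∈ Set.range j := by
    intro r hr hmem
    let τ : Spec (.of (ResidueField A)) ⟶ T := pullback.lift (k ≫ r ≫ pr ≫ π) (𝟙 _) (by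
      simp only [Category.assoc, Category.id_comp]
      rw [show r ≫ pr ≫ π ≫ p = r ≫ f ≫ a from congrArg (r ≫ ·) pullback.condition, reassoc_of% hr])
    have hτ : τ ≫ j = k ≫ r := by
      refine pullback.hom_ext ?_ ?_
      · simp only [j, Category.assoc, pullback.lift_fst]
        refine sheet_inj p π g hg _ _ _ ?_ (fun z => ⟨s, m (τ z), rfl⟩) fun z => ?_
        · simp only [Category.assoc, hg, hm, τ, pullback.lift_fst]
          rfl
        · rw [Scheme.Hom.comp_apply, Scheme.Hom.comp_apply, hk]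
          exact hmem
      · simp only [j, τ, Category.assoc, pullback.lift_snd, pullback.lift_snd_assoc, Category.id_comp]
        rw [show r ≫ pullback.snd q a = 𝟙 _ from hr, Category.comp_id]
    exact ⟨τ (closedPoint _), by rw [← Scheme.Hom.comp_apply, hτ, Scheme.Hom.comp_apply, hk]⟩
  have hr₁ : r₁ ≫ f = 𝟙 _ := pullback.lift_snd _ _ _
  have hr₂ : r₂ ≫ f = 𝟙 _ := pullback.lift_snd _ _ _
  have hf₁ : ∀ z, pr (r₁ z) = l z := fun z => by rw [← Scheme.Hom.comp_apply, pullback.lift_fst]
  have hf₂ : ∀ z, pr (r₂ z) = e' (a z) := fun z => by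
    rw [← Scheme.Hom.comp_apply, pullback.lift_fst, Scheme.Hom.comp_apply]
  haveI : Smooth f := inferInstance
  have key := SheetGen.mem_of_connected_piece (V := CommRingCat.of A) f (pr ⁻¹' sheet p g)
    (fun c d hc hd hcd => ?_) j (x := r₂ cl)
    (hrange r₂ hr₂ (by rw [hf₂]; exact ⟨_, hn _⟩)) (hsp.map r₂.continuous)
    (by rw [← Scheme.Hom.comp_apply, hr₂]; rfl) (by rw [Set.mem_preimage, hf₂]; exact ⟨_, hn _⟩)
    (y := r₁ cl) (hrange r₁ hr₁ (by rw [hf₁, hcl]; exact hx)) (hsp.map r₁.continuous)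
    (by rw [← Scheme.Hom.comp_apply, hr₁]; rfl)
  · rwa [Set.mem_preimage, hf₁, hbot] at key
  · obtain ⟨U, hU, hWU, hr, -⟩ := fibre_clopen p π g hg (a bot)
    have hq : ∀ w, f w = bot → p (π (pr w)) = a bot := fun w hw => by
      have := congrArg (fun (F : pullback q a ⟶ S) => F w) pullback.condition
      simp only [q, Scheme.Hom.comp_apply] at this
      rw [this, ← hw]
    obtain ⟨c', hc'⟩ := (hr _).2 (hq c hc)
    obtain ⟨d', hd'⟩ := (hr _).2 (hq d hd)
    have hcd' : c' ⤳ d' := by
      rw [← (pullback.fst π (p.fiberι (a bot))).isEmbedding.isInducing.specializes_iff, hc', hd']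
      exact hcd.map pr.continuous
    rw [Set.mem_preimage, Set.mem_preimage, ← hc', ← hd', ← Set.mem_preimage, ← Set.mem_preimage, hWU]
    exact ⟨fun hu => hcd'.mem_closed hU.1 hu, fun hu => hcd'.mem_open hU.2 hu⟩

/-- The sheet is open. -/
theorem isOpen_sheet : IsOpen (sheet p g) := by
  have hfib : ∀ s, ∃ O O' : Set X, IsOpen O ∧ IsOpen O' ∧ ∀ x, p (π x) = s →
      ((x ∈ O ↔ x ∈ sheet p g) ∧ (x ∈ O' ↔ x ∉ sheet p g)) := by
    intro s
    obtain ⟨U, hU, hWU, hr, -⟩ := fibre_clopen p π g hg s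
    obtain ⟨O, hO, hOU⟩ := (pullback.fst π (p.fiberι s)).isEmbedding.isInducing.isOpen_iff.1 hU.2
    obtain ⟨O', hO', hO'U⟩ :=
      (pullback.fst π (p.fiberι s)).isEmbedding.isInducing.isOpen_iff.1 hU.1.isOpen_compl
    refine ⟨O, O', hO, hO', fun x hx => ?_⟩
    obtain ⟨w, rfl⟩ := (hr x).2 hx
    exact ⟨(Set.ext_iff.1 (hOU.trans hWU.symm) w), (Set.ext_iff.1 (hO'U.trans (congrArg compl hWU.symm)) w)⟩
  rw [isOpen_iff_mem_nhds]
  intro x hx
  obtain ⟨_, ⟨V₀, hV, rfl⟩, hxV, -⟩ :=
    S.isBasis_affineOpens.exists_subset_of_mem_open (Set.mem_univ (p (π x))) isOpen_univ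
  let V : S.Opens := V₀
  haveI : IsAffine (V : Scheme.{u}) := hV
  let PV := p ⁻¹ᵁ V
  let EV := π ⁻¹ᵁ PV
  have hmemV : ∀ s : (V : Scheme.{u}), (V.ι ≫ e') s ∈ Set.range EV.ι := fun s => by
    rw [Scheme.Opens.range_ι]
    show p (π (e' s.1)) ∈ V
    rw [← Scheme.Hom.comp_apply, ← Scheme.Hom.comp_apply, reassoc_of% he', he]
    exact s.2
  let e'' : (V : Scheme.{u}) ⟶ EV := IsOpenImmersion.lift EV.ι (V.ι ≫ e')
    (by rintro _ ⟨s, rfl⟩; exact hmemV s)
  have he'' : ∀ s, (e'' s).1 = e' s.1 := fun s => by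
    show EV.ι (e'' s) = _
    rw [← Scheme.Hom.comp_apply, IsOpenImmersion.lift_fac]; rfl
  haveI : QuasiSeparatedSpace (V : Scheme.{u}) := inferInstance
  have hcoe : ∀ w : (EV : Scheme.{u}), ((p ∣_ V) ((π ∣_ PV) w)).1 = p (π w.1) := fun w => by
    rw [morphismRestrict_base_coe, morphismRestrict_base_coe]
  have hlc := SheetGen.isLocallyConstructible_sheet (π ∣_ PV) (p ∣_ V) e''
    (EV.ι ⁻¹' sheet p g)
    (fun s => Subtype.ext (by
      rw [hcoe, he'', ← Scheme.Hom.comp_apply, ← Scheme.Hom.comp_apply, reassoc_of% he', he]; rfl))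
    (fun s => ⟨s.1, by
      show EV.ι (e'' s) ∈ _
      rw [show EV.ι (e'' s) = e' s.1 from he'' s]; exact hn _⟩)
    (fun s => ((p ∣_ V).isConnected_preimage_singleton s).isPreconnected)
    (fun s => by
      obtain ⟨O, O', hO, -, h⟩ := hfib s.1
      exact ⟨EV.ι ⁻¹' O, hO.preimage EV.ι.continuous, fun w hw =>
        (h (EV.ι w) ((hcoe w).symm.trans (congrArg Subtype.val hw))).1⟩)
    (fun s => by
      obtain ⟨O, O', -, hO', h⟩ := hfib s.1
      exact ⟨EV.ι ⁻¹' O', hO'.preimage EV.ι.continuous, fun w hw =>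
        (h (EV.ι w) ((hcoe w).symm.trans (congrArg Subtype.val hw))).2⟩)
    (fun y => by
      obtain ⟨z, hz⟩ := (p.range_fiberι (p y.1)).ge (rfl : p y.1 = p y.1)
      have hπ : π (g _ z) = y.1 := by rw [← Scheme.Hom.comp_apply, hg, hz]
      refine ⟨⟨g _ z, show p (π (g _ z)) ∈ V by rw [hπ]; exact y.2⟩, ⟨_, z, rfl⟩, Subtype.ext ?_⟩
      rw [morphismRestrict_base_coe]; exact hπ)
    (fun s => by
      refine EV.ι.isEmbedding.isCompact_iff.2 ?_
      have : EV.ι '' (EV.ι ⁻¹' sheet p g ∩ {w | (p ∣_ V) ((π ∣_ PV) w) = s}) = Set.range (g s.1) := by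
        ext w
        refine ⟨?_, fun hw => ?_⟩
        · rintro ⟨w, ⟨hw, hws⟩, rfl⟩
          exact (mem_sheet_iff p π g hg ((hcoe w).symm.trans (congrArg Subtype.val hws))).1 hw
        · obtain ⟨z, rfl⟩ := hw
          have hq := apply_q p π g hg s.1 z
          exact ⟨⟨g s.1 z, show p (π (g s.1 z)) ∈ V by rw [hq]; exact s.2⟩,
            ⟨⟨_, z, rfl⟩, Subtype.ext ((hcoe _).trans hq)⟩, rfl⟩
      rw [this]
      haveI : CompactSpace (p.fiber s.1) := inferInstance
      exact isCompact_range (g s.1).continuous)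
    (fun K _ u v huv hu hv => by
      rw [← cancel_mono EV.ι]
      refine sheet_inj p π g hg K _ _ ?_ hu hv
      have := congrArg (· ≫ PV.ι) huv
      simpa only [Category.assoc, morphismRestrict_ι] using this)
  have h := FibDim.mem_nhds_of_generizations hlc (y := (⟨x, hxV⟩ : (EV : Scheme.{u}))) fun w hw =>
    sheet_gen p e he π e' he' g hg hn (hw.map EV.ι.continuous) hx
  exact Filter.mem_of_superset (EV.ι.isOpenEmbedding.image_mem_nhds.2 h) (Set.image_preimage_subset _ _)

include he he' hn in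
/-- The sheet gives a section. -/
theorem exists_global : ∃ σ : P ⟶ X, σ ≫ π = 𝟙 P ∧ e ≫ σ = e' := by
  have hW := isOpen_sheet p e he π e' he' g hg hn
  let U : X.Opens := ⟨_, hW⟩
  let f : (U : Scheme.{u}) ⟶ P := U.ι ≫ π
  haveI : Mono f := ⟨fun {T} u v huv => by
    rw [← cancel_mono U.ι]
    have h : (u ≫ U.ι) ≫ π = (v ≫ U.ι) ≫ π := (Category.assoc _ _ _).trans (huv.trans (Category.assoc _ _ _).symm)
    let l : T ⟶ pullback π π := pullback.lift (u ≫ U.ι) (v ≫ U.ι) h
    have hr : Set.range l ⊆ Set.range (pullback.diagonal π) := by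
      rintro _ ⟨t, rfl⟩
      have hi := sheet_inj p π g hg _ (T.fromSpecResidueField t ≫ u ≫ U.ι) (T.fromSpecResidueField t ≫ v ≫ U.ι)
        (by simp only [Category.assoc]; exact congrArg (T.fromSpecResidueField t ≫ ·) huv)
        (fun z => (u (T.fromSpecResidueField t z)).2) (fun z => (v (T.fromSpecResidueField t z)).2)
      refine ⟨(u ≫ U.ι) t, ?_⟩
      have e : T.fromSpecResidueField t ≫ l = (T.fromSpecResidueField t ≫ u ≫ U.ι) ≫ pullback.diagonal π := by
        refine pullback.hom_ext ?_ ?_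
        · rw [Category.assoc, Category.assoc, pullback.diagonal_fst, Category.comp_id, pullback.lift_fst]
        · rw [Category.assoc, Category.assoc, pullback.diagonal_snd, Category.comp_id, pullback.lift_snd]; exact hi.symm
      have := congrArg (fun q : Spec (T.residueField t) ⟶ pullback π π => q (closedPoint (T.residueField t))) e
      simp only [Scheme.Hom.comp_apply, Scheme.fromSpecResidueField_apply] at this ⊢
      exact this.symm
    have hfac : IsOpenImmersion.lift (pullback.diagonal π) l hr ≫ pullback.diagonal π = l :=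
      IsOpenImmersion.lift_fac _ _ _
    have h1 := congrArg (· ≫ pullback.fst π π) hfac
    have h2 := congrArg (· ≫ pullback.snd π π) hfac
    simp only [Category.assoc, pullback.diagonal_fst, pullback.diagonal_snd, Category.comp_id, l,
      pullback.lift_fst, pullback.lift_snd] at h1 h2
    exact h1.symm.trans h2⟩
  haveI : IsOpenImmersion f := IsOpenImmersion.of_flat_of_mono f
  haveI : Surjective f := ⟨fun y => by
    obtain ⟨z, hz⟩ := (p.range_fiberι (p y)).ge (rfl : p y = p y)
    refine ⟨⟨g _ z, _, z, rfl⟩, ?_⟩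
    show π (g _ z) = y
    rw [← Scheme.Hom.comp_apply, hg, hz]⟩
  haveI : IsIso f := isIso_iff_isOpenImmersion_and_surjective f |>.2 ⟨inferInstance, inferInstance⟩
  refine ⟨inv f ≫ U.ι, by rw [Category.assoc]; exact IsIso.inv_hom_id f, ?_⟩
  let el : S ⟶ U := IsOpenImmersion.lift U.ι e' (by
    rintro _ ⟨s, rfl⟩
    rw [Scheme.Opens.range_ι]
    exact ⟨s, hn s⟩)
  have hel : el ≫ U.ι = e' := IsOpenImmersion.lift_fac _ _ _
  have h1 : e ≫ inv f = el := by
    rw [← cancel_mono f, Category.assoc, IsIso.inv_hom_id, Category.comp_id,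
      show el ≫ f = e' ≫ π by rw [← hel, Category.assoc], he']
  rw [← Category.assoc, h1, hel]

end Groth.Agent.SGA7X.SheetEt
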