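import Groth.Prelude.Def_Red
import Groth.Prelude.Def_TwC
import Groth.Agent.FpqcDescLib.Basic
import Groth.Agent.HTopCov.Misc

/-! # Points of base changes; fpqc-local identities -/

set_option autoImplicit false
set_option linter.style.haveILetI false
set_option backward.isDefEq.respectTransparency.types false

universe u

open CategoryTheory CategoryTheory.Limits MonoidalCategory CartesianMonoidalCategory MonObj AlgebraicGeometry

namespace Groth.Agent.SGA7X.Transpose

variable {S S' : Scheme.{u}} {f : S' ⟶ S}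

/-- A point of a base change as a point over the original base. -/
noncomputable def tp {T : Over S'} {X : Over S} (x : T ⟶ Red.bc f X) : Over.mk (T.hom ≫ f) ⟶ X :=
  Over.homMk (x.left ≫ pullback.fst X.hom f) (by
    rw [Category.assoc, pullback.condition]
    exact (Category.assoc _ _ _).symm.trans (congrArg (· ≫ f) (Over.w x)))

theorem tp_left {T : Over S'} {X : Over S} (x : T ⟶ Red.bc f X) :
    (tp x).left = x.left ≫ pullback.fst X.hom f := rfl

theorem tp_comp {T : Over S'} {X Y : Over S} (x : T ⟶ Red.bc f X) (k : X ⟶ Y) :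
    tp (x ≫ (Over.pullback f).map k) = tp x ≫ k := by
  apply Over.OverMorphism.ext
  show (x.left ≫ ((Over.pullback f).map k).left) ≫ pullback.fst Y.hom f = (x.left ≫ pullback.fst X.hom f) ≫ k.left
  rw [Category.assoc, Category.assoc]
  exact congrArg (x.left ≫ ·) (pullback.lift_fst _ _ _)

theorem tp_injective {T : Over S'} {X : Over S} {x y : T ⟶ Red.bc f X} (h : tp x = tp y) : x = y :=
  Over.OverMorphism.ext (pullback.hom_ext (congrArg CommaMorphism.left h) ((Over.w x).trans (Over.w y).symm))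

/-- A point over the original base as a point of the base change. -/
noncomputable def tpInv {T : Over S'} {X : Over S} (x : Over.mk (T.hom ≫ f) ⟶ X) : T ⟶ Red.bc f X :=
  Over.homMk (pullback.lift x.left T.hom (Over.w x)) (pullback.lift_snd _ _ _)

theorem tp_tpInv {T : Over S'} {X : Over S} (x : Over.mk (T.hom ≫ f) ⟶ X) : tp (tpInv x) = x :=
  Over.OverMorphism.ext (pullback.lift_fst _ _ _)

theorem tp_one {T : Over S'} (X : Over S) [GrpObj X] : tp (1 : T ⟶ Red.bc f X) = 1 := by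
  have h : (1 : T ⟶ Red.bc f X) =
      (toUnit T ≫ Functor.LaxMonoidal.ε (Over.pullback f)) ≫ (Over.pullback f).map η[X] := by
    rw [Hom.one_def, Category.assoc]
    rfl
  rw [h, tp_comp, Hom.one_def, toUnit_unique (tp _) (toUnit _)]

theorem eq_one_of_tp {T : Over S'} {X : Over S} [GrpObj X] {x : T ⟶ Red.bc f X} (h : tp x = 1) : x = 1 :=
  tp_injective (h.trans (tp_one X).symm)

/-- The pieces of an fpqc localisation form an fpqc covering family. -/
theorem exists_family {P : ∀ (S' : Scheme.{u}), (S' ⟶ S) → Prop}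
    (h : TwC.Locally S TwC.Topology.fpqc P) :
    ∃ (I : Type u) (U : I → Scheme.{u}) (g : ∀ a, U a ⟶ S),
      Presieve.ofArrows U g ∈ Scheme.fpqcPrecoverage S ∧ ∀ a, P (U a) (g a) := by
  obtain ⟨X, q, hfl, hsurj, hqc, hP⟩ := h
  choose O hxO hO using hP
  let U : X → Scheme.{u} := fun x => (O x : Scheme.{u})
  let g : ∀ x, U x ⟶ S := fun x => (O x).ι ≫ q
  refine ⟨X, U, g, ?_, hO⟩
  let E : PreZeroHypercover.{u} S := ⟨X, U, g⟩
  show E.presieve₀ ∈ Scheme.fpqcPrecoverage S
  rw [HTopCov.fpqc_sigma_iff]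
  haveI : Flat (Sigma.desc g) := IsZariskiLocalAtSource.sigmaDesc fun x => inferInstance
  haveI : Surjective (Sigma.desc g) := ⟨fun s => by
    obtain ⟨x, rfl⟩ := q.surjective s
    exact ⟨Sigma.ι U x ⟨x, hxO x⟩, by rw [← Scheme.Hom.comp_apply, Sigma.ι_desc]; rfl⟩⟩
  refine FpqcDescLib.isCovering_of_flat (Sigma.desc g) fun V hV => ?_
  obtain ⟨W, hW, hWV⟩ := hqc V hV
  have hA : ∀ w : (W : Set X), ∃ A : X.Opens, IsAffineOpen A ∧ w.1 ∈ A ∧ A ≤ O w.1 ⊓ W := fun w => by
    obtain ⟨_, ⟨A, hA, rfl⟩, hwA, hAle⟩ :=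
      X.isBasis_affineOpens.exists_subset_of_mem_open (show w.1 ∈ ((O w.1 ⊓ W : X.Opens) : Set X) from ⟨hxO w.1, w.2⟩)
        (O w.1 ⊓ W).2
    exact ⟨A, hA, hwA, hAle⟩
  choose A hAaff hAmem hAle using hA
  obtain ⟨F, hF⟩ := hW.elim_finite_subcover (fun w => (A w : Set X)) (fun w => (A w).2)
    fun x hx => Set.mem_iUnion.2 ⟨⟨x, hx⟩, hAmem ⟨x, hx⟩⟩
  let B : ↥(W : Set X) → (∐ U : Scheme.{u}).Opens := fun w => (Sigma.ι U w.1) ''ᵁ ((O w.1).ι ⁻¹ᵁ A w)
  refine ⟨⟨⋃ w ∈ F, (B w : Set _), isOpen_biUnion fun w _ => (B w).2⟩, F.isCompact_biUnion fun w _ => ?_, ?_⟩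
  · refine IsCompact.image ?_ (Sigma.ι U w.1).continuous
    refine (O w.1).ι.isEmbedding.isCompact_iff.2 ?_
    convert! (hAaff w).isCompact using 1
    ext x
    exact ⟨fun ⟨y, hy, e⟩ => e ▸ hy, fun hx => ⟨⟨x, (hAle w hx).1⟩, hx, rfl⟩⟩
  · rw [← hWV]
    ext s
    constructor
    · rintro ⟨z, hz, rfl⟩
      obtain ⟨w, hw, y, hy, rfl⟩ := Set.mem_iUnion₂.1 hz
      refine ⟨y.1, (hAle w hy).2, ?_⟩
      show q y.1 = (Sigma.desc g) (Sigma.ι U w.1 y)
      rw [← Scheme.Hom.comp_apply, Sigma.ι_desc]; rfl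
    · rintro ⟨x, hx, rfl⟩
      obtain ⟨w, hw, hxA⟩ := Set.mem_iUnion₂.1 (hF hx)
      refine ⟨Sigma.ι U w.1 ⟨x, (hAle w hxA).1⟩, Set.mem_iUnion₂.2 ⟨w, hw, ⟨x, (hAle w hxA).1⟩, hxA, rfl⟩, ?_⟩
      rw [← Scheme.Hom.comp_apply, Sigma.ι_desc]; rfl

variable {I : Type u} {U : I → Scheme.{u}} {g : ∀ a, U a ⟶ S}

/-- The projections from the members of a covering family form a covering of any object. -/
theorem covers_fst (hg : Presieve.ofArrows U g ∈ Scheme.fpqcPrecoverage S) (Y : Over S) :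
    FpqcDescLib.Covers (Sigma.desc fun a => (fst Y (Over.mk (g a))).left) := by
  have hbc : Presieve.ofArrows (fun a => pullback Y.hom (g a)) (fun a => pullback.fst Y.hom (g a)) ∈
      Scheme.fpqcPrecoverage Y.left :=
    Precoverage.mem_coverings_of_isPullback (J := Scheme.fpqcPrecoverage) g hg Y.hom _ (fun a => pullback.snd Y.hom (g a))
      fun a => IsPullback.of_hasPullback Y.hom (g a)
  let E : PreZeroHypercover.{u} Y.left := ⟨I, fun a => pullback Y.hom (g a), fun a => pullback.fst Y.hom (g a)⟩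
  have := (HTopCov.fpqc_sigma_iff E).1 hbc
  exact FpqcDescLib.covers_of_isCovering this

/-- Morphisms agreeing on a covering family agree. -/
theorem hom_ext_family (hg : Presieve.ofArrows U g ∈ Scheme.fpqcPrecoverage S) {Y K : Over S} {x y : Y ⟶ K}
    (h : ∀ a, fst Y (Over.mk (g a)) ≫ x = fst Y (Over.mk (g a)) ≫ y) : x = y := by
  haveI := (covers_fst hg Y).epi
  apply Over.OverMorphism.ext
  rw [← cancel_epi (Sigma.desc fun a => (fst Y (Over.mk (g a))).left)]
  refine Sigma.hom_ext _ _ fun a => ?_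
  rw [Sigma.ι_desc_assoc, Sigma.ι_desc_assoc, ← Over.comp_left, h]
  rfl

end Groth.Agent.SGA7X.Transpose
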