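import Groth.Agent.S2787
import Groth.Agent.S4936
import Groth.Agent.UnibEtale.Basic
import Groth.Agent.FibDim.AffineSpaceFibre
import Mathlib.AlgebraicGeometry.Morphisms.Smooth
import Mathlib.AlgebraicGeometry.Morphisms.Etale
import Mathlib.RingTheory.RingHom.StandardSmooth

/-! # Components of smooth schemes over geometrically unibranch irreducible schemes -/

set_option autoImplicit false
set_option linter.style.haveILetI false
set_option backward.isDefEq.respectTransparency.types false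

universe u

open CategoryTheory CategoryTheory.Limits AlgebraicGeometry Topology

namespace Groth.Agent.SGA7X.UnibComp

variable {X S : Scheme.{u}}

theorem irreducibleSpace_affineSpace (Y : Scheme.{u}) [IrreducibleSpace Y] (d : ℕ) :
    IrreducibleSpace ↥𝔸(ULift.{u} (Fin d); Y) := by
  let π := 𝔸(ULift.{u} (Fin d); Y) ↘ Y
  have hf : ∀ y, IsIrreducible (π ⁻¹' {y}) := fun y => by
    haveI := (FibDim.affineSpace_fibre (Y := Y) d y).1
    rw [← Scheme.Hom.range_fiberι, ← Set.image_univ]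
    exact (IrreducibleSpace.isIrreducible_univ _).image _ (π.fiberι y).continuous.continuousOn
  obtain ⟨x, -⟩ := (hf (genericPoint Y)).nonempty
  have h : IsIrreducible (π ⁻¹' (Set.univ : Set Y)) :=
    (IrreducibleSpace.isIrreducible_univ Y).preimage_of_isPreirreducible_fiber π
      (AffineSpace.isOpenMap_over (n := ULift.{u} (Fin d)) Y) (fun y => (hf y).2)
      ⟨π x, trivial, x, rfl⟩
  rw [Set.preimage_univ] at h
  exact irreducibleSpace_def _ |>.2 h

/-- Smooth morphisms are locally étale over affine spaces over affine opens. -/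
theorem exists_chart (f : X ⟶ S) [Smooth f] (x : X) :
    ∃ (W : X.Opens) (A : CommRingCat.{u}) (i : Spec A ⟶ S) (d : ℕ)
      (h : (W : Scheme.{u}) ⟶ 𝔸(ULift.{u} (Fin d); Spec A)), x ∈ W ∧ IsOpenImmersion i ∧ Nonempty (Spec A) ∧
        Etale h := by
  obtain ⟨U, hU, V, hV, hxV, hle, hst⟩ := Smooth.exists_isStandardSmooth f x
  obtain ⟨d, g, -, hge⟩ := RingHom.IsStandardSmooth.exists_etale_mvPolynomial hst
  let r : MvPolynomial (Fin d) Γ(S, U) ≃+* MvPolynomial (ULift.{u} (Fin d)) Γ(S, U) :=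
    (MvPolynomial.renameEquiv Γ(S, U) Equiv.ulift.symm).toRingEquiv
  let g' : CommRingCat.of (MvPolynomial (ULift.{u} (Fin d)) Γ(S, U)) ⟶ Γ(X, V) :=
    r.toCommRingCatIso.inv ≫ CommRingCat.ofHom g
  haveI : IsAffine (V : Scheme.{u}) := hV
  haveI : Etale (Spec.map (CommRingCat.ofHom g)) := (HasRingHomProperty.Spec_iff (P := @Etale)).2 hge
  haveI : Etale (Spec.map g') := by rw [Spec.map_comp]; infer_instance
  exact ⟨V, Γ(S, U), hU.fromSpec, d, hV.isoSpec.hom ≫ Spec.map g' ≫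
    (AffineSpace.SpecIso (ULift.{u} (Fin d)) Γ(S, U)).inv, hxV, inferInstance,
    ⟨hU.isoSpec.hom ⟨f x, hle hxV⟩⟩, inferInstance⟩

/-- In a smooth scheme over an irreducible geometrically unibranch scheme two generizations of a
point have a common generization. -/
theorem exists_common_gen [IrreducibleSpace S] (hS : ∀ s : S, CAlg2.IsGeomUnibranch (S.presheaf.stalk s))
    (f : X ⟶ S) [Smooth f] {x γ γ' : X} (h : γ ⤳ x) (h' : γ' ⤳ x) : ∃ δ, δ ⤳ γ ∧ δ ⤳ γ' := by
  obtain ⟨W, A, i, d, c, hxW, hi, hne, hc⟩ := exists_chart f x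
  haveI : IrreducibleSpace ↥(Spec A) :=
    { toPreirreducibleSpace := i.isOpenEmbedding.preirreducibleSpace, toNonempty := hne }
  haveI := irreducibleSpace_affineSpace (Spec A) d
  have hA : ∀ t : Spec A, CAlg2.IsGeomUnibranch ((Spec A).presheaf.stalk t) := fun t =>
    UnibEtale.isGeomUnibranch_of_ringEquiv (asIso (i.stalkMap t)).commRingCatIsoToRingEquiv (hS (i t))
  obtain ⟨Z, ⟨hZ, hxZ⟩, hZu⟩ := (Groth.Agent.S2787.result c fun y => Groth.Agent.S4936.result d y (hA _)).1 ⟨x, hxW⟩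
  have hgen : ∀ w : X, w ⤳ x → ∃ hw : w ∈ W, (⟨w, hw⟩ : (W : Scheme.{u})) ∈ Z := by
    intro w hw
    have hwW : w ∈ W := hw.mem_open W.2 hxW
    refine ⟨hwW, ?_⟩
    let w' : (W : Scheme.{u}) := ⟨w, hwW⟩
    have hsp : w' ⤳ (⟨x, hxW⟩ : (W : Scheme.{u})) := W.ι.isEmbedding.isInducing.specializes_iff.1 hw
    rw [← hZu (irreducibleComponent w') ⟨irreducibleComponent_mem_irreducibleComponents w',
      hsp.mem_closed isClosed_irreducibleComponent mem_irreducibleComponent⟩]
    exact mem_irreducibleComponent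
  have hg := hZ.1.isGenericPoint_genericPoint (isClosed_of_mem_irreducibleComponents Z hZ)
  obtain ⟨_, hγ⟩ := hgen γ h
  obtain ⟨_, hγ'⟩ := hgen γ' h'
  exact ⟨(hZ.1.genericPoint : (W : Scheme.{u})).1, (hg.specializes hγ).map W.ι.continuous,
    (hg.specializes hγ').map W.ι.continuous⟩

/-- In a smooth scheme over an irreducible scheme, the maximal points lie in the generic fibre. -/
theorem apply_max [IrreducibleSpace S] (f : X ⟶ S) [Smooth f] {δ : X} (hδ : ∀ w, w ⤳ δ → w = δ) :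
    f δ = genericPoint S := by
  obtain ⟨w, hw, hfw⟩ := Flat.generalizingMap (f := f) ((genericPoint_spec S).specializes (Set.mem_univ (f δ)))
  rw [← hδ w hw, hfw]

/-- An affine smooth scheme over an affine irreducible scheme has finitely many maximal points. -/
theorem finite_max [IrreducibleSpace S] [IsAffine X] [IsAffine S] (f : X ⟶ S) [Smooth f] :
    {δ : X | ∀ w, w ⤳ δ → w = δ}.Finite := by
  let η : S := genericPoint S
  haveI : IsLocallyNoetherian (f.fiber η) :=
    LocallyOfFiniteType.isLocallyNoetherian (f.fiberToSpecResidueField η)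
  haveI : CompactSpace (f.fiber η) := inferInstance
  haveI : AlgebraicGeometry.IsNoetherian (f.fiber η) := {}
  haveI : TopologicalSpace.NoetherianSpace (f.fiber η) := inferInstance
  haveI := (TopologicalSpace.NoetherianSpace.finite_irreducibleComponents
    (α := f.fiber η)).to_subtype
  let F := f.fiberι η
  have hex : ∀ δ : {δ : X | ∀ w, w ⤳ δ → w = δ}, ∃ a : f.fiber η, F a = δ.1 := fun δ =>
    (f.range_fiberι η).ge (apply_max f δ.2)
  choose a ha using hex
  let φ : {δ : X | ∀ w, w ⤳ δ → w = δ} → irreducibleComponents (f.fiber η) :=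
    fun δ => ⟨irreducibleComponent (a δ), irreducibleComponent_mem_irreducibleComponents _⟩
  refine Set.finite_coe_iff.1 (Finite.of_injective φ fun δ δ' he => ?_)
  have hirr := (isIrreducible_irreducibleComponent (x := a δ))
  have hg := hirr.isGenericPoint_genericPoint isClosed_irreducibleComponent
  have key : ∀ y, a y ∈ irreducibleComponent (a δ) → F hirr.genericPoint = y.1 := fun y hy =>
    y.2 _ (ha y ▸ (hg.specializes hy).map F.continuous)
  apply Subtype.ext
  rw [← key δ mem_irreducibleComponent, ← key δ' (by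
    rw [show irreducibleComponent (a δ) = irreducibleComponent (a δ') from congrArg Subtype.val he]
    exact mem_irreducibleComponent)]

/-- A union of components of a smooth scheme over an irreducible geometrically unibranch scheme is
open and closed. -/
theorem isClopen_union [IrreducibleSpace S] (hS : ∀ s : S, CAlg2.IsGeomUnibranch (S.presheaf.stalk s))
    (f : X ⟶ S) [Smooth f] (D : Set X) (hD : ∀ δ ∈ D, ∀ w, w ⤳ δ → w = δ) :
    IsClopen {x : X | ∃ δ ∈ D, δ ⤳ x} := by
  have hmax : ∀ x : X, ∃ δ, δ ⤳ x ∧ ∀ w, w ⤳ δ → w = δ := fun x => FibDim.exists_maximal_generization x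
  have hclosed : ∀ D : Set X, (∀ δ ∈ D, ∀ w, w ⤳ δ → w = δ) → IsClosed {x : X | ∃ δ ∈ D, δ ⤳ x} := by
    intro D hD
    rw [← isOpen_compl_iff, isOpen_iff_forall_mem_open]
    intro x hx
    obtain ⟨_, ⟨U₀, hU, rfl⟩, hfxU, -⟩ :=
      S.isBasis_affineOpens.exists_subset_of_mem_open (Set.mem_univ (f x)) isOpen_univ
    let U : S.Opens := U₀
    obtain ⟨_, ⟨O₀, hO, rfl⟩, hxO, hOU⟩ :=
      X.isBasis_affineOpens.exists_subset_of_mem_open (show x ∈ f ⁻¹ᵁ U from hfxU) (f ⁻¹ᵁ U).2
    let O : X.Opens := O₀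
    haveI : IsAffine (U : Scheme.{u}) := hU
    haveI : IsAffine (O : Scheme.{u}) := hO
    haveI : IrreducibleSpace (U : Scheme.{u}) :=
      { toPreirreducibleSpace := U.ι.isOpenEmbedding.preirreducibleSpace, toNonempty := ⟨⟨f x, hfxU⟩⟩ }
    haveI : Smooth (f.resLE U O hOU) := inferInstance
    let M := Subtype.val '' {δ : (O : Scheme.{u}) | ∀ w, w ⤳ δ → w = δ}
    have hM : (D ∩ (O : Set X)) ⊆ M := fun δ ⟨hd, hdO⟩ => ⟨⟨δ, hdO⟩, fun w hw =>
      Subtype.ext (hD δ hd _ (hw.map O.ι.continuous)), rfl⟩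
    have hfin : (D ∩ (O : Set X)).Finite := ((finite_max (f.resLE U O hOU)).image _).subset hM
    refine ⟨(O : Set X) ∩ (⋃ δ ∈ D ∩ (O : Set X), closure {δ})ᶜ, ?_,
      O.2.inter (hfin.isClosed_biUnion fun δ _ => isClosed_closure).isOpen_compl, hxO, fun h => ?_⟩
    · rintro z ⟨hzO, hz⟩ ⟨δ, hd, hdz⟩
      exact hz (Set.mem_iUnion₂.2 ⟨δ, ⟨hd, hdz.mem_open O.2 hzO⟩, specializes_iff_mem_closure.1 hdz⟩)
    · obtain ⟨δ, hd, hdx⟩ := Set.mem_iUnion₂.1 h
      exact hx ⟨δ, hd.1, specializes_iff_mem_closure.2 hdx⟩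
  refine ⟨hclosed D hD, isClosed_compl_iff.1 ?_⟩
  have : {x : X | ∃ δ ∈ D, δ ⤳ x}ᶜ = {x : X | ∃ δ ∈ {δ | δ ∉ D ∧ ∀ w, w ⤳ δ → w = δ}, δ ⤳ x} := by
    ext x
    refine ⟨fun hx => ?_, fun ⟨δ, hd, hdx⟩ ⟨δ', hd', hd'x⟩ => ?_⟩
    · obtain ⟨δ, hdx, hd⟩ := hmax x
      exact ⟨δ, ⟨fun h => hx ⟨δ, h, hdx⟩, hd⟩, hdx⟩
    · obtain ⟨ε, he, he'⟩ := exists_common_gen hS f hdx hd'x
      exact hd.1 ((hd.2 _ he).symm.trans (hD _ hd' _ he') ▸ hd')
  rw [this]
  exact hclosed _ fun δ hd => hd.2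

end Groth.Agent.SGA7X.UnibComp
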